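import Cfsg.Agent.Lib.MathieuTwentyThree.BlockGram
import Cfsg.Agent.Lib.Steiner.WittAut
import Cfsg.Prelude.Def_Spor_Mathieu

/-!
The points of a block graph form an S(4,7,23), so the group acting is the Mathieu group of degree twenty-three.
-/

set_option autoImplicit false
set_option linter.unusedSectionVars false

namespace CfsgLib.MathieuTwentyThree

open Finset

universe u v

variable {G : Type u} {V : Type v} [Group G] [MulAction G V] [Fintype V] [DecidableEq V]

namespace BlockData

variable (D : BlockData G V)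

/-- All points, as sets of blocks. -/
def points : Finset (Finset V) := univ.biUnion fun E => (D.cells E).image (D.supp E)

theorem mem_points {p : Finset V} : p ∈ D.points ↔ ∃ E, ∃ C ∈ D.cells E, D.supp E C = p := by
  simp [points]

theorem card_point {p : Finset V} (hp : p ∈ D.points) : p.card = 77 := by
  obtain ⟨E, C, hC, rfl⟩ := D.mem_points.1 hp
  exact D.card_supp hC

theorem points_at (F : V) : D.points.filter (fun p => F ∈ p) = (D.cells F).image (D.supp F) := by
  ext p
  rw [Finset.mem_filter, Finset.mem_image, mem_points]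
  constructor
  · rintro ⟨⟨E, C, hC, rfl⟩, hF⟩
    exact D.exists_cell_of_mem_supp hC hF
  · rintro ⟨C, hC, rfl⟩
    exact ⟨⟨F, C, hC, rfl⟩, D.mem_supp.2 (D.vec_self hC)⟩

theorem supp_injOn (E : V) : Set.InjOn (D.supp E) (D.cells E : Set (Finset V)) := by
  intro C hC C' hC' h
  obtain ⟨F, hF, rfl⟩ := D.mem_cells.1 hC
  have h1 : F ∈ D.supp E C' := h ▸ (D.supp_inter_cells hC hF).2 (D.self_mem E F hF)
  exact D.cell_eq_of_mem_cells hC' ((D.supp_inter_cells hC' hF).1 h1)

theorem card_points_at (F : V) : (D.points.filter fun p => F ∈ p).card = 7 := by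
  rw [D.points_at, Finset.card_image_of_injOn (D.supp_injOn F), D.card_cells]

theorem card_points : D.points.card = 23 := by
  have h : ∑ p ∈ D.points, p.card = ∑ F : V, (D.points.filter fun p => F ∈ p).card := by
    simp only [Finset.card_filter]
    rw [Finset.sum_comm]
    refine Finset.sum_congr rfl fun p _ => ?_
    rw [← Finset.card_filter, Finset.filter_univ_mem]
  rw [Finset.sum_congr rfl fun p hp => D.card_point hp, Finset.sum_congr rfl fun F _ => D.card_points_at F,
    Finset.sum_const, Finset.sum_const, Finset.card_univ, D.srg.card, smul_eq_mul, smul_eq_mul] at h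
  omega

/-- Two blocks share at most three points. -/
theorem card_common_points {E F : V} (hne : E ≠ F) :
    ((D.points.filter fun p => E ∈ p).filter fun p => F ∈ p).card ≤ 3 := by
  rw [D.points_at, Finset.filter_image]
  refine Finset.card_image_le.trans ?_
  by_cases ha : D.Γ.Adj E F
  · refine le_trans (Finset.card_le_one.2 fun C hC C' hC' => ?_) (by norm_num)
    obtain ⟨hC, hF⟩ := Finset.mem_filter.1 hC
    obtain ⟨hC', hF'⟩ := Finset.mem_filter.1 hC'
    rw [← D.cell_eq_of_mem_cells hC ((D.supp_inter_cells hC ha).1 hF),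
      ← D.cell_eq_of_mem_cells hC' ((D.supp_inter_cells hC' ha).1 hF')]
  · obtain ⟨T, hT, hT3, hTc⟩ := D.vec_far hne ha
    rw [← hT3]
    refine Finset.card_le_card fun C hC => ?_
    obtain ⟨hC, hF⟩ := Finset.mem_filter.1 hC
    have h := D.mem_supp.1 hF
    rw [hTc C hC] at h
    by_contra hn
    rw [if_neg hn] at h
    norm_num at h

/-- The point type. -/
abbrev Point : Type v := {p // p ∈ D.points}

/-- The points of a block. -/
def blockSet (F : V) : Finset D.Point := univ.filter fun p => F ∈ p.1

theorem mem_blockSet {F : V} {p : D.Point} : p ∈ D.blockSet F ↔ F ∈ p.1 := by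
  simp [blockSet]

theorem blockSet_map (F : V) :
    (D.blockSet F).map (Function.Embedding.subtype _) = D.points.filter fun p => F ∈ p := by
  ext p
  simp only [Finset.mem_map, Function.Embedding.subtype, Function.Embedding.coeFn_mk, mem_blockSet,
    Finset.mem_filter]
  exact ⟨fun ⟨q, hq, e⟩ => e ▸ ⟨q.2, hq⟩, fun ⟨hp, hF⟩ => ⟨⟨p, hp⟩, hF, rfl⟩⟩

theorem card_blockSet (F : V) : (D.blockSet F).card = 7 := by
  rw [← Finset.card_map (Function.Embedding.subtype _), D.blockSet_map, D.card_points_at]

theorem card_blockSet_inter {E F : V} (hne : E ≠ F) : (D.blockSet E ∩ D.blockSet F).card ≤ 3 := by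
  refine le_trans (le_of_eq ?_) (D.card_common_points hne)
  rw [← Finset.card_map (Function.Embedding.subtype _)]
  congr 1
  ext p
  simp only [Finset.mem_map, Function.Embedding.subtype, Function.Embedding.coeFn_mk, Finset.mem_inter,
    mem_blockSet, Finset.mem_filter]
  exact ⟨fun ⟨q, hq, e⟩ => e ▸ ⟨⟨q.2, hq.1⟩, hq.2⟩, fun ⟨⟨hp, hE⟩, hF⟩ => ⟨⟨p, hp⟩, ⟨hE, hF⟩, rfl⟩⟩

theorem blockSet_injective : Function.Injective D.blockSet := by
  intro E F h
  by_contra hne
  have := D.card_blockSet_inter hne
  rw [h, Finset.inter_self, D.card_blockSet] at this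
  omega

theorem card_point_type : Fintype.card D.Point = 23 := by
  rw [Fintype.card_coe, D.card_points]

theorem isSteinerSystem : Cfsg.IsSteinerSystem 4 7 (Set.range D.blockSet) := by
  classical
  refine ⟨?_, ?_⟩
  · rintro b ⟨F, rfl⟩
    exact D.card_blockSet F
  have huniq : ∀ (s : Finset D.Point), s.card = 4 → ∀ E F, s ⊆ D.blockSet E → s ⊆ D.blockSet F → E = F := by
    intro s hs E F hE hF
    by_contra hne
    have := (Finset.card_le_card (Finset.subset_inter hE hF)).trans (D.card_blockSet_inter hne)
    omega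
  have hU : (univ.biUnion fun F => (D.blockSet F).powersetCard 4) = (univ : Finset D.Point).powersetCard 4 := by
    refine Finset.eq_of_subset_of_card_le ?_ ?_
    · intro s hs
      obtain ⟨F, -, hs⟩ := Finset.mem_biUnion.1 hs
      exact Finset.mem_powersetCard.2 ⟨Finset.subset_univ _, (Finset.mem_powersetCard.1 hs).2⟩
    · rw [Finset.card_biUnion, Finset.sum_congr rfl fun F _ => by
        rw [Finset.card_powersetCard, D.card_blockSet], Finset.card_powersetCard, Finset.card_univ,
        D.card_point_type, Finset.sum_const, Finset.card_univ, D.srg.card, smul_eq_mul]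
      · decide
      · intro E _ F _ hne
        rw [Function.onFun, Finset.disjoint_left]
        intro s hs hs'
        obtain ⟨h1, h2⟩ := Finset.mem_powersetCard.1 hs
        exact hne (huniq s h2 E F h1 (Finset.mem_powersetCard.1 hs').1)
  intro s hs
  have hmem : s ∈ univ.biUnion fun F => (D.blockSet F).powersetCard 4 := by
    rw [hU]; exact Finset.mem_powersetCard.2 ⟨Finset.subset_univ _, hs⟩
  obtain ⟨F, -, hF⟩ := Finset.mem_biUnion.1 hmem
  refine ⟨D.blockSet F, ⟨⟨F, rfl⟩, (Finset.mem_powersetCard.1 hF).1⟩, ?_⟩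
  rintro _ ⟨⟨E, rfl⟩, hE⟩
  rw [huniq s hs E F hE (Finset.mem_powersetCard.1 hF).1]

theorem image_mem_points (g : G) {p : Finset V} (hp : p ∈ D.points) : p.image (g • ·) ∈ D.points := by
  obtain ⟨E, C, hC, rfl⟩ := D.mem_points.1 hp
  rw [← D.supp_smul]
  exact D.mem_points.2 ⟨_, _, D.cells_smul g hC, rfl⟩

/-- The permutation of the points given by a group element. -/
def pointPerm (g : G) : Equiv.Perm D.Point where
  toFun p := ⟨p.1.image (g • ·), D.image_mem_points g p.2⟩
  invFun p := ⟨p.1.image (g⁻¹ • ·), D.image_mem_points g⁻¹ p.2⟩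
  left_inv p := Subtype.ext (by simp [Finset.image_image, Function.comp_def])
  right_inv p := Subtype.ext (by simp [Finset.image_image, Function.comp_def])

theorem pointPerm_mul (g h : G) : D.pointPerm (g * h) = D.pointPerm g * D.pointPerm h := by
  ext p : 2
  simp [pointPerm, Finset.image_image, Function.comp_def, mul_smul]

theorem blockSet_smul (g : G) (F : V) : (D.blockSet F).image (D.pointPerm g) = D.blockSet (g • F) := by
  ext p
  obtain ⟨q, rfl⟩ := (D.pointPerm g).surjective p
  rw [(D.pointPerm g).injective.mem_finset_image, mem_blockSet, mem_blockSet]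
  exact ((MulAction.injective g).mem_finset_image).symm

theorem pointPerm_mem (g : G) : D.pointPerm g ∈ Cfsg.setSystemAut (Set.range D.blockSet) := by
  rw [CfsgLib.Steiner.mem_setSystemAut_iff]
  ext b
  constructor
  · rintro ⟨_, ⟨F, rfl⟩, rfl⟩
    exact ⟨g • F, (D.blockSet_smul g F).symm⟩
  · rintro ⟨F, rfl⟩
    exact ⟨_, ⟨g⁻¹ • F, rfl⟩, (D.blockSet_smul g _).trans (by rw [smul_inv_smul])⟩

/-- A group of that order acting faithfully on such a graph is the Mathieu group of degree twenty-three. -/
theorem nonempty_equiv_sporM23 (D : BlockData G V) [Finite G] [FaithfulSMul G V] (hG : Nat.card G = 10200960) :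
    Nonempty (G ≃* Cfsg.Spor.M23) := by
  classical
  obtain ⟨-, -, -, ⟨ψ⟩⟩ := CfsgLib.Steiner.Witt.exists_aut_equiv (W := {none}) (Or.inr (Or.inl rfl))
    (CfsgLib.Steiner.Witt.iso_std23 D.card_point_type D.isSteinerSystem)
  let f : G →* Cfsg.setSystemAut (Set.range D.blockSet) :=
    MonoidHom.mk' (fun g => ⟨D.pointPerm g, D.pointPerm_mem g⟩) fun g h => Subtype.ext (D.pointPerm_mul g h)
  have hf : Function.Injective f := by
    intro g h e
    refine eq_of_smul_eq_smul fun F : V => D.blockSet_injective ?_
    rw [← D.blockSet_smul, ← D.blockSet_smul, show D.pointPerm g = D.pointPerm h from congrArg Subtype.val e]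
  let k : G →* CfsgLib.Steiner.Witt.setStab {none} := ψ.toMonoidHom.comp f
  have hk : Function.Injective k := ψ.injective.comp hf
  have hb : Function.Bijective k := by
    haveI : Finite (CfsgLib.Steiner.Witt.setStab {none}) := inferInstance
    refine (Nat.bijective_iff_injective_and_card k).2 ⟨hk, ?_⟩
    rw [hG, CfsgLib.Steiner.Witt.natCard_setStab_singleton]
  exact ⟨((MulEquiv.ofBijective k hb).trans
    (MulEquiv.subgroupCongr CfsgLib.Steiner.Witt.setStab_singleton)).trans
    (MulEquiv.subgroupCongr CfsgLib.Golay.sporM23_eq.symm)⟩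

end BlockData

end CfsgLib.MathieuTwentyThree
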