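import Cfsg.Agent.Lib.MathieuTwentyThree.Cells
import Cfsg.Agent.Lib.MathieuTwentyThree.BlockDesign

/-!
A simple group with such an elementary subgroup of order 16 is the Mathieu group of degree twenty-three.
-/

set_option autoImplicit false

namespace CfsgLib.MathieuTwentyThree

variable {G : Type*} [Group G] [Finite G]

theorem nonempty_equiv_of_local [IsSimpleGroup G] {E : Subgroup G} (hE : Local E) :
    Nonempty (G ≃* Cfsg.Spor.M23) := by
  haveI := Blk.faithful hE
  exact (Blk.blockData hE).nonempty_equiv_sporM23 hE.order

end CfsgLib.MathieuTwentyThree
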