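import Mathlib

/-!
Reconstruction of the 23 points from the graph on 253 blocks: blocks meeting in one point are adjacent.

With `ker = 112` on the diagonal, `-26` on edges and `20` on non-edges the rows have inner products `1288`
times that matrix. A point is a vector of value `256` on 77 blocks and `-112` on the others.
-/

set_option autoImplicit false
set_option linter.unusedSectionVars false

namespace CfsgLib.MathieuTwentyThree

open Finset

variable {G V : Type*} [Group G] [MulAction G V] [Fintype V] [DecidableEq V]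

/-- A rank three graph on 253 blocks in which the neighbours of each block fall into seven cells. -/
structure BlockData (G : Type*) [Group G] (V : Type*) [MulAction G V] [Fintype V] [DecidableEq V] where
  /-- the graph -/
  Γ : SimpleGraph V
  dec : DecidableRel Γ.Adj
  srg : Γ.IsSRGWith 253 112 36 60
  adj_smul : ∀ (g : G) (x y : V), Γ.Adj (g • x) (g • y) ↔ Γ.Adj x y
  /-- the cell of a neighbour -/
  cell : V → V → Finset V
  self_mem : ∀ E F, Γ.Adj E F → F ∈ cell E F
  card_cell : ∀ E F, Γ.Adj E F → (cell E F).card = 16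
  cell_adj : ∀ E F, Γ.Adj E F → ∀ F' ∈ cell E F, Γ.Adj E F'
  cell_eq : ∀ E F, Γ.Adj E F → ∀ F' ∈ cell E F, cell E F' = cell E F
  cell_smul : ∀ (g : G) (E F : V), Γ.Adj E F → cell (g • E) (g • F) = (cell E F).image (g • ·)
  inner : ∀ E F, Γ.Adj E F → ∀ F₁ ∈ cell E F, ∀ F₂ ∈ cell E F, F₁ ≠ F → F₂ ≠ F →
    ∃ g : G, g • E = E ∧ g • F = F ∧ g • F₁ = F₂
  outer : ∀ E F, Γ.Adj E F → ∀ F₁ F₂, Γ.Adj E F₁ → Γ.Adj E F₂ → F₁ ∉ cell E F → F₂ ∉ cell E F →
    ∃ g : G, g • E = E ∧ g • F = F ∧ cell E (g • F₁) = cell E F₂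
  triples : ∀ E, ∃ a b : ℕ, ∀ F, E ≠ F → ¬ Γ.Adj E F →
    ∃ T : Finset (Finset V), T ⊆ (Γ.neighborFinset E).image (cell E) ∧ T.card = 3 ∧
      ∀ C ∈ (Γ.neighborFinset E).image (cell E),
        (C.filter fun z => Γ.Adj F z).card = if C ∈ T then a else b

attribute [instance] BlockData.dec

namespace BlockData

variable (D : BlockData G V)

theorem adj_ne {x y : V} (h : D.Γ.Adj x y) : x ≠ y := h.ne

theorem eq_cell_iff {E F F' : V} (h : D.Γ.Adj E F) (h' : D.Γ.Adj E F') :
    D.cell E F' = D.cell E F ↔ F' ∈ D.cell E F :=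
  ⟨fun e => e ▸ D.self_mem E F' h', D.cell_eq E F h F'⟩

theorem disjoint_cell {E F F' : V} (h : D.Γ.Adj E F) (h' : D.Γ.Adj E F') (hne : F' ∉ D.cell E F) :
    Disjoint (D.cell E F) (D.cell E F') := by
  rw [Finset.disjoint_left]
  intro z hz hz'
  refine hne ((D.eq_cell_iff h h').1 ?_)
  rw [← D.cell_eq E F' h' z hz', D.cell_eq E F h z hz]

/-- The cells at a block. -/
def cells (E : V) : Finset (Finset V) := (D.Γ.neighborFinset E).image (D.cell E)

theorem mem_cells {E : V} {C : Finset V} :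
    C ∈ D.cells E ↔ ∃ F, D.Γ.Adj E F ∧ D.cell E F = C := by
  simp [cells]

theorem cell_eq_of_mem_cells {E : V} {C : Finset V} (hC : C ∈ D.cells E) {z : V} (hz : z ∈ C) :
    D.cell E z = C := by
  obtain ⟨F, hF, rfl⟩ := D.mem_cells.1 hC
  exact D.cell_eq E F hF z hz

theorem adj_of_mem_cells {E : V} {C : Finset V} (hC : C ∈ D.cells E) {z : V} (hz : z ∈ C) :
    D.Γ.Adj E z := by
  obtain ⟨F, hF, rfl⟩ := D.mem_cells.1 hC
  exact D.cell_adj E F hF z hz

theorem card_of_mem_cells {E : V} {C : Finset V} (hC : C ∈ D.cells E) : C.card = 16 := by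
  obtain ⟨F, hF, rfl⟩ := D.mem_cells.1 hC
  exact D.card_cell E F hF

theorem sum_cells {M : Type*} [AddCommMonoid M] (E : V) (f : V → M) :
    ∑ z ∈ D.Γ.neighborFinset E, f z = ∑ C ∈ D.cells E, ∑ z ∈ C, f z := by
  rw [← Finset.sum_fiberwise_of_maps_to (g := D.cell E) (t := D.cells E)
    (fun z hz => Finset.mem_image_of_mem _ hz)]
  refine Finset.sum_congr rfl fun C hC => Finset.sum_congr ?_ fun _ _ => rfl
  ext z
  rw [Finset.mem_filter, SimpleGraph.mem_neighborFinset]
  constructor
  · rintro ⟨h, rfl⟩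
    exact D.self_mem E z h
  · exact fun hz => ⟨D.adj_of_mem_cells hC hz, D.cell_eq_of_mem_cells hC hz⟩

theorem card_cells (E : V) : (D.cells E).card = 7 := by
  have h := D.sum_cells E (fun _ => 1)
  simp only [Finset.sum_const, smul_eq_mul, mul_one] at h
  rw [SimpleGraph.card_neighborFinset_eq_degree, D.srg.regular E,
    Finset.sum_congr rfl fun C hC => D.card_of_mem_cells hC, Finset.sum_const, smul_eq_mul] at h
  omega

theorem card_common {x y : V} (hne : x ≠ y) :
    (univ.filter fun z => D.Γ.Adj x z ∧ D.Γ.Adj y z).card = if D.Γ.Adj x y then 36 else 60 := by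
  have h : (univ.filter fun z => D.Γ.Adj x z ∧ D.Γ.Adj y z).card =
      Fintype.card (D.Γ.commonNeighbors x y) := by
    rw [← Set.toFinset_card]; congr 1; ext z; simp [SimpleGraph.mem_commonNeighbors]
  rw [h]
  split_ifs with ha
  · exact D.srg.of_adj x y ha
  · exact D.srg.of_not_adj hne ha

theorem card_adj_inter {E F : V} (hne : F ≠ E) :
    ∑ C ∈ D.cells E, (C.filter fun z => D.Γ.Adj F z).card = if D.Γ.Adj E F then 36 else 60 := by
  rw [← D.card_common (Ne.symm hne)]
  simp only [Finset.card_filter]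
  rw [← D.sum_cells E fun z => if D.Γ.Adj F z then 1 else 0, ← Finset.card_filter, ← Finset.card_filter]
  congr 1
  ext z
  simp [and_comm]

/-- Adjacency counts within and between the cells. -/
theorem card_adj_cell {E F : V} (hF : D.Γ.Adj E F) :
    ((D.cell E F).filter fun z => D.Γ.Adj F z).card = 0 ∧
      ∀ C ∈ D.cells E, C ≠ D.cell E F → (C.filter fun z => D.Γ.Adj F z).card = 6 := by
  classical
  set C₀ := D.cell E F with hC₀
  have hC₀mem : C₀ ∈ D.cells E := D.mem_cells.2 ⟨F, hF, rfl⟩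
  -- all other cells carry the same number
  have hsame : ∀ C ∈ D.cells E, ∀ C' ∈ D.cells E, C ≠ C₀ → C' ≠ C₀ →
      (C.filter fun z => D.Γ.Adj F z).card = (C'.filter fun z => D.Γ.Adj F z).card := by
    intro C hC C' hC' hne hne'
    obtain ⟨F₁, h1, rfl⟩ := D.mem_cells.1 hC
    obtain ⟨F₂, h2, rfl⟩ := D.mem_cells.1 hC'
    obtain ⟨g, hgE, hgF, hg⟩ := D.outer E F hF F₁ F₂ h1 h2
      (fun h => hne (D.cell_eq E F hF F₁ h)) (fun h => hne' (D.cell_eq E F hF F₂ h))
    have himg := D.cell_smul g E F₁ h1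
    rw [hgE, hg] at himg
    rw [himg, Finset.filter_image, Finset.card_image_of_injective _ (MulAction.injective g)]
    congr 1
    refine Finset.filter_congr fun z _ => ?_
    conv_rhs => rw [← hgF, D.adj_smul]
  -- inside the cell
  have hin : (C₀.filter fun z => D.Γ.Adj F z).card = 0 ∨ (C₀.filter fun z => D.Γ.Adj F z).card = 15 := by
    rcases (C₀.filter fun z => D.Γ.Adj F z).eq_empty_or_nonempty with h | ⟨z, hz⟩
    · exact Or.inl (by rw [h, Finset.card_empty])
    · right
      obtain ⟨hz, hFz⟩ := Finset.mem_filter.1 hz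
      have heq : C₀.filter (fun z => D.Γ.Adj F z) = C₀.erase F := by
        ext w
        rw [Finset.mem_filter, Finset.mem_erase]
        refine ⟨fun h => ⟨h.2.ne.symm, h.1⟩, fun h => ⟨h.2, ?_⟩⟩
        obtain ⟨g, -, hgF, hgw⟩ := D.inner E F hF z hz w h.2 hFz.ne.symm h.1
        rw [← hgw, ← hgF, D.adj_smul]
        exact hFz
      rw [heq, Finset.card_erase_of_mem (D.self_mem E F hF), D.card_cell E F hF]
  obtain ⟨C₁, hC₁, hne₁⟩ : ∃ C ∈ D.cells E, C ≠ C₀ :=
    Finset.exists_mem_ne (by rw [D.card_cells E]; norm_num) C₀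
  have htot := D.card_adj_inter (E := E) (Ne.symm hF.ne)
  rw [if_pos hF, ← Finset.add_sum_erase _ _ hC₀mem,
    Finset.sum_congr rfl fun C hC =>
      hsame C (Finset.mem_of_mem_erase hC) C₁ hC₁ (Finset.ne_of_mem_erase hC) hne₁,
    Finset.sum_const, Finset.card_erase_of_mem hC₀mem, D.card_cells E, smul_eq_mul] at htot
  refine ⟨by omega, fun C hC hne => ?_⟩
  rw [hsame C hC C₁ hC₁ hne hne₁]
  omega

/-- The Gram matrix. -/
def ker (x y : V) : ℤ := (if x = y then 92 else 0) + 20 - (if D.Γ.Adj x y then 46 else 0)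

theorem ker_comm (x y : V) : D.ker x y = D.ker y x := by
  simp only [ker, eq_comm (a := x), D.Γ.adj_comm x]

theorem sum_ker (x : V) : ∑ z, D.ker x z = 0 := by
  simp only [ker, Finset.sum_sub_distrib, Finset.sum_add_distrib, Finset.sum_ite_eq, Finset.mem_univ, if_true,
    Finset.sum_const, Finset.card_univ, D.srg.card, ← Finset.sum_filter, ← SimpleGraph.neighborFinset_eq_filter,
    SimpleGraph.card_neighborFinset_eq_degree, D.srg.regular x]
  norm_num

theorem ker_mul (x y : V) : ∑ z, D.ker x z * D.ker y z = 1288 * D.ker x y := by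
  have h1 : ∑ z, (if D.Γ.Adj x z then (46 : ℤ) else 0) * (if D.Γ.Adj y z then 46 else 0) =
      2116 * ((univ.filter fun z => D.Γ.Adj x z ∧ D.Γ.Adj y z).card : ℤ) := by
    rw [Finset.card_filter, Nat.cast_sum, Finset.mul_sum]
    refine Finset.sum_congr rfl fun z _ => ?_
    split_ifs <;> simp_all
  have hdeg : ∀ w, (∑ z, if D.Γ.Adj w z then (46 : ℤ) else 0) = 46 * 112 := fun w => by
    rw [← Finset.sum_filter, ← SimpleGraph.neighborFinset_eq_filter, Finset.sum_const,
      SimpleGraph.card_neighborFinset_eq_degree, D.srg.regular w]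
    norm_num
  have hexp : ∀ z, D.ker x z * D.ker y z =
      (if x = z then 92 * D.ker y z else 0) + 20 * D.ker y z -
        (if y = z then 92 * (if D.Γ.Adj x z then 46 else 0) else 0) -
        20 * (if D.Γ.Adj x z then 46 else 0) +
        (if D.Γ.Adj x z then (46 : ℤ) else 0) * (if D.Γ.Adj y z then 46 else 0) := fun z => by
    simp only [ker]
    by_cases h : x = z <;> by_cases h' : y = z
    · subst h; subst h'; simp
    · subst h; simp [h']; split_ifs <;> ring
    · subst h'; simp [h]; split_ifs <;> ring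
    · simp [h, h']; split_ifs <;> ring
  rw [Finset.sum_congr rfl fun z _ => hexp z]
  simp only [Finset.sum_add_distrib, Finset.sum_sub_distrib, ← Finset.mul_sum, sum_ker, hdeg, h1,
    Finset.sum_ite_eq, Finset.mem_univ, if_true]
  by_cases hxy : x = y
  · subst hxy
    have hf : (univ.filter fun z => D.Γ.Adj x z ∧ D.Γ.Adj x z).card = 112 := by
      simp only [and_self, ← SimpleGraph.neighborFinset_eq_filter, SimpleGraph.card_neighborFinset_eq_degree,
        D.srg.regular x]
    rw [hf]
    simp [ker]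
  · rw [D.card_common hxy]
    by_cases ha : D.Γ.Adj x y
    · simp [ker, hxy, Ne.symm hxy, ha, ha.symm]
    · have ha' : ¬ D.Γ.Adj y x := fun h => ha h.symm
      simp only [ker, if_neg hxy, if_neg (Ne.symm hxy), if_neg ha, if_neg ha']
      push_cast

/-- The vector of a cell at a block. -/
def vec (E : V) (C : Finset V) (z : V) : ℤ := ∑ w ∈ C, D.ker w z + 6 * D.ker E z

theorem vec_mul_ker (E : V) (C : Finset V) (z : V) :
    ∑ y, D.vec E C y * D.ker z y = 1288 * D.vec E C z := by
  simp only [vec, add_mul, Finset.sum_add_distrib, Finset.sum_mul, mul_assoc, ← Finset.mul_sum]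
  rw [Finset.sum_comm, Finset.sum_congr rfl fun w _ => D.ker_mul w z, D.ker_mul E z, ← Finset.mul_sum]
  ring

theorem vec_mul_vec (E : V) (C : Finset V) (E' : V) (C' : Finset V) :
    ∑ y, D.vec E C y * D.vec E' C' y =
      1288 * (∑ w ∈ C', D.vec E C w + 6 * D.vec E C E') := by
  simp only [vec.eq_def D E' C', mul_add, Finset.sum_add_distrib, Finset.mul_sum]
  rw [Finset.sum_comm, Finset.sum_congr rfl fun w _ => D.vec_mul_ker E C w]
  congr 1
  rw [Finset.sum_congr rfl (g := fun y => 6 * (D.vec E C y * D.ker E' y)) fun y _ => by ring,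
    ← Finset.mul_sum, D.vec_mul_ker]
  ring

theorem sum_vec (E : V) (C : Finset V) : ∑ z, D.vec E C z = 0 := by
  simp [vec, Finset.sum_add_distrib, Finset.sum_comm (γ := V), ← Finset.mul_sum, sum_ker]

theorem sum_ker_cell (C : Finset V) (z : V) :
    ∑ w ∈ C, D.ker w z = (if z ∈ C then 92 else 0) + 20 * (C.card : ℤ) -
      46 * ((C.filter fun w => D.Γ.Adj z w).card : ℤ) := by
  simp only [ker, Finset.sum_sub_distrib, Finset.sum_add_distrib, Finset.sum_ite_eq', Finset.sum_const,
    nsmul_eq_mul, D.Γ.adj_comm _ z, ← Finset.sum_filter]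
  ring

theorem not_mem_cell {E : V} {C : Finset V} (hC : C ∈ D.cells E) : E ∉ C :=
  fun h => (D.adj_of_mem_cells hC h).ne rfl

theorem vec_self {E : V} {C : Finset V} (hC : C ∈ D.cells E) : D.vec E C E = 256 := by
  rw [vec, sum_ker_cell, if_neg (D.not_mem_cell hC), D.card_of_mem_cells hC,
    Finset.filter_true_of_mem fun w hw => D.adj_of_mem_cells hC hw, D.card_of_mem_cells hC]
  simp [ker]

theorem vec_adj {E z : V} {C : Finset V} (hC : C ∈ D.cells E) (hz : D.Γ.Adj E z) :
    D.vec E C z = if z ∈ C then 256 else -112 := by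
  have hk : D.ker E z = -26 := by simp [ker, hz, hz.ne]
  obtain ⟨h0, h6⟩ := D.card_adj_cell hz
  rw [vec, sum_ker_cell, D.card_of_mem_cells hC, hk]
  split_ifs with hzC
  · rw [← D.cell_eq_of_mem_cells hC hzC, h0]; norm_num
  · rw [h6 C hC fun e => hzC (e ▸ D.self_mem E z hz)]; norm_num

theorem vec_far_eq {E z : V} {C : Finset V} (hC : C ∈ D.cells E) (hne : E ≠ z) (hz : ¬ D.Γ.Adj E z) :
    D.vec E C z = 440 - 46 * ((C.filter fun w => D.Γ.Adj z w).card : ℤ) := by
  have hk : D.ker E z = 20 := by simp [ker, hz, hne]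
  rw [vec, sum_ker_cell, D.card_of_mem_cells hC, hk, if_neg fun h => hz (D.adj_of_mem_cells hC h)]
  ring

theorem sum_cell_vec {E : V} {C : Finset V} (hC : C ∈ D.cells E) :
    ∑ w ∈ C, D.vec E C w + 6 * D.vec E C E = 5632 := by
  rw [Finset.sum_congr rfl fun w hw => by rw [D.vec_adj hC (D.adj_of_mem_cells hC hw), if_pos hw],
    D.vec_self hC, Finset.sum_const, D.card_of_mem_cells hC]
  norm_num

theorem norm_vec {E : V} {C : Finset V} (hC : C ∈ D.cells E) :
    ∑ z, D.vec E C z * D.vec E C z = 7254016 := by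
  rw [D.vec_mul_vec, D.sum_cell_vec hC]
  norm_num

theorem pair_unique : ∀ a : Fin 17, ∀ b : Fin 17, 3 * (a : ℕ) + 4 * (b : ℕ) = 60 →
    7 * (256 ^ 2 + 16 * 256 ^ 2 + 96 * (-112) ^ 2 : ℤ) +
      140 * (3 * (440 - 46 * (a : ℤ)) ^ 2 + 4 * (440 - 46 * (b : ℤ)) ^ 2) = 7 * 7254016 →
    (a : ℕ) = 4 ∧ (b : ℕ) = 12 := by decide +kernel

theorem sum_split (E : V) (f : V → ℤ) :
    ∑ z, f z = f E + ∑ z ∈ D.Γ.neighborFinset E, f z +
      ∑ z ∈ univ.filter (fun z => E ≠ z ∧ ¬ D.Γ.Adj E z), f z := by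
  classical
  rw [← Finset.add_sum_erase univ f (Finset.mem_univ E), add_assoc]
  congr 1
  rw [← Finset.sum_union]
  · refine Finset.sum_congr ?_ fun _ _ => rfl
    ext z
    simp only [Finset.mem_erase, Finset.mem_univ, and_true, Finset.mem_union,
      SimpleGraph.mem_neighborFinset, Finset.mem_filter, true_and]
    by_cases h : D.Γ.Adj E z
    · simp [h, h.ne.symm]
    · simp [h, eq_comm]
  · rw [Finset.disjoint_left]
    intro z hz hz'
    exact (Finset.mem_filter.1 hz').2.2 ((SimpleGraph.mem_neighborFinset _ _ _).1 hz)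

theorem card_far (E : V) : (univ.filter fun z => E ≠ z ∧ ¬ D.Γ.Adj E z).card = 140 := by
  have h := D.sum_split E (fun _ => 1)
  simp only [Finset.sum_const, nsmul_eq_mul, mul_one, SimpleGraph.card_neighborFinset_eq_degree,
    D.srg.regular E, Finset.card_univ, D.srg.card] at h
  omega

/-- A non-neighbour lies on exactly three of the seven vectors. -/
theorem vec_far {E z : V} (hne : E ≠ z) (hz : ¬ D.Γ.Adj E z) :
    ∃ T ⊆ D.cells E, T.card = 3 ∧ ∀ C ∈ D.cells E, D.vec E C z = if C ∈ T then 256 else -112 := by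
  classical
  obtain ⟨a, b, hab⟩ := D.triples E
  set far := univ.filter fun z => E ≠ z ∧ ¬ D.Γ.Adj E z with hfar
  -- sums over the cells at a non-neighbour
  have hsum : ∀ w ∈ far, ∀ f : ℕ → ℤ,
      ∑ C ∈ D.cells E, f ((C.filter fun y => D.Γ.Adj w y).card) = 3 * f a + 4 * f b := by
    intro w hw f
    obtain ⟨hw1, hw2⟩ := (Finset.mem_filter.1 hw).2
    obtain ⟨T, hT, hT3, hTc⟩ := hab w hw1 hw2
    have hout : ∑ C ∈ D.cells E \ T, f ((C.filter fun y => D.Γ.Adj w y).card) = ∑ _C ∈ D.cells E \ T, f b :=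
      Finset.sum_congr rfl fun C hC => by
        rw [hTc C (Finset.mem_sdiff.1 hC).1, if_neg (Finset.mem_sdiff.1 hC).2]
    have hin : ∑ C ∈ T, f ((C.filter fun y => D.Γ.Adj w y).card) = ∑ _C ∈ T, f a :=
      Finset.sum_congr rfl fun C hC => by rw [hTc C (hT hC), if_pos hC]
    rw [← Finset.sum_sdiff (show T ⊆ D.cells E from hT), hout, hin,
      Finset.sum_const, Finset.sum_const, Finset.card_sdiff_of_subset (show T ⊆ D.cells E from hT), D.card_cells E, hT3]
    simp only [nsmul_eq_mul]
    push_cast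
    ring
  have hzfar : z ∈ far := Finset.mem_filter.2 ⟨Finset.mem_univ z, hne, hz⟩
  have h60 : 3 * a + 4 * b = 60 := by
    have h := hsum z hzfar (fun n => (n : ℤ))
    rw [← Nat.cast_sum, D.card_adj_inter (Ne.symm hne), if_neg hz] at h
    exact_mod_cast h.symm
  -- the second moment
  have hmom : ∑ C ∈ D.cells E, ∑ w, D.vec E C w * D.vec E C w = 7 * 7254016 := by
    rw [Finset.sum_congr rfl fun C hC => D.norm_vec hC, Finset.sum_const, D.card_cells E]
    norm_num
  have hnear : ∀ C ∈ D.cells E, ∑ w ∈ D.Γ.neighborFinset E, D.vec E C w * D.vec E C w =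
      (16 * 256 ^ 2 + 96 * (-112) ^ 2 : ℤ) := by
    intro C hC
    have hin : ∀ w ∈ C, D.vec E C w * D.vec E C w = 256 ^ 2 := fun w hw => by
      rw [D.vec_adj hC (D.adj_of_mem_cells hC hw), if_pos hw]; ring
    have hout : ∀ C' ∈ (D.cells E).erase C,
        ∑ w ∈ C', D.vec E C w * D.vec E C w = 16 * (-112) ^ 2 := fun C' hC' => by
      obtain ⟨hne', hC'm⟩ := Finset.mem_erase.1 hC'
      have hw' : ∀ w ∈ C', D.vec E C w * D.vec E C w = (-112) ^ 2 := fun w hw => by
        rw [D.vec_adj hC (D.adj_of_mem_cells hC'm hw), if_neg fun h =>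
          hne' ((D.cell_eq_of_mem_cells hC'm hw).symm.trans (D.cell_eq_of_mem_cells hC h))]
        ring
      rw [Finset.sum_congr rfl hw', Finset.sum_const, D.card_of_mem_cells hC'm]
      norm_num
    rw [D.sum_cells E, ← Finset.add_sum_erase _ _ hC, Finset.sum_congr rfl hin, Finset.sum_congr rfl hout,
      Finset.sum_const, Finset.sum_const, Finset.card_erase_of_mem hC, D.card_of_mem_cells hC,
      D.card_cells E]
    norm_num
  rw [Finset.sum_congr rfl fun C hC => by rw [D.sum_split E, hnear C hC, D.vec_self hC],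
    Finset.sum_add_distrib, Finset.sum_const, D.card_cells E, Finset.sum_comm,
    Finset.sum_congr rfl (g := fun _ => 3 * (440 - 46 * (a : ℤ)) ^ 2 + 4 * (440 - 46 * (b : ℤ)) ^ 2)
      fun w hw => by
        obtain ⟨hw1, hw2⟩ := (Finset.mem_filter.1 hw).2
        rw [Finset.sum_congr rfl fun C hC => by rw [D.vec_far_eq hC hw1 hw2],
          hsum w hw fun n => (440 - 46 * (n : ℤ)) * (440 - 46 * (n : ℤ))]
        ring,
    Finset.sum_const, D.card_far E] at hmom
  obtain ⟨T, hT, hT3, hTc⟩ := hab z hne hz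
  have ha : a ≤ 16 := by
    obtain ⟨C, hC⟩ := Finset.card_pos.1 (by rw [hT3]; norm_num : 0 < T.card)
    have h1 := hTc C (hT hC)
    rw [if_pos hC] at h1
    rw [← h1]
    exact (Finset.card_filter_le _ _).trans (D.card_of_mem_cells (hT hC)).le
  have hb : b ≤ 16 := by omega
  obtain ⟨rfl, rfl⟩ := pair_unique ⟨a, by omega⟩ ⟨b, by omega⟩ h60 (by
    simp only [nsmul_eq_mul] at hmom
    push_cast at hmom ⊢
    linarith)
  refine ⟨T, hT, hT3, fun C hC => ?_⟩
  rw [D.vec_far_eq hC hne hz, hTc C hC]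
  split_ifs <;> norm_num

theorem vec_values {E : V} {C : Finset V} (hC : C ∈ D.cells E) (z : V) :
    D.vec E C z = 256 ∨ D.vec E C z = -112 := by
  by_cases hz : E = z
  · subst hz; exact Or.inl (D.vec_self hC)
  by_cases ha : D.Γ.Adj E z
  · rw [D.vec_adj hC ha]; split_ifs <;> simp
  · obtain ⟨T, -, -, hT⟩ := D.vec_far hz ha
    rw [hT C hC]; split_ifs <;> simp

/-- The blocks on the point given by a cell. -/
def supp (E : V) (C : Finset V) : Finset V := univ.filter fun z => D.vec E C z = 256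

theorem mem_supp {E : V} {C : Finset V} {z : V} : z ∈ D.supp E C ↔ D.vec E C z = 256 := by
  simp [supp]

theorem vec_eq_ite {E : V} {C : Finset V} (hC : C ∈ D.cells E) (z : V) :
    D.vec E C z = if z ∈ D.supp E C then 256 else -112 := by
  split_ifs with h
  · exact D.mem_supp.1 h
  · exact (D.vec_values hC z).resolve_left fun e => h (D.mem_supp.2 e)

theorem card_supp {E : V} {C : Finset V} (hC : C ∈ D.cells E) : (D.supp E C).card = 77 := by
  have h := D.sum_vec E C
  have e : ∀ z, D.vec E C z = -112 + if z ∈ D.supp E C then 368 else 0 := fun z => by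
    rw [D.vec_eq_ite hC z]; split_ifs <;> norm_num
  rw [Finset.sum_congr rfl fun z _ => e z, Finset.sum_add_distrib, Finset.sum_const, ← Finset.sum_filter,
    Finset.sum_const, Finset.filter_univ_mem, Finset.card_univ, D.srg.card, nsmul_eq_mul, nsmul_eq_mul] at h
  omega

theorem supp_inter_cells {E : V} {C : Finset V} (hC : C ∈ D.cells E) {z : V} (hz : D.Γ.Adj E z) :
    z ∈ D.supp E C ↔ z ∈ C := by
  rw [mem_supp, D.vec_adj hC hz]
  split_ifs with h <;> simp [h]

theorem cells_smul (g : G) {E : V} {C : Finset V} (hC : C ∈ D.cells E) :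
    C.image (g • ·) ∈ D.cells (g • E) := by
  obtain ⟨F, hF, rfl⟩ := D.mem_cells.1 hC
  exact D.mem_cells.2 ⟨g • F, (D.adj_smul g E F).2 hF, D.cell_smul g E F hF⟩

theorem ker_smul (g : G) (x y : V) : D.ker (g • x) (g • y) = D.ker x y := by
  simp [ker, D.adj_smul, smul_left_cancel_iff]

theorem vec_smul (g : G) (E : V) (C : Finset V) (z : V) :
    D.vec (g • E) (C.image (g • ·)) (g • z) = D.vec E C z := by
  rw [vec, vec, Finset.sum_image fun x _ y _ h => MulAction.injective g h]
  simp only [ker_smul]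

theorem supp_smul (g : G) (E : V) (C : Finset V) :
    D.supp (g • E) (C.image (g • ·)) = (D.supp E C).image (g • ·) := by
  ext z
  rw [mem_supp, ← smul_inv_smul g z, vec_smul,
    (MulAction.injective g).mem_finset_image, mem_supp]

/-- The point of a cell is the point of the opposite cell. -/
theorem supp_swap {E F : V} (hF : D.Γ.Adj E F) :
    D.supp E (D.cell E F) = D.supp F (D.cell F E) := by
  classical
  set C := D.cell E F with hC'
  set C' := D.cell F E with hC''
  have hC : C ∈ D.cells E := D.mem_cells.2 ⟨F, hF, rfl⟩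
  have hCF : C' ∈ D.cells F := D.mem_cells.2 ⟨E, hF.symm, rfl⟩
  have hEC' : E ∈ C' := D.self_mem F E hF.symm
  have hFC : F ∈ C := D.self_mem E F hF
  have hEsupp : E ∈ D.supp E C := D.mem_supp.2 (D.vec_self hC)
  have hFsupp : F ∈ D.supp E C := (D.supp_inter_cells hC hF).2 hFC
  -- the blocks on the point next to `F`
  have h16 : ((D.supp E C).filter fun z => D.Γ.Adj F z).card = 16 := by
    have h1 := D.vec_mul_ker E C F
    have e : ∀ y, D.vec E C y * D.ker F y =
        -112 * D.ker F y + if y ∈ D.supp E C then 368 * D.ker F y else 0 := fun y => by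
      rw [D.vec_eq_ite hC y]; split_ifs <;> ring
    rw [Finset.sum_congr rfl fun y _ => e y, Finset.sum_add_distrib, ← Finset.mul_sum, D.sum_ker,
      ← Finset.sum_filter, Finset.filter_univ_mem, ← Finset.mul_sum,
      D.mem_supp.1 hFsupp,
      Finset.sum_congr rfl fun y _ => D.ker_comm F y, D.sum_ker_cell, if_pos hFsupp, D.card_supp hC] at h1
    omega
  set A := C'.erase E with hA
  have hcase : (∀ z ∈ A, z ∈ D.supp E C) ∨ ∀ z ∈ A, z ∉ D.supp E C := by
    by_cases h : ∃ z ∈ A, z ∈ D.supp E C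
    · left
      obtain ⟨z, hz, hzs⟩ := h
      intro w hw
      obtain ⟨hzE, hz'⟩ := Finset.mem_erase.1 hz
      obtain ⟨hwE, hw'⟩ := Finset.mem_erase.1 hw
      obtain ⟨g, hgF, hgE, rfl⟩ := D.inner F E hF.symm z hz' w hw' hzE hwE
      have hgC : C.image (g • ·) = C := by
        rw [← D.cell_smul g E F hF, hgE, hgF]
      rw [← hgE, ← hgC, D.supp_smul]
      exact Finset.mem_image_of_mem _ hzs
    · push Not at h
      exact Or.inr h
  rcases hcase with hall | hnone
  · -- the two vectors coincide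
    have hd : ∑ w ∈ C', D.vec E C w + 6 * D.vec E C F = 5632 := by
      rw [Finset.sum_congr rfl (g := fun _ => (256 : ℤ)) fun w hw => by
        by_cases hwE : w = E
        · subst hwE; exact D.vec_self hC
        · exact D.mem_supp.1 (hall w (Finset.mem_erase.2 ⟨hwE, hw⟩)),
        D.mem_supp.1 hFsupp, Finset.sum_const, D.card_of_mem_cells hCF]
      norm_num
    have hzero : ∀ y, D.vec E C y = D.vec F C' y := by
      have h0 : ∑ y, (D.vec E C y - D.vec F C' y) * (D.vec E C y - D.vec F C' y) = 0 := by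
        rw [Finset.sum_congr rfl (g := fun y => D.vec E C y * D.vec E C y + D.vec F C' y * D.vec F C' y -
            2 * (D.vec E C y * D.vec F C' y)) fun y _ => by ring,
          Finset.sum_sub_distrib, Finset.sum_add_distrib, ← Finset.mul_sum, D.norm_vec hC, D.norm_vec hCF,
          D.vec_mul_vec, hd]
        norm_num
      intro y
      have := (Finset.sum_eq_zero_iff_of_nonneg fun z _ => mul_self_nonneg _).1 h0 y (Finset.mem_univ y)
      exact sub_eq_zero.1 (mul_self_eq_zero.1 this)
    ext z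
    rw [mem_supp, mem_supp, hzero z]
  · -- otherwise six equal parts would share fifteen blocks
    exfalso
    set f : Finset V → ℕ := fun K => (K.filter fun z => z ∈ D.supp E C).card with hf
    have hsame : ∀ K ∈ D.cells F, ∀ K' ∈ D.cells F, K ≠ C' → K' ≠ C' → f K = f K' := by
      intro K hK K' hK' hne hne'
      obtain ⟨F₁, h1, rfl⟩ := D.mem_cells.1 hK
      obtain ⟨F₂, h2, rfl⟩ := D.mem_cells.1 hK'
      obtain ⟨g, hgF, hgE, hg⟩ := D.outer F E hF.symm F₁ F₂ h1 h2
        (fun h => hne (D.cell_eq F E hF.symm F₁ h)) (fun h => hne' (D.cell_eq F E hF.symm F₂ h))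
      have himg := D.cell_smul g F F₁ h1
      rw [hgF, hg] at himg
      have hgC : C.image (g • ·) = C := by
        rw [← D.cell_smul g E F hF, hgE, hgF]
      simp only [hf]
      rw [himg, Finset.filter_image, Finset.card_image_of_injective _ (MulAction.injective g)]
      congr 1
      refine Finset.filter_congr fun z _ => ?_
      conv_rhs => rw [← hgE, ← hgC, D.supp_smul, (MulAction.injective g).mem_finset_image]
    have htot : ∑ K ∈ D.cells F, f K = 16 := by
      simp only [hf, Finset.card_filter]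
      rw [← D.sum_cells F fun z => if z ∈ D.supp E C then 1 else 0, ← Finset.card_filter, ← h16]
      congr 1
      ext z
      simp [and_comm]
    have h1 : f C' = 1 := by
      rw [show (1 : ℕ) = ({E} : Finset V).card from rfl]
      show (C'.filter fun z => z ∈ D.supp E C).card = _
      congr 1
      ext z
      rw [Finset.mem_filter, Finset.mem_singleton]
      refine ⟨fun h => ?_, fun h => by subst h; exact ⟨hEC', hEsupp⟩⟩
      by_contra hne
      exact hnone z (Finset.mem_erase.2 ⟨hne, h.1⟩) h.2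
    obtain ⟨K₁, hK₁, hne₁⟩ : ∃ K ∈ D.cells F, K ≠ C' :=
      Finset.exists_mem_ne (by rw [D.card_cells F]; norm_num) C'
    rw [← Finset.add_sum_erase _ _ hCF,
      Finset.sum_congr rfl fun K hK =>
        hsame K (Finset.mem_of_mem_erase hK) K₁ hK₁ (Finset.ne_of_mem_erase hK) hne₁,
      Finset.sum_const, Finset.card_erase_of_mem hCF, D.card_cells F, smul_eq_mul, h1] at htot
    omega

/-- Every block of a point carries that point as one of its cells. -/
theorem exists_cell_of_mem_supp {E F : V} {C : Finset V} (hC : C ∈ D.cells E) (hF : F ∈ D.supp E C) :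
    ∃ K ∈ D.cells F, D.supp F K = D.supp E C := by
  classical
  by_cases he : E = F
  · subst he; exact ⟨C, hC, rfl⟩
  by_cases ha : D.Γ.Adj E F
  · have hFC := (D.supp_inter_cells hC ha).1 hF
    refine ⟨D.cell F E, D.mem_cells.2 ⟨E, ha.symm, rfl⟩, ?_⟩
    rw [← D.supp_swap ha, D.cell_eq_of_mem_cells hC hFC]
  · obtain ⟨z, hz⟩ : (C.filter fun z => D.Γ.Adj F z).Nonempty := by
      rw [← Finset.card_pos]
      have h1 := D.vec_far_eq hC he ha
      rw [D.mem_supp.1 hF] at h1
      omega
    obtain ⟨hzC, hFz⟩ := Finset.mem_filter.1 hz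
    have hEz := D.adj_of_mem_cells hC hzC
    have hswap : D.supp E C = D.supp z (D.cell z E) := by
      rw [← D.supp_swap hEz, D.cell_eq_of_mem_cells hC hzC]
    have hz' : D.cell z E ∈ D.cells z := D.mem_cells.2 ⟨E, hEz.symm, rfl⟩
    have hFK : F ∈ D.cell z E := (D.supp_inter_cells hz' hFz.symm).1 (hswap ▸ hF)
    refine ⟨D.cell F z, D.mem_cells.2 ⟨z, hFz, rfl⟩, ?_⟩
    rw [hswap, ← D.cell_eq_of_mem_cells hz' hFK, D.supp_swap hFz.symm]

end BlockData

end CfsgLib.MathieuTwentyThree
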