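import Mathlib

/-!
Subgroups of the permutations of seven letters of order 2520 and 72.
-/

set_option autoImplicit false

namespace CfsgLib.MathieuTwentyThree

open Equiv

variable {α : Type*} [Fintype α] [DecidableEq α]

/-- A subgroup of index two is transitive on the letters other than a given one, fixing that one. -/
theorem exists_fix_map_of_index_two (hα : 5 ≤ Fintype.card α) {R : Subgroup (Perm α)} (hR : R.index = 2)
    {c a b : α} (ha : a ≠ c) (hb : b ≠ c) : ∃ σ ∈ R, σ c = c ∧ σ a = b := by
  rcases eq_or_ne a b with rfl | hab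
  · exact ⟨1, R.one_mem, rfl, rfl⟩
  obtain ⟨p, hp, q, hq, hpq⟩ := Finset.one_lt_card.1
    (show 1 < (Finset.univ \ ({c, a, b} : Finset α)).card by
      have h1 := Finset.card_le_three (a := c) (b := a) (c := b)
      have h2 := Finset.card_sdiff_add_card_eq_card (Finset.subset_univ ({c, a, b} : Finset α))
      rw [Finset.card_univ] at h2
      omega)
  simp only [Finset.mem_sdiff, Finset.mem_univ, true_and, Finset.mem_insert, Finset.mem_singleton, not_or] at hp hq
  refine ⟨swap a b * swap p q, ?_, ?_, ?_⟩
  · rw [Perm.eq_alternatingGroup_of_index_eq_two hR, Perm.mem_alternatingGroup, map_mul, Perm.sign_swap hab,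
      Perm.sign_swap hpq]
    norm_num
  · rw [Perm.mul_apply, swap_apply_of_ne_of_ne (Ne.symm hp.1) (Ne.symm hq.1),
      swap_apply_of_ne_of_ne (Ne.symm ha) (Ne.symm hb)]
  · rw [Perm.mul_apply, swap_apply_of_ne_of_ne (Ne.symm hp.2.1) (Ne.symm hq.2.1), swap_apply_left]

/-- An even subgroup of order 72 fixes none of seven letters. -/
theorem not_fixed (hα : Fintype.card α = 7) {R : Subgroup (Perm α)} (hR : Nat.card R = 72)
    (heven : R ≤ alternatingGroup α) (x : α) : ¬ ∀ g ∈ R, g x = x := by
  intro hfix
  let β := {z : α // z ≠ x}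
  have hβ : Fintype.card β = 6 := by
    rw [Fintype.card_subtype_compl, Fintype.card_subtype_eq, hα]
  let f : alternatingGroup β →* Perm α := Perm.ofSubtype.comp (alternatingGroup β).subtype
  have hf : Function.Injective f := Perm.ofSubtype_injective.comp (alternatingGroup β).subtype_injective
  have hle : R ≤ f.range := by
    intro g hg
    have hmove : ∀ z, g z ≠ z → z ≠ x := fun z hz e => hz (e ▸ hfix g hg)
    let g' : Perm β := g.subtypePerm fun z => not_congr
      ⟨fun h => g.injective (h.trans (hfix g hg).symm), fun h => h ▸ hfix g hg⟩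
    have he : Perm.ofSubtype g' = g := Perm.ofSubtype_subtypePerm _ hmove
    refine ⟨⟨g', ?_⟩, he⟩
    rw [Perm.mem_alternatingGroup, ← Perm.sign_ofSubtype, he]
    exact Perm.mem_alternatingGroup.1 (heven hg)
  set R' := R.comap f
  have hR' : Nat.card R' = 72 := by
    rw [← Subgroup.card_map_of_injective hf, Subgroup.map_comap_eq_self hle, hR]
  haveI : Nontrivial β := Fintype.one_lt_card_iff_nontrivial.1 (by omega)
  have hA : Nat.card (alternatingGroup β) = 360 := by
    rw [nat_card_alternatingGroup, Nat.card_eq_fintype_card, hβ]; decide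
  have hidx : R'.index = 5 := by
    have := R'.card_mul_index
    rw [hA, hR'] at this
    omega
  haveI : IsSimpleGroup (alternatingGroup β) := alternatingGroup.isSimpleGroup (by
    rw [Nat.card_eq_fintype_card, hβ]; norm_num)
  rcases IsSimpleGroup.eq_bot_or_eq_top_of_normal R'.normalCore inferInstance with h | h
  · have hd := Subgroup.index_ker (MulAction.toPermHom (alternatingGroup β) (alternatingGroup β ⧸ R'))
    rw [← Subgroup.normalCore_eq_ker, h, Subgroup.index_bot, hA] at hd
    have hle' := Subgroup.card_le_card_group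
      (MulAction.toPermHom (alternatingGroup β) (alternatingGroup β ⧸ R')).range
    rw [← hd, Nat.card_perm, ← Subgroup.index_eq_card, hidx] at hle'
    norm_num [Nat.factorial] at hle'
  · have := Subgroup.normalCore_le R'
    rw [h, top_le_iff] at this
    rw [this, Subgroup.card_top, hA] at hR'
    omega

/-- Two letters in one orbit. -/
def SameOrbit (R : Subgroup (Perm α)) (x y : α) : Prop := ∃ g ∈ R, g x = y

/-- An even subgroup of order 72 has orbits of lengths three and four. -/
theorem exists_three_four (hα : Fintype.card α = 7) {R : Subgroup (Perm α)} (hR : Nat.card R = 72)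
    (heven : R ≤ alternatingGroup α) :
    ∃ T : Finset α, T.card = 3 ∧ (∀ g ∈ R, ∀ x ∈ T, g x ∈ T) ∧
      (∀ x ∈ T, ∀ y ∈ T, SameOrbit R x y) ∧ ∀ x, x ∉ T → ∀ y, y ∉ T → SameOrbit R x y := by
  classical
  let orb : α → Finset α := fun x => Finset.univ.filter fun y => SameOrbit R x y
  have hmem : ∀ x y, y ∈ orb x ↔ SameOrbit R x y := fun x y => by simp [orb]
  have hself : ∀ x, x ∈ orb x := fun x => (hmem x x).2 ⟨1, R.one_mem, rfl⟩
  have horb_eq : ∀ x y, y ∈ orb x → orb y = orb x := by
    intro x y hy
    obtain ⟨g, hg, rfl⟩ := (hmem x y).1 hy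
    ext z
    rw [hmem, hmem]
    constructor
    · rintro ⟨h, hh, rfl⟩; exact ⟨h * g, R.mul_mem hh hg, rfl⟩
    · rintro ⟨h, hh, rfl⟩; exact ⟨h * g⁻¹, R.mul_mem hh (R.inv_mem hg), by simp⟩
  have hinv : ∀ g ∈ R, ∀ x y, y ∈ orb x → g y ∈ orb x := fun g hg x y hy => by
    rw [← horb_eq x y hy]; exact (hmem _ _).2 ⟨g, hg, rfl⟩
  have hdvd : ∀ x, (orb x).card ∣ 72 := by
    intro x
    have h := (MulAction.stabilizer R x).card_mul_index
    rw [MulAction.index_stabilizer, hR] at h
    refine ⟨Nat.card (MulAction.stabilizer R x), ?_⟩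
    have e : (MulAction.orbit R x) = (orb x : Set α) := by
      ext y
      rw [Finset.mem_coe, hmem]
      exact ⟨fun ⟨g, hg⟩ => ⟨g, g.2, hg⟩, fun ⟨g, hg, hgx⟩ => ⟨⟨g, hg⟩, hgx⟩⟩
    rw [e, Set.ncard_coe_finset] at h
    rw [← h, mul_comm]
  have h1 : ∀ x, (orb x).card ≠ 1 := by
    intro x hx
    obtain ⟨z, hz⟩ := Finset.card_eq_one.1 hx
    refine not_fixed hα hR heven x fun g hg => ?_
    have h1 := hinv g hg x x (hself x)
    have h2 := hself x
    rw [hz, Finset.mem_singleton] at h1 h2
    rw [h1, ← h2]
  -- the union of some orbits leaves no single letter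
  have hrest : ∀ S : Finset α, (∀ x, x ∉ S → Disjoint (orb x) S) → S.card ≠ 6 := by
    intro S hS h6
    obtain ⟨z, hz⟩ := Finset.card_eq_one.1 (show (Finset.univ \ S).card = 1 by
      rw [Finset.card_sdiff_of_subset (Finset.subset_univ _), Finset.card_univ, hα, h6])
    have hzS : z ∉ S := (Finset.mem_sdiff.1 (hz ▸ Finset.mem_singleton_self z)).2
    refine h1 z (le_antisymm ?_ (Finset.card_pos.2 ⟨z, hself z⟩))
    rw [← Finset.card_singleton z, ← hz]
    exact Finset.card_le_card fun y hy => Finset.mem_sdiff.2
      ⟨Finset.mem_univ _, Finset.disjoint_left.1 (hS z hzS) hy⟩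
  have hdisj : ∀ x y, y ∉ orb x → Disjoint (orb y) (orb x) := by
    intro x y hy
    rw [Finset.disjoint_left]
    intro z hz hz'
    exact hy (by rw [← horb_eq x z hz', horb_eq y z hz]; exact hself y)
  have hsize : ∀ x, (orb x).card = 2 ∨ (orb x).card = 3 ∨ (orb x).card = 4 := by
    intro x
    have h6 := hrest (orb x) (hdisj x)
    have hle : (orb x).card ≤ 7 := hα ▸ Finset.card_le_univ _
    have hd := hdvd x
    have := h1 x
    have hpos : 0 < (orb x).card := Finset.card_pos.2 ⟨x, hself x⟩
    interval_cases h : (orb x).card <;> simp_all <;> norm_num at hd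
  obtain ⟨x, hx⟩ : ∃ x, (orb x).card = 3 := by
    by_contra hcon
    push Not at hcon
    have hs := Finset.card_eq_sum_card_image orb (Finset.univ : Finset α)
    have heven' : 2 ∣ (Finset.univ : Finset α).card := by
      rw [hs]
      refine Finset.dvd_sum fun O hO => ?_
      obtain ⟨x, -, rfl⟩ := Finset.mem_image.1 hO
      have e : Finset.univ.filter (fun y => orb y = orb x) = orb x := by
        ext y
        rw [Finset.mem_filter]
        exact ⟨fun h => h.2 ▸ hself y, fun h => ⟨Finset.mem_univ _, horb_eq x y h⟩⟩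
      rw [e]
      rcases hsize x with h | h | h
      · rw [h]
      · exact absurd h (hcon x)
      · rw [h]; norm_num
    rw [Finset.card_univ, hα] at heven'
    omega
  refine ⟨orb x, hx, fun g hg y hy => hinv g hg x y hy, fun y hy z hz => ?_, fun y hy z hz => ?_⟩
  · rw [← horb_eq x y hy] at hz
    exact (hmem y z).1 hz
  by_contra hne
  have hzy : z ∉ orb y := fun h => hne ((hmem y z).1 h)
  have d1 := hdisj x y hy
  have d2 := hdisj x z hz
  have d3 := hdisj y z hzy
  have hcard : (orb x ∪ orb y ∪ orb z).card = (orb x).card + (orb y).card + (orb z).card := by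
    rw [Finset.card_union_of_disjoint (Finset.disjoint_union_left.2 ⟨d2.symm, d3.symm⟩),
      Finset.card_union_of_disjoint d1.symm]
  have hle : (orb x ∪ orb y ∪ orb z).card ≤ 7 := hα ▸ Finset.card_le_univ _
  have hy2 : (orb y).card = 2 := by rcases hsize y with h | h | h <;> rcases hsize z with h' | h' | h' <;> omega
  have hz2 : (orb z).card = 2 := by rcases hsize z with h' | h' | h' <;> omega
  have hall : orb x ∪ orb y ∪ orb z = Finset.univ :=
    Finset.eq_univ_of_card _ (by omega)
  obtain ⟨t₁, t₂, t₃, h12, h13, h23, hT⟩ := Finset.card_eq_three.1 hx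
  -- such a subgroup is determined by the images of four letters
  let f : R → (orb x × orb x) × (orb y × orb z) := fun g =>
    ((⟨g.1 t₁, hinv g g.2 x t₁ (by simp [hT])⟩, ⟨g.1 t₂, hinv g g.2 x t₂ (by simp [hT])⟩),
      (⟨g.1 y, hinv g g.2 y y (hself y)⟩, ⟨g.1 z, hinv g g.2 z z (hself z)⟩))
  have hpair : ∀ (w : α) (g : Perm α), g ∈ R → g w = w → (orb w).card = 2 → ∀ v ∈ orb w, g v = v := by
    intro w g hg hgw hw v hv
    by_contra hne'
    have hvw : v ≠ w := fun e => hne' (e ▸ hgw)
    have hgv : g v ≠ w := fun e => hvw (g.injective (e.trans hgw.symm))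
    have hsub : ({w, v, g v} : Finset α) ⊆ orb w := by
      simp [Finset.insert_subset_iff, hself w, hv, hinv g hg w v hv]
    have := Finset.card_le_card hsub
    rw [Finset.card_eq_three.2 ⟨w, v, g v, hvw.symm, Ne.symm hgv, Ne.symm hne', rfl⟩] at this
    omega
  have hf : Function.Injective f := by
    intro g g' h
    simp only [f, Prod.mk.injEq, Subtype.mk.injEq] at h
    obtain ⟨⟨e1, e2⟩, e3, e4⟩ := h
    set k := (g'.1)⁻¹ * g.1
    have hk : k ∈ R := R.mul_mem (R.inv_mem g'.2) g.2
    have k1 : k t₁ = t₁ := by simp [k, e1]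
    have k2 : k t₂ = t₂ := by simp [k, e2]
    have ky : k y = y := by simp [k, e3]
    have kz : k z = z := by simp [k, e4]
    have k3 : k t₃ = t₃ := by
      have := hinv k hk x t₃ (by simp [hT])
      rw [hT, Finset.mem_insert, Finset.mem_insert, Finset.mem_singleton] at this
      rcases this with e | e | e
      · exact absurd (k.injective (e.trans k1.symm)) (Ne.symm h13)
      · exact absurd (k.injective (e.trans k2.symm)) (Ne.symm h23)
      · exact e
    have hk1 : k = 1 := by
      refine Equiv.ext fun w => ?_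
      have hw := Finset.mem_univ w
      rw [← hall, Finset.mem_union, Finset.mem_union, hT] at hw
      simp only [Finset.mem_insert, Finset.mem_singleton] at hw
      rcases hw with ((rfl | rfl | rfl) | hw) | hw
      · exact k1
      · exact k2
      · exact k3
      · exact hpair y k hk ky hy2 w hw
      · exact hpair z k hk kz hz2 w hw
    exact Subtype.ext (inv_mul_eq_one.1 hk1).symm
  have := Nat.card_le_card_of_injective f hf
  simp only [Nat.card_prod, Nat.card_eq_finsetCard, hR, hx, hy2, hz2] at this
  omega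

end CfsgLib.MathieuTwentyThree
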