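import Cfsg.Agent.Lib.MathieuTwentyThree.Graph
import Cfsg.Agent.Lib.MathieuTwentyThree.PermSeven
import Cfsg.Agent.Lib.MathieuTwentyThree.BlockGram

/-!
The seven cells at a block and the action of its stabiliser on them as the alternating group.
-/

set_option autoImplicit false
set_option linter.unusedSectionVars false
set_option linter.style.haveILetI false

namespace CfsgLib.MathieuTwentyThree

namespace Blk

open Subgroup

variable {G : Type*} [Group G] [Finite G] {E₀ : Subgroup G}

/-- The orbit of a neighbour under the elementary subgroup. -/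
noncomputable def cell (x y : Blk E₀) : Finset (Blk E₀) :=
  (Set.toFinite (x.1 : Set G)).toFinset.image (fun e => e • y)

theorem mem_cell {x y z : Blk E₀} : z ∈ cell x y ↔ ∃ e ∈ x.1, e • y = z := by
  simp [cell]

theorem smul_self_of_mem (hL : Local E₀) {x : Blk E₀} {e : G} (he : e ∈ x.1) : e • x = x :=
  smul_eq_iff.2 ((isLocal hL x).le_normalizer he)

theorem self_mem (x y : Blk E₀) : y ∈ cell x y := mem_cell.2 ⟨1, x.1.one_mem, one_smul G y⟩

theorem card_cell (hL : Local E₀) {x y : Blk E₀} (h : Adj x y) : (cell x y).card = 16 := by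
  rw [cell, Finset.card_image_of_injOn, ← Set.ncard_eq_toFinset_card, ← Nat.card_coe_set_eq,
    SetLike.coe_sort_coe, (isLocal hL x).card]
  intro a ha b hb hab
  simp only [Set.Finite.coe_toFinset, SetLike.mem_coe] at ha hb
  simp only at hab
  have hfix : b⁻¹ * a ∈ fixPart x.1 y.1 :=
    ⟨x.1.mul_mem (x.1.inv_mem hb) ha, smul_eq_iff.1 (by rw [mul_smul, hab, inv_smul_smul])⟩
  rw [h.2, Subgroup.mem_bot] at hfix
  exact (inv_mul_eq_one.1 hfix).symm

theorem cell_adj (hL : Local E₀) {x y z : Blk E₀} (h : Adj x y) (hz : z ∈ cell x y) : Adj x z := by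
  obtain ⟨e, he, rfl⟩ := mem_cell.1 hz
  have := (adj_smul_iff e x y).2 h
  rwa [smul_self_of_mem hL he] at this

theorem cell_eq {x y z : Blk E₀} (hz : z ∈ cell x y) : cell x z = cell x y := by
  obtain ⟨e, he, rfl⟩ := mem_cell.1 hz
  ext w
  rw [mem_cell, mem_cell]
  constructor
  · rintro ⟨f, hf, rfl⟩; exact ⟨f * e, x.1.mul_mem hf he, mul_smul f e y⟩
  · rintro ⟨f, hf, rfl⟩
    exact ⟨f * e⁻¹, x.1.mul_mem hf (x.1.inv_mem he), by rw [← mul_smul, inv_mul_cancel_right]⟩

theorem cell_smul (g : G) (x y : Blk E₀) : cell (g • x) (g • y) = (cell x y).image (g • ·) := by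
  ext w
  rw [mem_cell, Finset.mem_image, val_smul]
  constructor
  · rintro ⟨f, hf, rfl⟩
    refine ⟨(g⁻¹ * f * g) • y, mem_cell.2 ⟨_, mem_conjS.1 hf, rfl⟩, ?_⟩
    rw [← mul_smul, ← mul_smul]; congr 1; group
  · rintro ⟨z, hz, rfl⟩
    obtain ⟨e, he, rfl⟩ := mem_cell.1 hz
    exact ⟨g * e * g⁻¹, conj_mem_conjS he, by rw [← mul_smul, ← mul_smul]; congr 1; group⟩

theorem cell_smul_stab {g : G} {x : Blk E₀} (hg : g • x = x) (y : Blk E₀) :
    cell x (g • y) = (cell x y).image (g • ·) := by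
  have := cell_smul g x y
  rwa [hg] at this

/-- The joint stabiliser of adjacent blocks is transitive on the involutions. -/
theorem exists_stab_conj (hL : Local E₀) {x y : Blk E₀} (h : Adj x y) {s t : G} (hs : s ∈ x.1) (hs1 : s ≠ 1)
    (ht : t ∈ x.1) (ht1 : t ≠ 1) : ∃ g ∈ stab x y, g * s * g⁻¹ = t := by
  have hx := isLocal hL x
  have hm := card_conjugates_mul (stab x y) s
  rw [card_stab_adj hL h] at hm
  set c := Nat.card (stab x y ⊓ centralizer ({s} : Set G) : Subgroup G)
  have hc : c ∣ 24 := by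
    have h1 : c ∣ 360 := card_stab_adj hL h ▸ Subgroup.card_dvd_of_le inf_le_left
    have h2 : c ∣ 2688 := hx.cardC s hs hs1 ▸ Subgroup.card_dvd_of_le inf_le_right
    exact (Nat.dvd_gcd h1 h2).trans (by norm_num)
  have hcle := Nat.le_of_dvd (by norm_num) hc
  let f : {w // ∃ c ∈ stab x y, c * s * c⁻¹ = w} → {e : G // e ∈ x.1 ∧ e ≠ 1} := fun w =>
    ⟨w.1, by
      obtain ⟨c, hc, e⟩ := w.2
      rw [← e]
      exact ⟨hx.conj_mem hc.1 hs, by simpa [conj_eq_one_iff] using hs1⟩⟩
  have hinj : Function.Injective f := fun a b h => by have e := congrArg Subtype.val h; exact Subtype.ext e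
  have hle := Nat.card_le_card_of_injective f hinj
  rw [hx.card_nonone] at hle
  have hf : Function.Bijective f := (Nat.bijective_iff_injective_and_card f).2
    ⟨hinj, by rw [hx.card_nonone]; nlinarith⟩
  obtain ⟨⟨w, g, hg, hw⟩, he⟩ := hf.2 ⟨t, ht, ht1⟩
  exact ⟨g, hg, hw.trans (congrArg Subtype.val he)⟩

theorem inner (hL : Local E₀) {x y z₁ z₂ : Blk E₀} (h : Adj x y) (h₁ : z₁ ∈ cell x y) (h₂ : z₂ ∈ cell x y)
    (hn₁ : z₁ ≠ y) (hn₂ : z₂ ≠ y) : ∃ g : G, g • x = x ∧ g • y = y ∧ g • z₁ = z₂ := by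
  obtain ⟨s, hs, rfl⟩ := mem_cell.1 h₁
  obtain ⟨t, ht, rfl⟩ := mem_cell.1 h₂
  obtain ⟨g, hg, e⟩ := exists_stab_conj hL h hs (fun e => hn₁ (by rw [e, one_smul])) ht
    (fun e => hn₂ (by rw [e, one_smul]))
  refine ⟨g, smul_eq_iff.2 hg.1, smul_eq_iff.2 hg.2, ?_⟩
  rw [← e, mul_smul, mul_smul, inv_smul_eq_iff.2 (smul_eq_iff.2 hg.2).symm]

/-- The cells at a block. -/
noncomputable def cellsAt (hL : Local E₀) (x : Blk E₀) : Finset (Finset (Blk E₀)) :=
  ((graph hL).neighborFinset x).image (cell x)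

theorem mem_cellsAt (hL : Local E₀) {x : Blk E₀} {C : Finset (Blk E₀)} :
    C ∈ cellsAt hL x ↔ ∃ y, Adj x y ∧ cell x y = C := by
  simp [cellsAt, graph_adj]

theorem card_cellsAt (hL : Local E₀) (x : Blk E₀) : (cellsAt hL x).card = 7 := by
  have h := Finset.card_eq_sum_card_image (cell x) ((graph hL).neighborFinset x)
  rw [SimpleGraph.card_neighborFinset_eq_degree, (srg hL).regular x,
    Finset.sum_congr rfl (g := fun _ => 16) fun C hC => by
      obtain ⟨y, hy, rfl⟩ := (mem_cellsAt hL).1 hC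
      rw [← card_cell hL hy]
      congr 1
      ext z
      rw [Finset.mem_filter, SimpleGraph.mem_neighborFinset, graph_adj]
      exact ⟨fun h => h.2 ▸ self_mem x z, fun hz => ⟨cell_adj hL hy hz, cell_eq hz⟩⟩,
    Finset.sum_const, smul_eq_mul] at h
  show (Finset.image (cell x) ((graph hL).neighborFinset x)).card = 7
  omega

theorem image_mem_cellsAt (hL : Local E₀) {x : Blk E₀} (g : MulAction.stabilizer G x) {C : Finset (Blk E₀)}
    (hC : C ∈ cellsAt hL x) : C.image ((g : G) • ·) ∈ cellsAt hL x := by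
  obtain ⟨y, hy, rfl⟩ := (mem_cellsAt hL).1 hC
  exact (mem_cellsAt hL).2 ⟨_, (invariant_adj x g).2 hy, cell_smul_stab g.2 y⟩

/-- The cells as a type. -/
abbrev CellT (hL : Local E₀) (x : Blk E₀) : Type _ := {C // C ∈ cellsAt hL x}

/-- The permutation of the cells given by an element of the stabiliser. -/
noncomputable def cellPerm (hL : Local E₀) (x : Blk E₀) (g : MulAction.stabilizer G x) :
    Equiv.Perm (CellT hL x) where
  toFun C := ⟨C.1.image ((g : G) • ·), image_mem_cellsAt hL g C.2⟩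
  invFun C := ⟨C.1.image (((g⁻¹ : MulAction.stabilizer G x) : G) • ·), image_mem_cellsAt hL g⁻¹ C.2⟩
  left_inv C := Subtype.ext (by simp [Finset.image_image, Function.comp_def])
  right_inv C := Subtype.ext (by simp [Finset.image_image, Function.comp_def])

/-- The action of the stabiliser on the cells. -/
noncomputable def cellHom (hL : Local E₀) (x : Blk E₀) :
    MulAction.stabilizer G x →* Equiv.Perm (CellT hL x) :=
  MonoidHom.mk' (cellPerm hL x) fun g h => Equiv.ext fun C => Subtype.ext (by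
    simp [cellPerm, Finset.image_image, Function.comp_def, mul_smul])

theorem cellHom_apply (hL : Local E₀) (x : Blk E₀) (g : MulAction.stabilizer G x) (C : CellT hL x) :
    ((cellHom hL x g C : CellT hL x) : Finset (Blk E₀)) = C.1.image ((g : G) • ·) := rfl

/-- The kernel as a subgroup of the whole group. -/
noncomputable def cellKer (hL : Local E₀) (x : Blk E₀) : Subgroup G :=
  (cellHom hL x).ker.map (MulAction.stabilizer G x).subtype

theorem mem_cellKer (hL : Local E₀) {x : Blk E₀} {g : G} :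
    g ∈ cellKer hL x ↔ g • x = x ∧ ∀ C ∈ cellsAt hL x, C.image (g • ·) = C := by
  rw [cellKer, Subgroup.mem_map]
  constructor
  · rintro ⟨k, hk, rfl⟩
    refine ⟨k.2, fun C hC => ?_⟩
    have := congrArg (fun σ : Equiv.Perm (CellT hL x) => ((σ ⟨C, hC⟩ : CellT hL x) : Finset (Blk E₀)))
      (MonoidHom.mem_ker.1 hk)
    exact this
  · rintro ⟨hg, h⟩
    refine ⟨⟨g, hg⟩, ?_, rfl⟩
    rw [MonoidHom.mem_ker]
    exact Equiv.ext fun C => Subtype.ext (h C.1 C.2)

theorem le_cellKer (hL : Local E₀) (x : Blk E₀) : x.1 ≤ cellKer hL x := by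
  intro e he
  refine (mem_cellKer hL).2 ⟨smul_self_of_mem hL he, fun C hC => ?_⟩
  obtain ⟨y, -, rfl⟩ := (mem_cellsAt hL).1 hC
  rw [← cell_smul_stab (smul_self_of_mem hL he) y]
  exact cell_eq (mem_cell.2 ⟨e, he, rfl⟩)

theorem cellKer_le (hL : Local E₀) (x : Blk E₀) : cellKer hL x ≤ normalizer (x.1 : Set G) :=
  fun _ hk => smul_eq_iff.1 ((mem_cellKer hL).1 hk).1

theorem normal_cellKer (hL : Local E₀) {x : Blk E₀} {g k : G} (hg : g ∈ normalizer (x.1 : Set G))
    (hk : k ∈ cellKer hL x) : g * k * g⁻¹ ∈ cellKer hL x := by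
  obtain ⟨k', hk', rfl⟩ := Subgroup.mem_map.1 hk
  set g' : MulAction.stabilizer G x := ⟨g, smul_eq_iff.2 hg⟩ with hg'
  refine Subgroup.mem_map.2 ⟨g' * k' * g'⁻¹, ?_, ?_⟩
  · rw [MonoidHom.mem_ker] at hk' ⊢
    rw [map_mul, map_mul, hk', mul_one, ← map_mul, mul_inv_cancel, map_one]
  · rw [map_mul, map_mul, map_inv]
    rfl

theorem card_cellKer_eq (hL : Local E₀) (x : Blk E₀) :
    ∃ d, d ∣ 360 ∧ Nat.card (cellKer hL x) = 16 * d := by
  obtain ⟨y, hy⟩ : {y | Adj x y}.Nonempty :=
    (Set.ncard_pos (Set.toFinite _)).1 (by rw [(counts hL x).1]; norm_num)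
  set K := cellKer hL x
  have h := (MulAction.stabilizer K y).card_mul_index
  have horb : MulAction.orbit K y = (cell x y : Set (Blk E₀)) := by
    ext z
    rw [Finset.mem_coe, mem_cell]
    constructor
    · rintro ⟨k, rfl⟩
      refine mem_cell.1 ?_
      have h1 := ((mem_cellKer hL).1 k.2).2 _ ((mem_cellsAt hL).2 ⟨y, hy, rfl⟩)
      show (k : G) • y ∈ cell x y
      rw [← h1]
      exact Finset.mem_image_of_mem _ (self_mem x y)
    · rintro ⟨e, he, rfl⟩
      exact ⟨⟨e, le_cellKer hL x he⟩, rfl⟩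
  have hst : MulAction.stabilizer K y = (K ⊓ stab x y).subgroupOf K := by
    ext c
    rw [MulAction.mem_stabilizer_iff, mem_subgroupOf, mem_inf, stab, mem_inf, ← smul_eq_iff, ← smul_eq_iff]
    exact ⟨fun h => ⟨c.2, ((mem_cellKer hL).1 c.2).1, h⟩, fun h => h.2.2⟩
  rw [MulAction.index_stabilizer, horb, Set.ncard_coe_finset, card_cell hL hy, hst,
    Nat.card_congr (subgroupOfEquivOfLe inf_le_left).toEquiv, mul_comm] at h
  exact ⟨_, card_stab_adj hL hy ▸ Subgroup.card_dvd_of_le inf_le_right, h.symm⟩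

theorem not_five_dvd_cellKer (hL : Local E₀) (x : Blk E₀) : ¬ 5 ∣ Nat.card (cellKer hL x) := by
  intro h5
  have : Fact (Nat.Prime 5) := ⟨by norm_num⟩
  have : Fact (Nat.Prime 7) := ⟨by norm_num⟩
  obtain ⟨d, hd, hcard⟩ := card_cellKer_eq hL x
  set M := (cellHom hL x).ker
  have hM : Nat.card M = 16 * d := by
    rw [← hcard]
    exact (Subgroup.card_map_of_injective (MulAction.stabilizer G x).subtype_injective).symm
  have hN : Nat.card (MulAction.stabilizer G x) = 40320 := by
    rw [show MulAction.stabilizer G x = _ from stabilizer_eq x, (isLocal hL x).cardN]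
  obtain ⟨T⟩ : Nonempty (Sylow 5 M) := inferInstance
  set R := ((T : Subgroup M).map M.subtype)
  have h7 : 7 ∣ M.index := by
    have hmul := M.card_mul_index
    rw [hM, hN] at hmul
    have h7' : 7 ∣ 16 * d * M.index := hmul ▸ by norm_num
    refine ((Nat.Prime.dvd_mul (by norm_num)).1 h7').resolve_left fun hh => ?_
    have : 7 ∣ 16 * 360 := hh.trans (mul_dvd_mul_left 16 hd)
    norm_num at this
  obtain ⟨⟨z, hz⟩, hzo⟩ := exists_prime_orderOf_dvd_card' 7
    (h7.trans (CfsgLib.Order7920.index_dvd_card_normalizer M T))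
  rw [Subgroup.orderOf_mk] at hzo
  have hR : Nat.card R = 5 := by
    obtain ⟨k, hk⟩ := IsPGroup.iff_card.1 T.isPGroup'
    have hkd : 5 ^ k ∣ 40320 := by
      rw [← hk, ← hN]
      exact (Subgroup.card_subgroup_dvd_card _).trans (Subgroup.card_subgroup_dvd_card M)
    have h5' : 5 ∣ Nat.card (T : Subgroup M) := T.dvd_card_of_dvd_card (hM ▸ hcard ▸ h5)
    rw [Subgroup.card_map_of_injective M.subtype_injective, hk]
    rw [hk] at h5'
    match k with
    | 0 => norm_num at h5'
    | 1 => rfl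
    | k + 2 =>
      have : 5 ^ 2 ∣ 40320 := (Nat.pow_dvd_pow 5 (by omega)).trans hkd
      norm_num at this
  have hp : IsPGroup 7 (zpowers z) := IsPGroup.of_card (n := 1) (by rw [Nat.card_zpowers, hzo, pow_one])
  have hm := CfsgLib.Order7920.card_modEq_card_inf_centralizer hp (zpowers_le.2 hz)
  set C := R ⊓ centralizer (zpowers z : Set (MulAction.stabilizer G x))
  have hC : Nat.card C ∣ 5 := hR ▸ Subgroup.card_dvd_of_le inf_le_left
  rw [hR, Nat.ModEq] at hm
  rcases (Nat.dvd_prime (by norm_num)).1 hC with e | e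
  · rw [e] at hm; norm_num at hm
  obtain ⟨⟨w, hw⟩, hwo⟩ := exists_prime_orderOf_dvd_card' 5 (show 5 ∣ Nat.card C by rw [e])
  rw [Subgroup.orderOf_mk] at hwo
  have hzG : orderOf (z : G) = 7 := (Subgroup.orderOf_coe z).trans hzo
  have hwG : orderOf (w : G) = 5 := (Subgroup.orderOf_coe w).trans hwo
  have hcomm : (w : G) ∈ centralizer ({(z : G)} : Set G) := mem_centralizer_singleton_iff.2
    (congrArg Subtype.val (mem_centralizer_iff.1 hw.2 z (mem_zpowers z))).symm
  have := orderOf_dvd_natCard (⟨(w : G), hcomm⟩ : centralizer ({(z : G)} : Set G))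
  rw [Subgroup.orderOf_mk, hwG, hL.seven _ hzG] at this
  norm_num at this

theorem cellKer_eq (hL : Local E₀) (x : Blk E₀) : cellKer hL x = x.1 := by
  classical
  have hx := isLocal hL x
  set K := cellKer hL x with hK
  obtain ⟨d, hd, hcard⟩ := card_cellKer_eq hL x
  -- an element of order seven and its involution
  obtain ⟨⟨y, hyN⟩, hyo⟩ : ∃ y : normalizer (x.1 : Set G), orderOf y = 7 :=
    have : Fact (Nat.Prime 7) := ⟨by norm_num⟩
    exists_prime_orderOf_dvd_card' 7 (by rw [hx.cardN]; norm_num)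
  rw [Subgroup.orderOf_mk] at hyo
  obtain ⟨t₀, ht₀, ht₀1, ht₀y⟩ := hx.exists_seven_fix hyo hyN
  -- conjugacy classes of the kernel on the involutions
  let orb : G → Finset G := fun t => (Set.toFinite {w | ∃ k ∈ K, k * t * k⁻¹ = w}).toFinset
  have hmem : ∀ t w, w ∈ orb t ↔ ∃ k ∈ K, k * t * k⁻¹ = w := fun t w => Set.Finite.mem_toFinset _
  have hconj : ∀ t, ∀ g ∈ normalizer (x.1 : Set G),
      orb (g * t * g⁻¹) = (orb t).image (fun w => g * w * g⁻¹) := by
    intro t g hg
    ext w
    rw [hmem, Finset.mem_image]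
    constructor
    · rintro ⟨k, hk, rfl⟩
      refine ⟨(g⁻¹ * k * g) * t * (g⁻¹ * k * g)⁻¹, (hmem _ _).2 ⟨_, ?_, rfl⟩, by group⟩
      have := normal_cellKer hL (inv_mem hg) hk
      rwa [inv_inv] at this
    · rintro ⟨v, hv, rfl⟩
      obtain ⟨k, hk, rfl⟩ := (hmem _ _).1 hv
      exact ⟨g * k * g⁻¹, normal_cellKer hL hg hk, by group⟩
  have hsize : ∀ t ∈ x.1, t ≠ 1 → (orb t).card = (orb t₀).card := by
    intro t ht ht1
    obtain ⟨g, hg, rfl⟩ := hx.transitive ht₀ ht₀1 ht ht1
    rw [hconj _ g hg, Finset.card_image_of_injective _ fun a b h => mul_left_cancel (mul_right_cancel h)]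
  set S := (Set.toFinite {e : G | e ∈ x.1 ∧ e ≠ 1}).toFinset with hS
  have hS15 : S.card = 15 := by
    rw [hS, ← Set.ncard_eq_toFinset_card, ← Nat.card_coe_set_eq]
    exact hx.card_nonone
  have hsub : ∀ t ∈ S, ∀ w ∈ orb t, w ∈ S := by
    intro t ht w hw
    rw [hS, Set.Finite.mem_toFinset] at ht ⊢
    obtain ⟨k, hk, rfl⟩ := (hmem _ _).1 hw
    exact ⟨hx.conj_mem (cellKer_le hL x hk) ht.1, by simpa [conj_eq_one_iff] using ht.2⟩
  have h15 : (orb t₀).card ∣ 15 := by
    rw [← hS15, Finset.card_eq_sum_card_image orb S]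
    refine Finset.dvd_sum fun O hO => ?_
    obtain ⟨t, ht, rfl⟩ := Finset.mem_image.1 hO
    have ht' := ht
    rw [hS, Set.Finite.mem_toFinset] at ht'
    have e : S.filter (fun w => orb w = orb t) = orb t := by
      ext w
      rw [Finset.mem_filter]
      constructor
      · rintro ⟨-, h⟩; rw [← h]; exact (hmem _ _).2 ⟨1, K.one_mem, by group⟩
      · intro hw
        refine ⟨hsub t ht w hw, ?_⟩
        obtain ⟨k, hk, rfl⟩ := (hmem _ _).1 hw
        ext v
        rw [hmem, hmem]
        constructor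
        · rintro ⟨l, hl, rfl⟩; exact ⟨l * k, K.mul_mem hl hk, by group⟩
        · rintro ⟨l, hl, rfl⟩; exact ⟨l * k⁻¹, K.mul_mem hl (K.inv_mem hk), by group⟩
    rw [e, hsize t ht'.1 ht'.2]
  have hK5 := not_five_dvd_cellKer hL x
  have horbK : (orb t₀).card ∣ Nat.card K := by
    refine ⟨Nat.card (K ⊓ centralizer ({t₀} : Set G) : Subgroup G), ?_⟩
    rw [← card_conjugates_mul K t₀]
    congr 1
    rw [← Set.ncard_eq_toFinset_card {w | ∃ k ∈ K, k * t₀ * k⁻¹ = w}, ← Nat.card_coe_set_eq]
    rfl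
  have hdiv := Nat.mem_divisors.2 ⟨h15, by norm_num⟩
  rw [show (15 : ℕ).divisors = {1, 3, 5, 15} by decide] at hdiv
  simp only [Finset.mem_insert, Finset.mem_singleton] at hdiv
  rcases hdiv with h1 | h3 | h5 | h5
  · -- the kernel centralises every involution
    refine le_antisymm (fun k hk => hx.cent (mem_centralizer_iff.2 fun e he => ?_)) (le_cellKer hL x)
    rcases eq_or_ne e 1 with rfl | he1
    · rw [one_mul, mul_one]
    have h1' : (orb e).card = 1 := by rw [hsize e he he1, h1]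
    have ha : k * e * k⁻¹ ∈ orb e := (hmem _ _).2 ⟨k, hk, rfl⟩
    have hb : e ∈ orb e := (hmem _ _).2 ⟨1, K.one_mem, by group⟩
    obtain ⟨z, hz⟩ := Finset.card_eq_one.1 h1'
    rw [hz, Finset.mem_singleton] at ha hb
    have : k * e * k⁻¹ = e := ha.trans hb.symm
    calc e * k = k * e * k⁻¹ * k := by rw [this]
      _ = k * e := by group
  · -- a class of three would have a second involution fixed by the element of order seven
    exfalso
    have hy' : ∀ w ∈ orb t₀, y * w * y⁻¹ ∈ orb t₀ := by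
      intro w hw
      have hc : y * t₀ * y⁻¹ = t₀ := by
        rw [← mem_centralizer_singleton_iff.1 ht₀y, mul_inv_cancel_right]
      have := Finset.mem_image_of_mem (fun w => y * w * y⁻¹) hw
      rwa [← hconj t₀ y hyN, hc] at this
    have hself : t₀ ∈ orb t₀ := (hmem _ _).2 ⟨1, K.one_mem, by group⟩
    obtain ⟨a, b, hab, hrest⟩ := Finset.card_eq_two.1
      (show ((orb t₀).erase t₀).card = 2 by rw [Finset.card_erase_of_mem hself, h3])
    have ha : a ∈ (orb t₀).erase t₀ := by rw [hrest]; simp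
    have hb : b ∈ (orb t₀).erase t₀ := by rw [hrest]; simp
    have hperm : ∀ w ∈ (orb t₀).erase t₀, y * w * y⁻¹ = a ∨ y * w * y⁻¹ = b := by
      intro w hw
      have : y * w * y⁻¹ ∈ (orb t₀).erase t₀ := by
        refine Finset.mem_erase.2 ⟨fun e => Finset.ne_of_mem_erase hw ?_, hy' w (Finset.mem_of_mem_erase hw)⟩
        refine mul_left_cancel (a := y) (mul_right_cancel (b := y⁻¹) (e.trans ?_))
        rw [← mem_centralizer_singleton_iff.1 ht₀y, mul_inv_cancel_right]
      rw [hrest] at this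
      simpa using this
    have haS : a ∈ S := hsub t₀ (by rw [hS, Set.Finite.mem_toFinset]; exact ⟨ht₀, ht₀1⟩) a (Finset.mem_of_mem_erase ha)
    rw [hS, Set.Finite.mem_toFinset] at haS
    have hcontra : ∀ z : G, orderOf z = 7 → z ∈ zpowers y → Commute z a → False := by
      intro z hz hzy hza
      refine Finset.ne_of_mem_erase ha (hx.invol_eq_of_seven hz (hx.sq a haS.1) haS.2 (hx.sq t₀ ht₀) ht₀1
        (mem_centralizer_singleton_iff.2 hza.symm.eq) (mem_centralizer_singleton_iff.2 ?_))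
      obtain ⟨i, rfl⟩ := mem_zpowers_iff.1 hzy
      exact (show Commute t₀ y from mem_centralizer_singleton_iff.1 ht₀y).zpow_right i
    rcases hperm a ha with e | e
    · exact hcontra y hyo (mem_zpowers y) (show y * a = a * y by
        calc y * a = y * a * y⁻¹ * y := by group
          _ = a * y := by rw [e])
    · rcases hperm b hb with e' | e'
      · refine hcontra (y ^ 2) ?_ (pow_mem (mem_zpowers y) 2) (show y ^ 2 * a = a * y ^ 2 by
          calc y ^ 2 * a = y * (y * a * y⁻¹) * y⁻¹ * (y * y) := by rw [pow_two]; group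
            _ = a * y ^ 2 := by rw [e, e', pow_two])
        rw [orderOf_pow, hyo]; norm_num
      · refine hab (mul_left_cancel (a := y) (mul_right_cancel (b := y⁻¹) ?_))
        rw [e, e']
  · exact absurd (dvd_trans (by rw [h5]) horbK) hK5
  · exact absurd (dvd_trans (by rw [h5]; norm_num) horbK) hK5

theorem card_range_cellHom (hL : Local E₀) (x : Blk E₀) : Nat.card (cellHom hL x).range = 2520 := by
  have h := (cellHom hL x).ker.card_mul_index
  rw [Subgroup.index_ker, show Nat.card (MulAction.stabilizer G x) = 40320 by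
    rw [show MulAction.stabilizer G x = _ from stabilizer_eq x, (isLocal hL x).cardN],
    show Nat.card (cellHom hL x).ker = 16 by
      rw [← Subgroup.card_map_of_injective (MulAction.stabilizer G x).subtype_injective]
      show Nat.card (cellKer hL x) = 16
      rw [cellKer_eq, (isLocal hL x).card]] at h
  omega

theorem index_range_cellHom (hL : Local E₀) (x : Blk E₀) : (cellHom hL x).range.index = 2 := by
  have h := (cellHom hL x).range.card_mul_index
  rw [card_range_cellHom, Nat.card_perm, Nat.card_eq_fintype_card, Fintype.card_coe, card_cellsAt] at h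
  norm_num [Nat.factorial] at h
  omega

theorem outer (hL : Local E₀) {x y z₁ z₂ : Blk E₀} (h : Adj x y) (h₁ : Adj x z₁) (h₂ : Adj x z₂)
    (hn₁ : z₁ ∉ cell x y) (hn₂ : z₂ ∉ cell x y) :
    ∃ g : G, g • x = x ∧ g • y = y ∧ cell x (g • z₁) = cell x z₂ := by
  classical
  let mk : ∀ z, Adj x z → CellT hL x := fun z hz => ⟨cell x z, (mem_cellsAt hL).2 ⟨z, hz, rfl⟩⟩
  have hne : ∀ z (hz : Adj x z), z ∉ cell x y → mk z hz ≠ mk y h := fun z hz hzn e =>
    hzn (by have e' : cell x z = cell x y := congrArg Subtype.val e; rw [← e']; exact self_mem x z)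
  obtain ⟨σ, hσ, hσ0, hσ1⟩ := exists_fix_map_of_index_two
    (by rw [Fintype.card_coe, card_cellsAt hL x]; norm_num) (index_range_cellHom hL x)
    (hne z₁ h₁ hn₁) (hne z₂ h₂ hn₂)
  obtain ⟨g, rfl⟩ := hσ
  have e0 : (cell x y).image ((g : G) • ·) = cell x y := congrArg Subtype.val hσ0
  have e1 : (cell x z₁).image ((g : G) • ·) = cell x z₂ := congrArg Subtype.val hσ1
  have hgy : (g : G) • y ∈ cell x y := by
    rw [← e0]; exact Finset.mem_image_of_mem _ (self_mem x y)
  obtain ⟨e, he, hey⟩ := mem_cell.1 hgy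
  have hex : e⁻¹ • x = x := smul_self_of_mem hL (x.1.inv_mem he)
  refine ⟨e⁻¹ * g, by rw [mul_smul, g.2, hex], by rw [mul_smul, ← hey, inv_smul_smul], ?_⟩
  rw [mul_smul, cell_smul_stab hex, cell_smul_stab g.2, e1, ← cell_smul_stab hex]
  exact cell_eq (mem_cell.2 ⟨e⁻¹, x.1.inv_mem he, rfl⟩)

/-- The number of neighbours of a block in a set. -/
noncomputable def adjCount (hL : Local E₀) (y : Blk E₀) (C : Finset (Blk E₀)) : ℕ :=
  (C.filter fun z => (graph hL).Adj y z).card

theorem adjCount_smul (hL : Local E₀) (g : G) (y : Blk E₀) (C : Finset (Blk E₀)) :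
    adjCount hL (g • y) (C.image (g • ·)) = adjCount hL y C := by
  rw [adjCount, adjCount, Finset.filter_image, Finset.card_image_of_injective _ (MulAction.injective g)]
  congr 1
  refine Finset.filter_congr fun z _ => ?_
  rw [graph_adj, graph_adj, adj_smul_iff]

theorem triples (hL : Local E₀) (x : Blk E₀) :
    ∃ a b : ℕ, ∀ y, x ≠ y → ¬ (graph hL).Adj x y →
      ∃ T : Finset (Finset (Blk E₀)), T ⊆ cellsAt hL x ∧ T.card = 3 ∧
        ∀ C ∈ cellsAt hL x, (C.filter fun z => (graph hL).Adj y z).card = if C ∈ T then a else b := by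
  classical
  obtain ⟨y₀, hne₀, hy₀⟩ : {y | x ≠ y ∧ ¬ Adj x y}.Nonempty :=
    (Set.ncard_pos (Set.toFinite _)).1 (by rw [(counts hL x).2]; norm_num)
  set φ := cellHom hL x
  set D := (stab x y₀).subgroupOf (MulAction.stabilizer G x)
  have hle : stab x y₀ ≤ MulAction.stabilizer G x := fun c hc => smul_eq_iff.2 hc.1
  have hR : Nat.card (D.map φ) = 72 := by
    let ψ : D →* Equiv.Perm (CellT hL x) := φ.comp D.subtype
    have hrange : ψ.range = D.map φ := by
      rw [show ψ = φ.comp D.subtype from rfl, MonoidHom.range_comp, Subgroup.range_subtype]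
    have h := ψ.ker.card_mul_index
    rw [Subgroup.index_ker, hrange, Nat.card_congr (subgroupOfEquivOfLe hle).toEquiv,
      card_stab_far hL hne₀ hy₀] at h
    have hk : Nat.card ψ.ker = 4 := by
      rw [← Subgroup.card_map_of_injective (f := ((MulAction.stabilizer G x).subtype.comp D.subtype))
        ((MulAction.stabilizer G x).subtype_injective.comp D.subtype_injective)]
      have e : ψ.ker.map ((MulAction.stabilizer G x).subtype.comp D.subtype) = fixPart x.1 y₀.1 := by
        ext g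
        rw [Subgroup.mem_map, mem_fixPart]
        constructor
        · rintro ⟨c, hc, rfl⟩
          refine ⟨?_, c.2.2⟩
          rw [← cellKer_eq hL x]
          exact ⟨c.1, hc, rfl⟩
        · rintro ⟨hgx, hgy⟩
          have hgN : g ∈ MulAction.stabilizer G x := smul_self_of_mem hL hgx
          refine ⟨⟨⟨g, hgN⟩, ⟨(isLocal hL x).le_normalizer hgx, hgy⟩⟩, ?_, rfl⟩
          obtain ⟨c, hc, hce⟩ := le_cellKer hL x hgx
          have : c = ⟨g, hgN⟩ := Subtype.ext hce
          rw [this] at hc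
          exact hc
      rw [e]
      rcases (isLocal hL x).stab_cases (isLocal hL y₀) (meet hL hne₀) with ⟨h1, -⟩ | ⟨h4, -⟩
      · exact absurd ⟨hne₀, h1⟩ hy₀
      · exact h4
    rw [hk] at h
    omega
  obtain ⟨T, hT3, -, hTin, hTout⟩ := exists_three_four (by rw [Fintype.card_coe, card_cellsAt hL x]) hR
    (by rw [← Equiv.Perm.eq_alternatingGroup_of_index_eq_two (index_range_cellHom hL x)]
        exact Subgroup.map_le_range _ _)
  have hinv : ∀ C C' : CellT hL x, SameOrbit (D.map φ) C C' →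
      adjCount hL y₀ C.1 = adjCount hL y₀ C'.1 := by
    rintro C C' ⟨_, ⟨c, hc, rfl⟩, rfl⟩
    have hy : (c : G) • y₀ = y₀ := smul_eq_iff.2 hc.2
    rw [show (φ c C).1 = C.1.image ((c : G) • ·) from rfl]
    conv_rhs => rw [← hy]
    rw [adjCount_smul]
  obtain ⟨C₁, hC₁⟩ := Finset.card_pos.1 (show 0 < T.card by omega)
  obtain ⟨C₂, hC₂⟩ : ∃ C, C ∉ T := by
    by_contra hcon
    push Not at hcon
    have : T = Finset.univ := Finset.eq_univ_of_forall hcon
    rw [this, Finset.card_univ, Fintype.card_coe, card_cellsAt hL x] at hT3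
    omega
  refine ⟨adjCount hL y₀ C₁.1, adjCount hL y₀ C₂.1, fun y hne hy => ?_⟩
  obtain ⟨g, hgx, hgy⟩ := exists_map_far hL hne₀ hy₀ hne hy
  have hginv : g⁻¹ • x = x := by rw [inv_smul_eq_iff, hgx]
  set T' := T.image (fun C : CellT hL x => C.1.image (g • ·))
  refine ⟨T', ?_, ?_, fun C hC => ?_⟩
  · intro C hC
    obtain ⟨C', -, rfl⟩ := Finset.mem_image.1 hC
    exact image_mem_cellsAt hL ⟨g, hgx⟩ C'.2
  · rw [Finset.card_image_of_injective _ fun a b h => Subtype.ext
      ((Finset.image_injective (MulAction.injective g)) h), hT3]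
  · set C' : CellT hL x := ⟨C.image (g⁻¹ • ·), image_mem_cellsAt hL ⟨g⁻¹, hginv⟩ hC⟩
    have hCe : C'.1.image (g • ·) = C := by simp [C', Finset.image_image, Function.comp_def]
    have hiff : C ∈ T' ↔ C' ∈ T := by
      rw [Finset.mem_image]
      constructor
      · rintro ⟨K, hK, e⟩
        rwa [show C' = K from Subtype.ext ((Finset.image_injective (MulAction.injective g)) (hCe.trans e.symm))]
      · exact fun h => ⟨C', h, hCe⟩
    show adjCount hL y C = _
    rw [← hgy, ← hCe, adjCount_smul]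
    split_ifs with hmem
    · exact hinv _ _ (hTin C' (hiff.1 (hCe ▸ hmem)) C₁ hC₁)
    · exact hinv _ _ (hTout C' (fun h => hmem (hCe.symm ▸ hiff.2 h)) C₂ hC₂)

/-- The block data. -/
noncomputable def blockData (hL : Local E₀) : BlockData G (Blk E₀) where
  Γ := graph hL
  dec := inferInstance
  srg := srg hL
  adj_smul := adj_smul_iff
  cell := cell
  self_mem x y _ := self_mem x y
  card_cell _ _ h := card_cell hL h
  cell_adj _ _ h _ hz := cell_adj hL h hz
  cell_eq _ _ _ _ hz := cell_eq hz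
  cell_smul g x y _ := cell_smul g x y
  inner _ _ h _ h₁ _ h₂ hn₁ hn₂ := inner hL h h₁ h₂ hn₁ hn₂
  outer _ _ h _ _ h₁ h₂ hn₁ hn₂ := outer hL h h₁ h₂ hn₁ hn₂
  triples := triples hL

end Blk

end CfsgLib.MathieuTwentyThree
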