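import Cfsg.Agent.Lib.MathieuTwentyThree.FrobeniusFix
import Cfsg.Agent.Lib.Order7920.Edge
import Cfsg.Agent.Lib.Small.Basic
import Cfsg.Agent.Lib.Small.LowA

/-!
A group of order 2688 with a central involution in which the elements of order seven have small centralisers
has a normal elementary abelian self-centralising subgroup of order 16.
-/

set_option autoImplicit false
set_option linter.unusedSectionVars false
set_option linter.style.haveILetI false

namespace CfsgLib.MathieuTwentyThree

open Subgroup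

variable {Γ : Type*} [Group Γ]

/-- The hypotheses on the centraliser of an involution. -/
structure CentHyp (t : Γ) : Prop where
  card : Nat.card Γ = 2688
  sq : t * t = 1
  ne : t ≠ 1
  central : ∀ g : Γ, g * t = t * g
  seven : ∀ y : Γ, orderOf y = 7 → Nat.card (centralizer ({y} : Set Γ)) = 14
  norm : ∀ y : Γ, orderOf y = 7 → Nat.card (normalizer (zpowers y : Set Γ)) = 42
  three : ∀ x : Γ, orderOf x = 3 → Nat.card (centralizer ({x} : Set Γ)) ∣ 180

theorem map_mem_centre {A : Type*} [Group A] (f : A ≃* A) {z : A} (hz : z ∈ center A) : f z ∈ center A := by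
  rw [Subgroup.mem_center_iff] at hz ⊢
  intro g
  obtain ⟨g', rfl⟩ := f.surjective g
  rw [← map_mul, ← map_mul, hz]

namespace CentHyp

variable [Finite Γ] {t : Γ} (h : CentHyp t)
include h

theorem orderOf_eq : orderOf t = 2 := by
  have : Fact (Nat.Prime 2) := ⟨Nat.prime_two⟩
  exact orderOf_eq_prime (by rw [pow_two, h.sq]) h.ne

theorem mem_zpowers_iff' {z : Γ} : z ∈ zpowers t ↔ z = 1 ∨ z = t := by
  constructor
  · intro hz
    obtain ⟨n, rfl⟩ := mem_zpowers_iff.1 hz
    have ht2 : t ^ (2 : ℤ) = 1 := by rw [show ((2 : ℤ)) = ((2 : ℕ) : ℤ) from rfl, zpow_natCast, pow_two, h.sq]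
    rcases Int.even_or_odd n with ⟨k, rfl⟩ | ⟨k, rfl⟩
    · left; rw [← two_mul, zpow_mul, ht2, one_zpow]
    · right; rw [zpow_add, zpow_mul, ht2, one_zpow, one_mul, zpow_one]
  · rintro (rfl | rfl)
    · exact one_mem _
    · exact mem_zpowers _

theorem normal_zpowers : (zpowers t).Normal := ⟨fun z hz g => by
  have hc : g * t * g⁻¹ = t := by rw [h.central, mul_inv_cancel_right]
  rcases (h.mem_zpowers_iff').1 hz with rfl | rfl
  · rw [mul_one, mul_inv_cancel]; exact one_mem _
  · rw [hc]; exact mem_zpowers _⟩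

theorem exists_seven : ∃ y : Γ, orderOf y = 7 := by
  have : Fact (Nat.Prime 7) := ⟨by norm_num⟩
  exact exists_prime_orderOf_dvd_card' 7 (by rw [h.card]; norm_num)

theorem centralizer_seven {y : Γ} (hy : orderOf y = 7) :
    centralizer ({y} : Set Γ) = zpowers (t * y) := by
  have hcom : Commute t y := (h.central y).symm
  have ho : orderOf (t * y) = 14 := by
    rw [hcom.orderOf_mul_eq_mul_orderOf_of_coprime (by rw [h.orderOf_eq, hy]; norm_num), h.orderOf_eq, hy]
  refine (Subgroup.eq_of_le_of_card_ge ?_ ?_).symm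
  · rw [zpowers_le, mem_centralizer_singleton_iff, mul_assoc, ← mul_assoc y, h.central y, mul_assoc]
  · rw [h.seven y hy, Nat.card_zpowers, ho]

theorem eq_of_involution {y r : Γ} (hy : orderOf y = 7) (hr : r * r = 1)
    (hry : r ∈ centralizer ({y} : Set Γ)) : r ∈ zpowers t := by
  rw [h.centralizer_seven hy] at hry
  obtain ⟨n, rfl⟩ := mem_zpowers_iff.1 hry
  have hcom : Commute t y := (h.central y).symm
  rw [hcom.mul_zpow] at hr ⊢
  have hy2 : y ^ (n + n) = 1 := by
    have h1 : t ^ n * y ^ n * (t ^ n * y ^ n) = t ^ (n + n) * y ^ (n + n) := by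
      rw [zpow_add, zpow_add]
      calc t ^ n * y ^ n * (t ^ n * y ^ n) = t ^ n * (y ^ n * t ^ n) * y ^ n := by group
        _ = t ^ n * (t ^ n * y ^ n) * y ^ n := by rw [(hcom.zpow_zpow n n).eq]
        _ = _ := by group
    have h2 : t ^ (n + n) = 1 := by
      rw [← two_mul, zpow_mul, show t ^ (2 : ℤ) = 1 by
        rw [show ((2 : ℤ)) = ((2 : ℕ) : ℤ) from rfl, zpow_natCast, pow_two, h.sq], one_zpow]
    rw [h1, h2, one_mul] at hr
    exact hr
  rw [← orderOf_dvd_iff_zpow_eq_one, hy] at hy2
  have hyn : y ^ n = 1 := by rw [← orderOf_dvd_iff_zpow_eq_one, hy]; omega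
  rw [hyn, mul_one]
  exact zpow_mem (mem_zpowers t) n

/-- Fixed points of an element of order seven in a normal subgroup of order prime to seven. -/
theorem card_inf_centralizer {K : Subgroup Γ} (hK : ¬ 7 ∣ Nat.card K) (htK : t ∈ K) {y : Γ} (hy : orderOf y = 7) :
    Nat.card (K ⊓ centralizer (zpowers y : Set Γ) : Subgroup Γ) = 2 := by
  set C := K ⊓ centralizer (zpowers y : Set Γ)
  have h1 : Nat.card C ∣ 14 := by
    refine h.seven y hy ▸ Subgroup.card_dvd_of_le fun z hz => mem_centralizer_singleton_iff.2 ?_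
    exact (mem_centralizer_iff.1 hz.2 y (mem_zpowers y)).symm
  have h2 : 2 ∣ Nat.card C := by
    rw [← h.orderOf_eq]
    have htC : t ∈ C := ⟨htK, mem_centralizer_iff.2 fun z _ => h.central z⟩
    exact (Subgroup.orderOf_mk _ htC).symm ▸ orderOf_dvd_natCard (⟨t, htC⟩ : C)
  have h3 : ¬ 7 ∣ Nat.card C := fun hd => hK (hd.trans (Subgroup.card_dvd_of_le inf_le_left))
  have hdiv := Nat.mem_divisors.2 ⟨h1, by norm_num⟩
  rw [show (14 : ℕ).divisors = {1, 2, 7, 14} by decide] at hdiv
  simp only [Finset.mem_insert, Finset.mem_singleton] at hdiv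
  omega

/-- Normal subgroups of order prime to seven containing the central involution. -/
theorem card_normal {K : Subgroup Γ} [K.Normal] (hK : ¬ 7 ∣ Nat.card K) (htK : t ∈ K) :
    Nat.card K = 2 ∨ Nat.card K = 16 ∨ Nat.card K = 128 := by
  obtain ⟨y, hy⟩ := h.exists_seven
  have : Fact (Nat.Prime 7) := ⟨by norm_num⟩
  have hp : IsPGroup 7 (zpowers y) := IsPGroup.of_card (n := 1) (by rw [Nat.card_zpowers, hy, pow_one])
  have hm := CfsgLib.Order7920.card_modEq_card_inf_centralizer (R := K) hp (by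
    rw [normalizer_eq_top]; exact le_top)
  rw [h.card_inf_centralizer hK htK hy, Nat.ModEq] at hm
  have h384 : Nat.card K ∣ 384 :=
    ((Nat.Prime.coprime_iff_not_dvd (by norm_num)).2 hK).symm.dvd_of_dvd_mul_left
      (show Nat.card K ∣ 7 * 384 by
        have := Subgroup.card_subgroup_dvd_card K
        rw [h.card] at this
        norm_num
        exact this)
  have key : ∀ d ∈ (384 : ℕ).divisors, d % 7 = 2 % 7 → d = 2 ∨ d = 16 ∨ d = 128 := by decide +kernel
  exact key _ (Nat.mem_divisors.2 ⟨h384, by norm_num⟩) hm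

theorem exists_frobenius :
    ∃ x y : Γ, orderOf y = 7 ∧ orderOf x = 3 ∧ x * y * x⁻¹ = y * y := by
  obtain ⟨y, hy⟩ := h.exists_seven
  have : Fact (Nat.Prime 3) := ⟨by norm_num⟩
  obtain ⟨⟨x, hxN⟩, hxo⟩ := exists_prime_orderOf_dvd_card' 3
    (show 3 ∣ Nat.card (normalizer (zpowers y : Set Γ)) by rw [h.norm y hy]; norm_num)
  rw [Subgroup.orderOf_mk] at hxo
  obtain ⟨k, hk⟩ := mem_zpowers_iff.1 ((mem_normalizer_iff.1 hxN y).1 (mem_zpowers y))
  have hy7 : ∀ a b : ℤ, a % 7 = b % 7 → y ^ a = y ^ b := fun a b e => by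
    rw [zpow_eq_zpow_iff_modEq, hy]; exact e
  have hiter : ∀ n : ℕ, x ^ n * y * (x ^ n)⁻¹ = y ^ (k ^ n) := by
    intro n
    induction n with
    | zero => simp
    | succ n ih =>
      calc x ^ (n + 1) * y * (x ^ (n + 1))⁻¹ = x * (x ^ n * y * (x ^ n)⁻¹) * x⁻¹ := by
            rw [pow_succ']; group
        _ = (x * y * x⁻¹) ^ (k ^ n) := by rw [ih, conj_zpow]
        _ = y ^ (k ^ (n + 1)) := by rw [← hk, ← zpow_mul, ← pow_succ']
  have hx3 : x ^ 3 = 1 := hxo ▸ pow_orderOf_eq_one x
  have hk3 : (k ^ 3) % 7 = 1 % 7 := by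
    have h3 := hiter 3
    rw [hx3, one_mul, inv_one, mul_one] at h3
    have := (zpow_eq_zpow_iff_modEq (x := y)).1 (show y ^ (k ^ 3) = y ^ (1 : ℤ) by rw [← h3, zpow_one])
    rwa [hy] at this
  have hk1 : k % 7 ≠ 1 := by
    intro hk1
    have hxy : x ∈ centralizer ({y} : Set Γ) := by
      rw [mem_centralizer_singleton_iff]
      have : x * y * x⁻¹ = y := by rw [← hk, hy7 k 1 (by omega), zpow_one]
      calc x * y = x * y * x⁻¹ * x := by group
        _ = y * x := by rw [this]
    have := orderOf_dvd_natCard (⟨x, hxy⟩ : centralizer ({y} : Set Γ))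
    rw [Subgroup.orderOf_mk, hxo, h.seven y hy] at this
    norm_num at this
  have hcases : k % 7 = 2 ∨ k % 7 = 4 := by
    have h7 : 0 ≤ k % 7 ∧ k % 7 < 7 := ⟨Int.emod_nonneg _ (by norm_num), Int.emod_lt_of_pos _ (by norm_num)⟩
    rw [← (Int.mod_modEq k 7).pow 3] at hk3
    obtain ⟨h0, h6⟩ := h7
    interval_cases hh : k % 7 <;> simp_all
  rcases hcases with e | e
  · exact ⟨x, y, hy, hxo, by rw [← hk, hy7 k 2 (by omega), zpow_two]⟩
  · refine ⟨x ^ 2, y, hy, ?_, ?_⟩
    · rw [orderOf_pow, hxo]; norm_num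
    · rw [hiter 2, hy7 (k ^ 2) 2 (by rw [← (Int.mod_modEq k 7).pow 2, e]; norm_num), zpow_two]

/-- The order 128 does not occur. -/
theorem card_ne_128 {R : Subgroup Γ} [R.Normal] (htR : t ∈ R) : Nat.card R ≠ 128 := by
  intro hR
  obtain ⟨x, y, hy, hx, hxy⟩ := h.exists_frobenius
  have : Fact (Nat.Prime 3) := ⟨by norm_num⟩
  have : Fact (Nat.Prime 2) := ⟨Nat.prime_two⟩
  haveI := h.normal_zpowers
  -- fixed points of the element of order three
  have hcx : Nat.card (R ⊓ centralizer (zpowers x : Set Γ) : Subgroup Γ) = 2 := by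
    have hp : IsPGroup 3 (zpowers x) := IsPGroup.of_card (n := 1) (by rw [Nat.card_zpowers, hx, pow_one])
    have hm := CfsgLib.Order7920.card_modEq_card_inf_centralizer (R := R) hp (by
      rw [normalizer_eq_top]; exact le_top)
    set C := R ⊓ centralizer (zpowers x : Set Γ)
    have h1 : Nat.card C ∣ 128 := hR ▸ Subgroup.card_dvd_of_le inf_le_left
    have h2 : Nat.card C ∣ 180 := by
      refine (Subgroup.card_dvd_of_le ?_).trans (h.three x hx)
      exact fun z hz => mem_centralizer_singleton_iff.2 (mem_centralizer_iff.1 hz.2 x (mem_zpowers x)).symm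
    have h4 : Nat.card C ∣ 4 := (Nat.dvd_gcd h1 h2).trans (by norm_num)
    rw [hR, Nat.ModEq] at hm
    have hdiv := Nat.mem_divisors.2 ⟨h4, by norm_num⟩
    rw [show (4 : ℕ).divisors = {1, 2, 4} by decide] at hdiv
    simp only [Finset.mem_insert, Finset.mem_singleton] at hdiv
    omega
  -- both generators fix only the identity modulo the involution
  have hfix : ∀ w : Γ, ∀ m : ℕ, orderOf w = m → Odd m →
      (∀ r ∈ R, r ∈ centralizer ({w} : Set Γ) → r ∈ zpowers t) →
      ∀ r ∈ R, w * r * w⁻¹ * r⁻¹ ∈ zpowers t → r ∈ zpowers t := by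
    intro w m hw hm hC r hr hcomm
    refine hC r hr ?_
    rw [mem_centralizer_singleton_iff]
    rcases (h.mem_zpowers_iff').1 hcomm with e | e
    · calc r * w = (w * r * w⁻¹ * r⁻¹) * r * w := by rw [e, one_mul]
        _ = w * r := by group
    · exfalso
      have hwr : w * r * w⁻¹ = r * t := by
        rw [h.central r, ← e]; group
      have hiter : ∀ n : ℕ, w ^ n * r * (w ^ n)⁻¹ = r * t ^ n := by
        intro n
        induction n with
        | zero => simp
        | succ n ih =>
          calc w ^ (n + 1) * r * (w ^ (n + 1))⁻¹ = w * (w ^ n * r * (w ^ n)⁻¹) * w⁻¹ := by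
                rw [pow_succ']; group
            _ = (w * r * w⁻¹) * (w * t ^ n * w⁻¹) := by rw [ih]; group
            _ = r * t * t ^ n := by
                rw [hwr, ((show Commute w t from h.central w).pow_right n).eq, mul_inv_cancel_right]
            _ = r * t ^ (n + 1) := by rw [pow_succ', mul_assoc]
      have h1 := hiter m
      rw [← hw, pow_orderOf_eq_one, one_mul, inv_one, mul_one, hw] at h1
      obtain ⟨j, rfl⟩ := hm
      rw [pow_add, pow_mul, pow_two, h.sq, one_pow, one_mul, pow_one] at h1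
      exact h.ne (mul_left_cancel (h1.symm.trans (mul_one r).symm))
  have hCy : ∀ r ∈ R, r ∈ centralizer ({y} : Set Γ) → r ∈ zpowers t := by
    intro r hr hry
    have hC2 := h.card_inf_centralizer (K := R) (by rw [hR]; norm_num) htR hy
    have hle : zpowers t ≤ R ⊓ centralizer (zpowers y : Set Γ) :=
      zpowers_le.2 ⟨htR, mem_centralizer_iff.2 fun z _ => h.central z⟩
    rw [Subgroup.eq_of_le_of_card_ge hle (by rw [hC2, Nat.card_zpowers, h.orderOf_eq])]
    refine ⟨hr, mem_centralizer_iff.2 fun z hz => ?_⟩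
    obtain ⟨n, rfl⟩ := mem_zpowers_iff.1 hz
    exact ((show Commute r y from mem_centralizer_singleton_iff.1 hry).zpow_right n).symm.eq
  have hCx : ∀ r ∈ R, r ∈ centralizer ({x} : Set Γ) → r ∈ zpowers t := by
    intro r hr hrx
    have hle : zpowers t ≤ R ⊓ centralizer (zpowers x : Set Γ) :=
      zpowers_le.2 ⟨htR, mem_centralizer_iff.2 fun z _ => h.central z⟩
    rw [Subgroup.eq_of_le_of_card_ge hle (by rw [hcx, Nat.card_zpowers, h.orderOf_eq])]
    refine ⟨hr, mem_centralizer_iff.2 fun z hz => ?_⟩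
    obtain ⟨n, rfl⟩ := mem_zpowers_iff.1 hz
    exact ((show Commute r x from mem_centralizer_singleton_iff.1 hrx).zpow_right n).symm.eq
  -- the centre of the quotient
  set π := QuotientGroup.mk' (zpowers t)
  set Rb := R.map π
  haveI : Rb.Normal := Subgroup.Normal.map inferInstance π (QuotientGroup.mk'_surjective _)
  have hker : π.ker = zpowers t := QuotientGroup.ker_mk' _
  have hbig : Rb ≠ ⊥ := by
    intro e
    rw [Subgroup.map_eq_bot_iff, hker] at e
    have := Subgroup.card_le_of_le e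
    rw [hR, Nat.card_zpowers, h.orderOf_eq] at this
    omega
  haveI : Nontrivial Rb := (Subgroup.nontrivial_iff_ne_bot Rb).2 hbig
  have hpR : IsPGroup 2 Rb := (IsPGroup.of_card (p := 2) (n := 7) (G := R) hR).map π
  haveI hZ : Nontrivial (center Rb) := hpR.center_nontrivial
  let conjZ : Γ ⧸ zpowers t → (center Rb ≃* center Rb) := fun w =>
    let f : Rb ≃* Rb := MulAut.conjNormal w
    { toFun := fun z => ⟨f z, (map_mem_centre f z.2)⟩
      invFun := fun z => ⟨f.symm z, (map_mem_centre f.symm z.2)⟩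
      left_inv := fun z => Subtype.ext (f.symm_apply_apply z)
      right_inv := fun z => Subtype.ext (f.apply_symm_apply z)
      map_mul' := fun a b => Subtype.ext (map_mul f (a : Rb) (b : Rb)) }
  have hval : ∀ w (z : center Rb), (((conjZ w z : center Rb) : Rb) : Γ ⧸ zpowers t) = w * ((z : Rb) : Γ ⧸ zpowers t) * w⁻¹ :=
    fun w z => rfl
  have hiter : ∀ w n (z : center Rb),
      ((((conjZ w)^[n] z : center Rb) : Rb) : Γ ⧸ zpowers t) = w ^ n * ((z : Rb) : Γ ⧸ zpowers t) * (w ^ n)⁻¹ := by
    intro w n z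
    induction n with
    | zero => simp
    | succ n ih =>
      rw [Function.iterate_succ_apply', hval, ih, pow_succ']
      group
  have hext : ∀ z z' : center Rb, ((z : Rb) : Γ ⧸ zpowers t) = ((z' : Rb) : Γ ⧸ zpowers t) → z = z' :=
    fun z z' e => Subtype.ext (Subtype.ext e)
  have hlift : ∀ w : Γ, ∀ m : ℕ, orderOf w = m → Odd m →
      (∀ r ∈ R, r ∈ centralizer ({w} : Set Γ) → r ∈ zpowers t) →
      ∀ z : center Rb, conjZ (π w) z = z → z = 1 := by
    intro w m hw hm hC z hz
    obtain ⟨r, hr, hrz⟩ := Subgroup.mem_map.1 (z : Rb).2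
    have e : π (w * r * w⁻¹ * r⁻¹) = 1 := by
      rw [map_mul, map_mul, map_mul, map_inv, map_inv, hrz, ← hval, hz, mul_inv_cancel]
    rw [← MonoidHom.mem_ker, hker] at e
    have := hfix w m hw hm hC r hr e
    rw [← hker, MonoidHom.mem_ker, hrz] at this
    exact hext z 1 this
  obtain ⟨a, ha⟩ := exists_ne (1 : center Rb)
  let A : CommGroup (center Rb) := { (inferInstance : Group (center Rb)) with mul_comm := fun a b => mul_comm' a b }
  have h7 := @pow_seven_eq_one (center Rb) A (conjZ (π y)) (conjZ (π x))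
    (fun z => hext _ _ (by rw [hiter, ← map_pow, ← hy, pow_orderOf_eq_one, map_one, one_mul, inv_one, mul_one]))
    (fun z => hext _ _ (by rw [hiter, ← map_pow, ← hx, pow_orderOf_eq_one, map_one, one_mul, inv_one, mul_one]))
    (fun z => hext _ _ (by
      rw [hval, hval, hval, hval, hval]
      have e : π x * π y = π y * π y * π x := by
        rw [← map_mul, ← map_mul, ← map_mul, ← hxy, inv_mul_cancel_right]
      calc π x * (π y * ((z : Rb) : Γ ⧸ zpowers t) * (π y)⁻¹) * (π x)⁻¹
          = π x * π y * ((z : Rb) : Γ ⧸ zpowers t) * (π x * π y)⁻¹ := by group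
        _ = _ := by rw [e]; group))
    (hlift y 7 hy (by decide) hCy) (hlift x 3 hx (by decide) hCx) a
  obtain ⟨k, hk⟩ := IsPGroup.iff_orderOf.1 (hpR.to_subgroup (center Rb)) a
  have hd : orderOf a ∣ 7 := orderOf_dvd_of_pow_eq_one h7
  rw [hk] at hd
  rcases (Nat.dvd_prime (by norm_num)).1 hd with e | e
  · exact ha (orderOf_eq_one_iff.1 (hk.trans e))
  · have := (Nat.prime_two.dvd_of_dvd_pow (m := 2) (n := k) (p := 2))
    have h2 : (2 : ℕ) ∣ 7 ∨ k = 0 := by
      rcases k.eq_zero_or_pos with h0 | h0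
      · exact Or.inr h0
      · exact Or.inl (e ▸ dvd_pow_self 2 (by omega))
    rcases h2 with h2 | h2
    · norm_num at h2
    · rw [h2] at e; norm_num at e

/-- A normal complement in the subgroups containing the elements of order seven. -/
theorem exists_normal_two_of_seven {K : Subgroup Γ} [K.Normal] (htK : t ∈ K) (hne : K ≠ ⊤)
    (h7 : 7 ∣ Nat.card K) : ∃ M : Subgroup Γ, M.Normal ∧ t ∈ M ∧ Nat.card M = 128 := by
  have : Fact (Nat.Prime 7) := ⟨by norm_num⟩
  have : Fact (Nat.Prime 2) := ⟨Nat.prime_two⟩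
  obtain ⟨P⟩ : Nonempty (Sylow 7 K) := inferInstance
  have hP : Nat.card (P : Subgroup K) = 7 := by
    obtain ⟨k, hk⟩ := IsPGroup.iff_card.1 P.isPGroup'
    have h1 : 7 ∣ Nat.card (P : Subgroup K) := P.dvd_card_of_dvd_card h7
    have h2 : Nat.card (P : Subgroup K) ∣ 2688 :=
      h.card ▸ (Subgroup.card_subgroup_dvd_card _).trans (Subgroup.card_subgroup_dvd_card K)
    rw [hk] at h1 h2 ⊢
    match k with
    | 0 => norm_num at h1
    | 1 => rfl
    | k + 2 =>
      have : 7 ^ 2 ∣ 2688 := (Nat.pow_dvd_pow 7 (by omega)).trans h2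
      norm_num at this
  obtain ⟨⟨z, hz⟩, hzo⟩ := exists_prime_orderOf_dvd_card' 7 (show 7 ∣ Nat.card (P : Subgroup K) by rw [hP])
  rw [Subgroup.orderOf_mk] at hzo
  set y : Γ := (z : Γ)
  have hy : orderOf y = 7 := (Subgroup.orderOf_coe z).trans hzo
  have hPz : zpowers z = (P : Subgroup K) :=
    Subgroup.eq_of_le_of_card_ge (zpowers_le.2 hz) (by rw [hP, Nat.card_zpowers, hzo])
  have hmap : (P : Subgroup K).map K.subtype = zpowers y := by
    rw [← hPz, MonoidHom.map_zpowers]; rfl
  set N := normalizer (zpowers y : Set Γ)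
  have htop : N ⊔ K = ⊤ := by
    have := Sylow.normalizer_sup_eq_top P
    rwa [hmap] at this
  set φ : N →* Γ ⧸ K := (QuotientGroup.mk' K).comp N.subtype
  have hφ : Function.Surjective φ := by
    intro q
    obtain ⟨g, rfl⟩ := QuotientGroup.mk'_surjective K q
    have hg : g ∈ N ⊔ K := htop ▸ Subgroup.mem_top g
    rw [← SetLike.mem_coe, Subgroup.mul_normal, Set.mem_mul] at hg
    obtain ⟨n, hn, k, hk, rfl⟩ := hg
    refine ⟨⟨n, hn⟩, ?_⟩
    show ((n : Γ) : Γ ⧸ K) = ((n * k : Γ) : Γ ⧸ K)
    rw [QuotientGroup.eq]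
    simpa using hk
  have hker : φ.ker = (K ⊓ N).subgroupOf N := by
    ext n
    rw [MonoidHom.mem_ker, mem_subgroupOf]
    show ((n : Γ) : Γ ⧸ K) = 1 ↔ _
    rw [QuotientGroup.eq_one_iff]
    exact ⟨fun hh => ⟨hh, n.2⟩, fun hh => hh.1⟩
  have hmul : Nat.card (K ⊓ N : Subgroup Γ) * K.index = 42 := by
    have := φ.ker.card_mul_index
    rwa [hker, Nat.card_congr (subgroupOfEquivOfLe inf_le_right).toEquiv, h.norm y hy,
      ← hker, Subgroup.index_ker, MonoidHom.range_eq_top.2 hφ, Subgroup.card_top,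
      ← Subgroup.index_eq_card] at this
  have hCle : centralizer ({y} : Set Γ) ≤ K ⊓ N := by
    rw [h.centralizer_seven hy, zpowers_le]
    refine ⟨K.mul_mem htK z.2, mul_mem ?_ (le_normalizer (mem_zpowers y))⟩
    show t ∈ normalizer (zpowers y : Set Γ)
    rw [mem_normalizer_iff]
    exact fun w => by rw [← h.central w, mul_inv_cancel_right]
  have h14 : 14 ∣ Nat.card (K ⊓ N : Subgroup Γ) := h.seven y hy ▸ Subgroup.card_dvd_of_le hCle
  have hidx : K.index ≠ 1 := fun e => hne (Subgroup.index_eq_one.1 e)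
  obtain ⟨c, hc⟩ := h14
  have hc1 : c = 1 := by
    have h3 : c * K.index = 3 := by rw [hc] at hmul; nlinarith
    rcases (Nat.dvd_prime (by norm_num)).1 (Dvd.intro _ h3) with e | e
    · exact e
    · rw [e] at h3; omega
  have hKN : centralizer ({y} : Set Γ) = K ⊓ N :=
    Subgroup.eq_of_le_of_card_ge hCle (by rw [h.seven y hy, hc, hc1])
  have hK : Nat.card K = 896 := by
    have := K.card_mul_index
    rw [h.card] at this
    rw [hc, hc1] at hmul
    have h3 : K.index = 3 := by omega
    rw [h3] at this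
    omega
  have hle : normalizer ((P : Subgroup K) : Set K) ≤ centralizer ((P : Subgroup K) : Set K) := by
    intro k hk
    have hkN : (k : Γ) ∈ N := by
      rw [mem_normalizer_iff]
      intro w
      rw [← hmap]
      constructor
      · rintro ⟨p, hp, rfl⟩
        exact ⟨k * p * k⁻¹, (mem_normalizer_iff.1 hk p).1 hp, by simp⟩
      · rintro ⟨p, hp, e⟩
        refine ⟨k⁻¹ * p * k, ?_, ?_⟩
        · have := (mem_normalizer_iff.1 (inv_mem hk) p).1 hp
          rwa [inv_inv] at this
        · simp only [map_mul, map_inv, Subgroup.coe_subtype] at e ⊢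
          rw [e]; group
    have hkC : (k : Γ) ∈ centralizer ({y} : Set Γ) := hKN ▸ ⟨k.2, hkN⟩
    rw [← hPz, mem_centralizer_iff]
    intro w hw
    obtain ⟨n, rfl⟩ := mem_zpowers_iff.1 hw
    refine Subtype.ext ?_
    simp only [Subgroup.coe_mul, Subgroup.coe_zpow]
    exact ((show Commute (k : Γ) y from mem_centralizer_singleton_iff.1 hkC).zpow_right n).symm.eq
  set L := (MonoidHom.transferSylow P hle).ker
  have hL : Nat.card L = 128 := by
    have e : Nat.card L * Nat.card (P : Subgroup K) = Nat.card K :=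
      (MonoidHom.ker_transferSylow_isComplement' P hle).card_mul_card
    rw [hK, show Nat.card (P : Subgroup K) = 7 from hP] at e
    omega
  have hLp : IsPGroup 2 L := IsPGroup.of_card (n := 7) hL
  refine ⟨L.map K.subtype, ⟨fun m hm g => ?_⟩, ?_, by rw [Subgroup.card_map_of_injective K.subtype_injective, hL]⟩
  · obtain ⟨l, hl, rfl⟩ := Subgroup.mem_map.1 hm
    let c : K ≃* K := MulAut.conjNormal g
    have hcp : IsPGroup 2 (L.map c.toMonoidHom) := hLp.map _
    have hsup : IsPGroup 2 (L.map c.toMonoidHom ⊔ L : Subgroup K) :=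
      IsPGroup.to_sup_of_normal_right hcp hLp
    obtain ⟨k, hk⟩ := IsPGroup.iff_card.1 hsup
    have hle2 := Subgroup.card_le_of_le (le_sup_right : L ≤ L.map c.toMonoidHom ⊔ L)
    have hdvd : 2 ^ k ∣ 896 := hk ▸ hK ▸ Subgroup.card_subgroup_dvd_card _
    rw [hL, hk] at hle2
    have hk7 : k ≤ 7 := by
      by_contra hh
      have : 2 ^ 8 ∣ 896 := (Nat.pow_dvd_pow 2 (by omega)).trans hdvd
      norm_num at this
    have heq : L = L.map c.toMonoidHom ⊔ L :=
      Subgroup.eq_of_le_of_card_ge le_sup_right (by rw [hL, hk]; exact Nat.pow_le_pow_right (by norm_num) hk7)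
    refine ⟨c l, ?_, rfl⟩
    rw [heq]
    exact mem_sup_left (Subgroup.mem_map_of_mem _ hl)
  · refine ⟨⟨t, htK⟩, ?_, rfl⟩
    show MonoidHom.transferSylow P hle ⟨t, htK⟩ = 1
    have ht2 : MonoidHom.transferSylow P hle ⟨t, htK⟩ ^ 2 = 1 := by
      rw [← map_pow, show (⟨t, htK⟩ : K) ^ 2 = 1 from Subtype.ext (by simp [pow_two, h.sq]), map_one]
    have h2 := orderOf_dvd_of_pow_eq_one ht2
    have h7' := orderOf_dvd_natCard (MonoidHom.transferSylow P hle ⟨t, htK⟩)
    rw [show Nat.card (P : Subgroup K) = 7 from hP] at h7'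
    exact orderOf_eq_one_iff.1 (Nat.eq_one_of_dvd_coprimes (by norm_num) h2 h7')

theorem exists_sixteen : ∃ M : Subgroup Γ, M.Normal ∧ t ∈ M ∧ Nat.card M = 16 := by
  haveI := h.normal_zpowers
  set π := QuotientGroup.mk' (zpowers t)
  have hcard : Nat.card (Γ ⧸ zpowers t) = 1344 := by
    have := Subgroup.card_eq_card_quotient_mul_card_subgroup (zpowers t)
    rw [h.card, Nat.card_zpowers, h.orderOf_eq] at this
    omega
  have hns : ¬ IsSimpleGroup (Γ ⧸ zpowers t) := fun hs =>
    CfsgLib.Small.Low.card_ne_1344 (CfsgLib.Small.nc_of_not_prime (by rw [hcard]; norm_num)) hcard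
  haveI : Nontrivial (Γ ⧸ zpowers t) := Finite.one_lt_card_iff_nontrivial.1 (by omega)
  obtain ⟨Kb, hKb, hKb1, hKb2⟩ : ∃ Kb : Subgroup (Γ ⧸ zpowers t), Kb.Normal ∧ Kb ≠ ⊥ ∧ Kb ≠ ⊤ := by
    by_contra hcon
    push Not at hcon
    exact hns ⟨fun H hH => or_iff_not_imp_left.2 fun h1 => hcon H hH h1⟩
  set K := Kb.comap π
  haveI : K.Normal := inferInstance
  have htK : t ∈ K := by
    show π t ∈ Kb
    rw [show π t = 1 from (QuotientGroup.eq_one_iff t).2 (mem_zpowers t)]
    exact Kb.one_mem
  have hKtop : K ≠ ⊤ := fun e => hKb2 (Subgroup.comap_injective (QuotientGroup.mk'_surjective _)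
    (e.trans (Subgroup.comap_top π).symm))
  have hK2 : Nat.card K ≠ 2 := by
    intro e
    apply hKb1
    have hle : zpowers t ≤ K := zpowers_le.2 htK
    have hKe := Subgroup.eq_of_le_of_card_ge hle (by rw [e, Nat.card_zpowers, h.orderOf_eq])
    have := congrArg (Subgroup.map π) hKe
    rw [Subgroup.map_comap_eq_self_of_surjective (QuotientGroup.mk'_surjective _),
      (Subgroup.map_eq_bot_iff _).2 (QuotientGroup.ker_mk' _).ge] at this
    exact this.symm
  by_cases h7 : 7 ∣ Nat.card K
  · obtain ⟨M, hM, htM, hM128⟩ := h.exists_normal_two_of_seven htK hKtop h7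
    exact absurd hM128 (h.card_ne_128 htM)
  · rcases h.card_normal h7 htK with e | e | e
    · exact absurd e hK2
    · exact ⟨K, inferInstance, htK, e⟩
    · exact absurd e (h.card_ne_128 htK)

/-- A normal subgroup of order prime to seven containing the involution lies in the one of order sixteen. -/
theorem le_of_normal {M K : Subgroup Γ} [M.Normal] [K.Normal] (htM : t ∈ M) (hM : Nat.card M = 16)
    (hK : ¬ 7 ∣ Nat.card K) (htK : t ∈ K) : K ≤ M := by
  have hpK : IsPGroup 2 K := by
    rcases h.card_normal hK htK with e | e | e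
    · exact IsPGroup.of_card (n := 1) e
    · exact IsPGroup.of_card (n := 4) e
    · exact IsPGroup.of_card (n := 7) e
  have hp : IsPGroup 2 (K ⊔ M : Subgroup Γ) :=
    IsPGroup.to_sup_of_normal_right hpK (IsPGroup.of_card (n := 4) hM)
  have : Fact (Nat.Prime 2) := ⟨Nat.prime_two⟩
  obtain ⟨k, hk⟩ := IsPGroup.iff_card.1 hp
  have h7 : ¬ 7 ∣ Nat.card (K ⊔ M : Subgroup Γ) := by
    rw [hk]; intro hd
    exact absurd (Nat.Prime.dvd_of_dvd_pow (by norm_num) hd) (by norm_num)
  have hge := Subgroup.card_le_of_le (le_sup_right : M ≤ K ⊔ M)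
  rcases h.card_normal h7 (mem_sup_right htM) with e | e | e
  · omega
  · exact le_sup_left.trans (Subgroup.eq_of_le_of_card_ge le_sup_right (by rw [hM, e])).ge
  · exact absurd e (h.card_ne_128 (mem_sup_right htM))

variable {M : Subgroup Γ} [M.Normal] (htM : t ∈ M) (hM : Nat.card M = 16)
include htM hM

/-- An element acting trivially modulo the involution lies in the subgroup of order sixteen, once abelian. -/
theorem mem_of_trivial (habel : ∀ a ∈ M, ∀ b ∈ M, a * b = b * a) {c : Γ}
    (hc : ∀ e ∈ M, c * e * c⁻¹ * e⁻¹ ∈ zpowers t) : c ∈ M := by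
  have hnz : ∀ g : Γ, ∀ z ∈ zpowers t, g * z * g⁻¹ = z := by
    intro g z hz
    rcases (h.mem_zpowers_iff').1 hz with rfl | rfl
    · rw [mul_one, mul_inv_cancel]
    · rw [h.central, mul_inv_cancel_right]
  let K : Subgroup Γ :=
    { carrier := {g | ∀ e ∈ M, g * e * g⁻¹ * e⁻¹ ∈ zpowers t}
      one_mem' := fun e _ => by simp
      mul_mem' := fun {a b} ha hb e he => by
        have h1 := hb e he
        have h2 := ha e he
        rw [show a * b * e * (a * b)⁻¹ * e⁻¹ =
          (a * (b * e * b⁻¹ * e⁻¹) * a⁻¹) * (a * e * a⁻¹ * e⁻¹) by group, hnz a _ h1]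
        exact mul_mem h1 h2
      inv_mem' := fun {a} ha e he => by
        have h1 := inv_mem (ha e he)
        rw [show a⁻¹ * e * a⁻¹⁻¹ * e⁻¹ = a⁻¹ * (a * e * a⁻¹ * e⁻¹)⁻¹ * a⁻¹⁻¹ by group, hnz]
        · exact h1
        · exact h1 }
  haveI : K.Normal := ⟨fun k hk g e he => by
    have h1 := hk _ (show g⁻¹ * e * g⁻¹⁻¹ ∈ M from Subgroup.Normal.conj_mem inferInstance e he g⁻¹)
    rw [show g * k * g⁻¹ * e * (g * k * g⁻¹)⁻¹ * e⁻¹ =
      g * (k * (g⁻¹ * e * g⁻¹⁻¹) * k⁻¹ * (g⁻¹ * e * g⁻¹⁻¹)⁻¹) * g⁻¹ by group, hnz g _ h1]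
    exact h1⟩
  have htK : t ∈ K := fun e _ => by
    rw [show t * e * t⁻¹ * e⁻¹ = 1 by rw [← h.central e, mul_inv_cancel_right, mul_inv_cancel]]
    exact one_mem _
  have hK7 : ¬ 7 ∣ Nat.card K := by
    intro hd
    have : Fact (Nat.Prime 7) := ⟨by norm_num⟩
    obtain ⟨⟨y, hy⟩, hyo⟩ := exists_prime_orderOf_dvd_card' 7 hd
    rw [Subgroup.orderOf_mk] at hyo
    have hle : M ≤ centralizer ({y} : Set Γ) := by
      intro e he
      rw [mem_centralizer_singleton_iff]
      rcases (h.mem_zpowers_iff').1 (hy e he) with e1 | e1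
      · calc e * y = (y * e * y⁻¹ * e⁻¹) * e * y := by rw [e1, one_mul]
          _ = y * e := by group
      · exfalso
        have hyr : y * e * y⁻¹ = t * e := by rw [← e1]; group
        have hit : ∀ n : ℕ, y ^ n * e * (y ^ n)⁻¹ = t ^ n * e := by
          intro n
          induction n with
          | zero => simp
          | succ n ih =>
            calc y ^ (n + 1) * e * (y ^ (n + 1))⁻¹ = y * (y ^ n * e * (y ^ n)⁻¹) * y⁻¹ := by
                  rw [pow_succ']; group
              _ = (y * t ^ n * y⁻¹) * (y * e * y⁻¹) := by rw [ih]; group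
              _ = t ^ n * (t * e) := by
                  rw [hyr, ((show Commute y t from h.central y).pow_right n).eq, mul_inv_cancel_right]
              _ = t ^ (n + 1) * e := by rw [pow_succ, mul_assoc]
        have h7 := hit 7
        rw [show y ^ 7 = 1 from hyo ▸ pow_orderOf_eq_one y, one_mul, inv_one, mul_one,
          show t ^ 7 = t by rw [show t ^ 7 = (t ^ 2) ^ 3 * t by group, pow_two, h.sq, one_pow, one_mul]] at h7
        exact h.ne (mul_right_cancel (h7.symm.trans (one_mul e).symm))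
    have := Subgroup.card_le_of_le hle
    rw [hM, h.seven y hyo] at this
    omega
  exact h.le_of_normal htM hM hK7 htK hc

theorem sq_mem : ∀ m ∈ M, m * m ∈ zpowers t := by
  classical
  obtain ⟨y, hy⟩ := h.exists_seven
  have : Fact (Nat.Prime 7) := ⟨by norm_num⟩
  haveI := h.normal_zpowers
  set π := QuotientGroup.mk' (zpowers t)
  set Mb := M.map π
  have hker : π.ker = zpowers t := QuotientGroup.ker_mk' _
  have hTM : zpowers t ≤ M := zpowers_le.2 htM
  have hMb : Nat.card Mb = 8 := by
    have h1 := (π.domRestrict M).ker.card_mul_index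
    rw [Subgroup.index_ker, MonoidHom.domRestrict_range] at h1
    have h2 : (π.domRestrict M).ker = (zpowers t).subgroupOf M := by
      ext m
      rw [MonoidHom.mem_ker, mem_subgroupOf]
      exact QuotientGroup.eq_one_iff _
    rw [h2, Nat.card_congr (subgroupOfEquivOfLe hTM).toEquiv, Nat.card_zpowers, h.orderOf_eq, hM] at h1
    show Nat.card (M.map π) = 8
    omega
  -- an involution in the quotient
  have : Fact (Nat.Prime 2) := ⟨Nat.prime_two⟩
  obtain ⟨⟨u, hu⟩, huo⟩ := exists_prime_orderOf_dvd_card' 2 (show 2 ∣ Nat.card Mb by rw [hMb]; norm_num)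
  rw [Subgroup.orderOf_mk] at huo
  -- its conjugates under the element of order seven
  have hmem : ∀ n : ℕ, π y ^ n * u * (π y ^ n)⁻¹ ∈ Mb := by
    intro n
    haveI : Mb.Normal := Subgroup.Normal.map inferInstance π (QuotientGroup.mk'_surjective _)
    exact Subgroup.Normal.conj_mem inferInstance u hu _
  have hπy : orderOf (π y) = 7 := by
    refine orderOf_eq_prime (by rw [← map_pow, ← hy, pow_orderOf_eq_one, map_one]) fun e => ?_
    rw [← MonoidHom.mem_ker, hker] at e
    rcases (h.mem_zpowers_iff').1 e with e | e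
    · rw [e, orderOf_one] at hy; omega
    · rw [e, h.orderOf_eq] at hy; omega
  have hnc : π y * u ≠ u * π y := by
    intro e
    obtain ⟨m, hm, rfl⟩ := Subgroup.mem_map.1 hu
    have hd : y * m * y⁻¹ * m⁻¹ ∈ zpowers t := by
      rw [← hker, MonoidHom.mem_ker, map_mul, map_mul, map_mul, map_inv, map_inv, e, mul_inv_cancel_right,
        mul_inv_cancel]
    have hy7 : y ^ 7 = 1 := hy ▸ pow_orderOf_eq_one y
    have hmy : m ∈ centralizer ({y} : Set Γ) := by
      rw [mem_centralizer_singleton_iff]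
      rcases (h.mem_zpowers_iff').1 hd with e1 | e1
      · calc m * y = (y * m * y⁻¹ * m⁻¹) * m * y := by rw [e1, one_mul]
          _ = y * m := by group
      · exfalso
        have hyr : y * m * y⁻¹ = t * m := by rw [← e1]; group
        have hit : ∀ n : ℕ, y ^ n * m * (y ^ n)⁻¹ = t ^ n * m := by
          intro n
          induction n with
          | zero => simp
          | succ n ih =>
            calc y ^ (n + 1) * m * (y ^ (n + 1))⁻¹ = y * (y ^ n * m * (y ^ n)⁻¹) * y⁻¹ := by
                  rw [pow_succ']; group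
              _ = (y * t ^ n * y⁻¹) * (y * m * y⁻¹) := by rw [ih]; group
              _ = t ^ n * (t * m) := by
                  rw [hyr, ((show Commute y t from h.central y).pow_right n).eq, mul_inv_cancel_right]
              _ = t ^ (n + 1) * m := by rw [pow_succ, mul_assoc]
        have h7 := hit 7
        rw [hy7, one_mul, inv_one, mul_one,
          show t ^ 7 = t by rw [show t ^ 7 = (t ^ 2) ^ 3 * t by group, pow_two, h.sq, one_pow, one_mul]] at h7
        exact h.ne (mul_right_cancel (h7.symm.trans (one_mul m).symm))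
    have hC2 := h.card_inf_centralizer (K := M) (by rw [hM]; norm_num) htM hy
    have hle : zpowers t ≤ M ⊓ centralizer (zpowers y : Set Γ) :=
      zpowers_le.2 ⟨htM, mem_centralizer_iff.2 fun z _ => h.central z⟩
    have hmT : m ∈ zpowers t := by
      rw [Subgroup.eq_of_le_of_card_ge hle (by rw [hC2, Nat.card_zpowers, h.orderOf_eq])]
      refine ⟨hm, mem_centralizer_iff.2 fun z hz => ?_⟩
      obtain ⟨n, rfl⟩ := mem_zpowers_iff.1 hz
      exact ((show Commute m y from mem_centralizer_singleton_iff.1 hmy).zpow_right n).symm.eq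
    rw [← hker, MonoidHom.mem_ker] at hmT
    rw [hmT, orderOf_one] at huo
    omega
  let f : Fin 7 → {w : Mb // w ≠ 1} := fun i => ⟨⟨_, hmem i⟩, fun e => by
    have e' : π y ^ (i : ℕ) * u * (π y ^ (i : ℕ))⁻¹ = 1 := congrArg Subtype.val e
    rw [conj_eq_one_iff] at e'
    rw [e', orderOf_one] at huo
    omega⟩
  have hf : Function.Injective f := by
    intro i j e
    have e' : π y ^ (i : ℕ) * u * (π y ^ (i : ℕ))⁻¹ = π y ^ (j : ℕ) * u * (π y ^ (j : ℕ))⁻¹ :=
      congrArg (fun w : {w : Mb // w ≠ 1} => ((w : Mb) : Γ ⧸ zpowers t)) e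
    by_contra hne
    have hne' : ((i : ℕ) : ℤ) - (j : ℕ) ≠ 0 := by
      intro h0; exact hne (Fin.ext (by omega))
    set z := π y ^ (((i : ℕ) : ℤ) - (j : ℕ))
    have hz : Commute z u := by
      show z * u = u * z
      simp only [z, zpow_sub, zpow_natCast]
      have hc : Commute (π y ^ (i : ℕ)) (π y ^ (j : ℕ))⁻¹ := (Commute.pow_pow_self (π y) i j).inv_right
      rw [hc.eq]
      calc (π y ^ (j : ℕ))⁻¹ * π y ^ (i : ℕ) * u
          = (π y ^ (j : ℕ))⁻¹ * (π y ^ (i : ℕ) * u * (π y ^ (i : ℕ))⁻¹) * π y ^ (i : ℕ) := by group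
        _ = u * ((π y ^ (j : ℕ))⁻¹ * π y ^ (i : ℕ)) := by rw [e']; group
    have hgen : π y ∈ zpowers z := by
      have h7 : orderOf z = 7 := by
        refine orderOf_eq_prime ?_ fun e1 => ?_
        · show (π y ^ (((i : ℕ) : ℤ) - (j : ℕ))) ^ 7 = 1
          rw [← zpow_natCast, ← zpow_mul, mul_comm, zpow_mul, zpow_natCast,
            show π y ^ 7 = 1 by rw [← map_pow, show y ^ 7 = 1 from hy ▸ pow_orderOf_eq_one y, map_one], one_zpow]
        · rw [show z = π y ^ (((i : ℕ) : ℤ) - (j : ℕ)) from rfl, ← orderOf_dvd_iff_zpow_eq_one, hπy] at e1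
          omega
      rw [Subgroup.eq_of_le_of_card_ge (zpowers_le.2 (zpow_mem (mem_zpowers (π y)) _) : zpowers z ≤ zpowers (π y))
        (by rw [Nat.card_zpowers, Nat.card_zpowers, h7, hπy])]
      exact mem_zpowers _
    obtain ⟨k, hk⟩ := mem_zpowers_iff.1 hgen
    exact hnc (by rw [← hk]; exact (hz.zpow_left k).eq)
  have hsurj : Function.Surjective f := by
    have hcard : Nat.card {w : Mb // w ≠ 1} = 7 := by
      have := Fintype.ofFinite Mb
      rw [Nat.card_eq_fintype_card, Fintype.card_subtype_compl, Fintype.card_subtype_eq,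
        ← Nat.card_eq_fintype_card, hMb]
    exact ((Nat.bijective_iff_injective_and_card f).2 ⟨hf, by rw [hcard, Nat.card_eq_fintype_card, Fintype.card_fin]⟩).2
  intro m hm
  rw [← hker, MonoidHom.mem_ker, map_mul]
  by_cases h1 : π m = 1
  · rw [h1, one_mul]
  obtain ⟨i, hi⟩ := hsurj ⟨⟨π m, Subgroup.mem_map_of_mem π hm⟩, fun e => h1 (congrArg Subtype.val e)⟩
  have e' : π y ^ (i : ℕ) * u * (π y ^ (i : ℕ))⁻¹ = π m :=
    congrArg (fun w : {w : Mb // w ≠ 1} => ((w : Mb) : Γ ⧸ zpowers t)) hi
  rw [← e', show π y ^ (i : ℕ) * u * (π y ^ (i : ℕ))⁻¹ * (π y ^ (i : ℕ) * u * (π y ^ (i : ℕ))⁻¹) =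
    π y ^ (i : ℕ) * u ^ 2 * (π y ^ (i : ℕ))⁻¹ by rw [pow_two]; group, show u ^ 2 = 1 from huo ▸ pow_orderOf_eq_one u,
    mul_one, mul_inv_cancel]

theorem commutator_mem_two {a b : Γ} (ha : a ∈ M) (hb : b ∈ M) : a * b = b * a ∨ a * b = b * a * t := by
  have h1 := h.sq_mem htM hM a ha
  have h2 := h.sq_mem htM hM b hb
  have h3 := h.sq_mem htM hM _ (M.mul_mem ha hb)
  have hz : ∀ z ∈ zpowers t, ∀ g : Γ, g * z = z * g := by
    intro z hz g
    rcases (h.mem_zpowers_iff').1 hz with rfl | rfl
    · rw [mul_one, one_mul]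
    · exact h.central g
  have key : (b * a)⁻¹ * (a * b) ∈ zpowers t := by
    rw [show (b * a)⁻¹ * (a * b) = (a * a)⁻¹ * (a * ((b * b)⁻¹ * b) * (a * b)) by group,
      hz _ (inv_mem h2) b |>.symm, ← mul_assoc a b, show a * b * (b * b)⁻¹ * (a * b) =
        a * b * ((b * b)⁻¹ * (a * b)) by group, ← hz _ (inv_mem h2) (a * b), ← mul_assoc (a * b)]
    exact mul_mem (inv_mem h1) (mul_mem h3 (inv_mem h2))
  rcases (h.mem_zpowers_iff').1 key with e | e
  · exact Or.inl (inv_mul_eq_one.1 e).symm
  · exact Or.inr (inv_mul_eq_iff_eq_mul.1 e)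

theorem two_mul_card_le {A B : Subgroup Γ} (hAB : A ≤ B) {g : Γ} (hgB : g ∈ B) (hgA : g ∉ A) :
    2 * Nat.card A ≤ Nat.card B := by
  obtain ⟨k, hk⟩ := Subgroup.card_dvd_of_le hAB
  have hne : k ≠ 1 := fun e => hgA (by
    rw [Subgroup.eq_of_le_of_card_ge hAB (by rw [hk, e, mul_one])]; exact hgB)
  have hpos : 0 < Nat.card B := Nat.card_pos
  have : 2 ≤ k := by
    rcases k with _ | _ | k
    · rw [mul_zero] at hk; omega
    · exact absurd rfl hne
    · omega
  rw [hk, mul_comm 2]
  exact Nat.mul_le_mul_left _ this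

theorem abelian : ∀ a ∈ M, ∀ b ∈ M, a * b = b * a := by
  by_contra hcon
  push Not at hcon
  -- subgroups generated by commuting elements are proper
  have hprop : ∀ U : Subgroup Γ, U ≤ M → (∀ p ∈ U, ∀ q ∈ U, p * q = q * p) → ∃ g ∈ M, g ∉ U := by
    intro U _ hab
    by_contra hc'
    push Not at hc'
    obtain ⟨p, hp, q, hq, hpq⟩ := hcon
    exact hpq (hab p (hc' p hp) q (hc' q hq))
  have hZ : ∀ w ∈ M, (∀ g ∈ M, g * w = w * g) → w ∈ zpowers t := by
    intro w hw hwc
    set Z := M ⊓ centralizer (M : Set Γ)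
    haveI : Z.Normal := Subgroup.normal_inf_normal _ _
    have htZ : t ∈ Z := ⟨htM, mem_centralizer_iff.2 fun g _ => h.central g⟩
    have h7 : ¬ 7 ∣ Nat.card Z := fun hd => by
      have := hd.trans (Subgroup.card_dvd_of_le (show Z ≤ M from inf_le_left))
      rw [hM] at this; norm_num at this
    have hZM := Subgroup.card_le_of_le (show Z ≤ M from inf_le_left)
    rcases h.card_normal h7 htZ with e | e | e
    · rw [Subgroup.eq_of_le_of_card_ge (zpowers_le.2 htZ) (by rw [e, Nat.card_zpowers, h.orderOf_eq])]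
      exact ⟨hw, mem_centralizer_iff.2 hwc⟩
    · exfalso
      obtain ⟨p, hp, q, hq, hpq⟩ := hcon
      have hEq := Subgroup.eq_of_le_of_card_ge (show Z ≤ M from inf_le_left) (by rw [hM, e])
      exact hpq (mem_centralizer_iff.1 (hEq.symm ▸ hq : q ∈ Z).2 p hp)
    · omega
  -- closures of commuting sets
  have habel : ∀ S : Set Γ, (∀ p ∈ S, ∀ q ∈ S, p * q = q * p) →
      ∀ p ∈ closure S, ∀ q ∈ closure S, p * q = q * p := by
    intro S hS
    have h1 : closure S ≤ centralizer S :=
      (closure_le _).2 fun p hp => mem_centralizer_iff.2 fun q hq => hS q hq p hp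
    have h2 : closure S ≤ centralizer (closure S : Set Γ) := (closure_le _).2 fun p hp =>
      mem_centralizer_iff.2 fun q hq => (mem_centralizer_iff.1 (h1 hq) p hp).symm
    exact fun p hp q hq => (mem_centralizer_iff.1 (h2 hp) q hq).symm
  obtain ⟨a, ha, haT⟩ := hprop (zpowers t) (zpowers_le.2 htM) (fun p hp q hq => by
    obtain ⟨m, rfl⟩ := mem_zpowers_iff.1 hp
    obtain ⟨n, rfl⟩ := mem_zpowers_iff.1 hq
    exact (Commute.refl t).zpow_zpow m n)
  set U1 := closure ({t, a} : Set Γ)
  have hU1M : U1 ≤ M := (closure_le _).2 (by intro z hz; rcases hz with rfl | rfl <;> assumption)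
  have hU1ab := habel {t, a} (by
    intro p hp q hq
    rcases hp with rfl | rfl <;> rcases hq with rfl | rfl <;>
      first | rfl | exact h.central _ | exact (h.central _).symm)
  -- a second commuting element
  obtain ⟨b, hb, hb1, hab⟩ : ∃ b ∈ M, b ∉ U1 ∧ a * b = b * a := by
    obtain ⟨b, hb, hb1⟩ := hprop U1 hU1M hU1ab
    rcases h.commutator_mem_two htM hM ha hb with e | e
    · exact ⟨b, hb, hb1, e⟩
    by_cases hex : ∃ c ∈ M, c ∉ U1 ∧ c * b⁻¹ ∉ U1
    · obtain ⟨c, hc, hc1, hcb⟩ := hex
      rcases h.commutator_mem_two htM hM ha hc with e' | e'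
      · exact ⟨c, hc, hc1, e'⟩
      refine ⟨c * b⁻¹, M.mul_mem hc (M.inv_mem hb), hcb, ?_⟩
      calc a * (c * b⁻¹) = (a * c) * b⁻¹ := by group
        _ = c * (a * t) * b⁻¹ := by rw [e']; group
        _ = c * b⁻¹ * (b * (a * t)) * b⁻¹ := by group
        _ = c * b⁻¹ * (a * b) * b⁻¹ := by rw [e]; group
        _ = c * b⁻¹ * a := by group
    · push Not at hex
      exfalso
      -- then the first subgroup has index two and is large
      have hU1card : Nat.card U1 ≤ 4 := by
        have hsub : (U1 : Set Γ) ⊆ {1, t, a, a * t} := by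
          have hz : ∀ z ∈ zpowers t, ∀ g : Γ, g * z = z * g := by
            intro z hz g
            rcases (h.mem_zpowers_iff').1 hz with rfl | rfl
            · rw [mul_one, one_mul]
            · exact h.central g
          have ha2 := h.sq_mem htM hM a ha
          let V : Subgroup Γ :=
            { carrier := {z | z ∈ zpowers t ∨ a⁻¹ * z ∈ zpowers t}
              one_mem' := Or.inl (one_mem _)
              mul_mem' := by
                rintro p q (hp | hp) (hq | hq)
                · exact Or.inl (mul_mem hp hq)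
                · right; rw [← mul_assoc, hz p hp a⁻¹, mul_assoc]; exact mul_mem hp hq
                · right; rw [← mul_assoc]; exact mul_mem hp hq
                · left
                  rw [show p * q = a * (a⁻¹ * p) * (a * (a⁻¹ * q)) by group, hz _ hp a, mul_assoc,
                    ← mul_assoc a a]
                  exact mul_mem hp (mul_mem ha2 hq)
              inv_mem' := by
                rintro p (hp | hp)
                · exact Or.inl (inv_mem hp)
                · right
                  rw [show a⁻¹ * p⁻¹ = a⁻¹ * ((a⁻¹ * p)⁻¹ * a⁻¹) by group, ← mul_assoc, hz _ (inv_mem hp) a⁻¹,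
                    mul_assoc, ← mul_inv_rev]
                  exact mul_mem (inv_mem hp) (inv_mem ha2) }
          intro z hzU
          have hV : z ∈ V := (closure_le V).2 (by
            rintro w (rfl | rfl)
            · exact Or.inl (mem_zpowers _)
            · exact Or.inr (by rw [inv_mul_cancel]; exact one_mem _)) hzU
          rcases hV with hz1 | hz1 <;> rcases (h.mem_zpowers_iff').1 hz1 with e | e
          · simp [e]
          · simp [e]
          · simp [(inv_mul_eq_one.1 e).symm]
          · simp [inv_mul_eq_iff_eq_mul.1 e]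
        calc Nat.card U1 = (U1 : Set Γ).ncard := Nat.card_coe_set_eq _
          _ ≤ ({1, t, a, a * t} : Set Γ).ncard := Set.ncard_le_ncard hsub (Set.toFinite _)
          _ ≤ 4 := by
            refine (Set.ncard_insert_le _ _).trans (Nat.succ_le_succ ?_)
            refine (Set.ncard_insert_le _ _).trans (Nat.succ_le_succ ?_)
            refine (Set.ncard_insert_le _ _).trans (Nat.succ_le_succ ?_)
            rw [Set.ncard_singleton]
      have hsub : (M : Set Γ) ⊆ (U1 : Set Γ) ∪ (fun z => z * b) '' (U1 : Set Γ) := by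
        intro c hc
        by_cases hc1 : c ∈ U1
        · exact Or.inl hc1
        · exact Or.inr ⟨c * b⁻¹, hex c hc hc1, by group⟩
      have := (Set.ncard_le_ncard hsub (Set.toFinite _)).trans (Set.ncard_union_le _ _)
      rw [Set.ncard_image_of_injective _ (fun p q e => mul_right_cancel e), ← Nat.card_coe_set_eq,
        ← Nat.card_coe_set_eq, SetLike.coe_sort_coe, SetLike.coe_sort_coe, hM] at this
      omega
  set U2 := closure ({t, a, b} : Set Γ)
  have hU2M : U2 ≤ M := (closure_le _).2 (by intro z hz; rcases hz with rfl | rfl | rfl <;> assumption)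
  have hU2ab := habel {t, a, b} (by
    intro p hp q hq
    rcases hp with rfl | rfl | rfl <;> rcases hq with rfl | rfl | rfl <;>
      first | rfl | exact h.central _ | exact (h.central _).symm | exact hab | exact hab.symm)
  obtain ⟨c, hc, hc2⟩ := hprop U2 hU2M hU2ab
  set U3 := closure ({t, a, b, c} : Set Γ)
  have hU3M : U3 ≤ M := (closure_le _).2 (by intro z hz; rcases hz with rfl | rfl | rfl | rfl <;> assumption)
  have h12 : U1 ≤ U2 := closure_mono (by intro z hz; rcases hz with rfl | rfl <;> simp)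
  have h23 : U2 ≤ U3 := closure_mono (by intro z hz; rcases hz with rfl | rfl | rfl <;> simp)
  have e1 := two_mul_card_le h htM hM (A := zpowers t) (B := U1) (zpowers_le.2 (subset_closure (by simp)))
    (g := a) (subset_closure (by simp)) haT
  have e2 := two_mul_card_le h htM hM h12 (g := b) (subset_closure (by simp)) hb1
  have e3 := two_mul_card_le h htM hM h23 (g := c) (subset_closure (by simp)) hc2
  rw [Nat.card_zpowers, h.orderOf_eq] at e1
  have hU3 : U3 = M := Subgroup.eq_of_le_of_card_ge hU3M (by rw [hM]; omega)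
  -- a central element outside
  have hcentral : ∀ w ∈ U2, c * w = w * c → w ∈ zpowers t := by
    intro w hw hcw
    refine hZ w (hU2M hw) fun g hg => ?_
    have hle : U3 ≤ centralizer ({w} : Set Γ) := (closure_le _).2 (by
      intro z hz
      rw [SetLike.mem_coe, mem_centralizer_singleton_iff]
      rcases hz with rfl | rfl | rfl | rfl
      · exact (h.central w).symm
      · exact hU2ab _ (subset_closure (by simp)) _ hw
      · exact hU2ab _ (subset_closure (by simp)) _ hw
      · exact hcw)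
    exact mem_centralizer_singleton_iff.1 (hle (hU3 ▸ hg))
  have hta : zpowers t ≤ U1 := zpowers_le.2 (subset_closure (by simp))
  have ha2 : a ∈ U2 := subset_closure (by simp)
  have hb2 : b ∈ U2 := subset_closure (by simp)
  have haU1 : a ∈ U1 := subset_closure (by simp)
  rcases h.commutator_mem_two htM hM hc ha with ea | ea
  · exact haT (hcentral a ha2 ea)
  rcases h.commutator_mem_two htM hM hc hb with eb | eb
  · exact hb1 (hta (hcentral b hb2 eb))
  refine hb1 ?_
  have hab2 : c * (a * b) = (a * b) * c := by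
    calc c * (a * b) = (c * a) * b := by group
      _ = a * c * (t * b) := by rw [ea]; group
      _ = a * (c * b) * t := by rw [← h.central b]; group
      _ = a * (b * c * t) * t := by rw [eb]
      _ = a * b * c * (t * t) := by group
      _ = _ := by rw [h.sq, mul_one]
  have := U1.mul_mem (U1.inv_mem haU1) (hta (hcentral (a * b) (U2.mul_mem ha2 hb2) hab2))
  rwa [inv_mul_cancel_left] at this

theorem sq_eq_one : ∀ m ∈ M, m * m = 1 := by
  classical
  have habel := h.abelian htM hM
  let f : M →* Γ := MonoidHom.mk' (fun m => (m : Γ) * m) fun p q => by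
    rw [Subgroup.coe_mul]
    calc (p : Γ) * q * ((p : Γ) * q) = p * ((q : Γ) * p) * q := by group
      _ = p * ((p : Γ) * q) * q := by rw [habel q q.2 p p.2]
      _ = _ := by group
  set K := f.ker.map M.subtype
  have hKmem : ∀ k, k ∈ K ↔ k ∈ M ∧ k * k = 1 := fun k =>
    ⟨by rintro ⟨k', hk, rfl⟩; exact ⟨k'.2, hk⟩, fun hk => ⟨⟨k, hk.1⟩, hk.2, rfl⟩⟩
  haveI : K.Normal := ⟨fun k hk g => by
    rw [hKmem] at hk ⊢
    refine ⟨Subgroup.Normal.conj_mem inferInstance k hk.1 g, ?_⟩
    rw [show g * k * g⁻¹ * (g * k * g⁻¹) = g * (k * k) * g⁻¹ by group, hk.2, mul_one, mul_inv_cancel]⟩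
  have htK : t ∈ K := (hKmem t).2 ⟨htM, h.sq⟩
  have hKM : K ≤ M := fun k hk => ((hKmem k).1 hk).1
  have h7 : ¬ 7 ∣ Nat.card K := fun hd => by
    have := hd.trans (Subgroup.card_dvd_of_le hKM)
    rw [hM] at this; norm_num at this
  have hle : f.range ≤ zpowers t := by rintro _ ⟨m, rfl⟩; exact h.sq_mem htM hM m m.2
  have h1 := f.ker.card_mul_index
  rw [Subgroup.index_ker, hM] at h1
  have h2 := Subgroup.card_le_of_le hle
  rw [Nat.card_zpowers, h.orderOf_eq] at h2
  have hK8 : 8 ≤ Nat.card K := by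
    rw [Subgroup.card_map_of_injective M.subtype_injective]
    have := Nat.mul_le_mul_left (Nat.card f.ker) h2
    omega
  have hK16 := Subgroup.card_le_of_le hKM
  have hEq : K = M := by
    refine Subgroup.eq_of_le_of_card_ge hKM ?_
    rcases h.card_normal h7 htK with e | e | e <;> omega
  exact fun m hm => ((hKmem m).1 (hEq.symm ▸ hm)).2

theorem centralizer_le : centralizer (M : Set Γ) ≤ M := fun c hc =>
  h.mem_of_trivial htM hM (h.abelian htM hM) fun e he => by
    rw [show c * e = e * c from (mem_centralizer_iff.1 hc e he).symm, mul_inv_cancel_right, mul_inv_cancel]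
    exact one_mem _

end CentHyp

end CfsgLib.MathieuTwentyThree
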