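import Mathlib

/-!
A Frobenius group of order 21 has no action without fixed points on a non-trivial abelian 2-group in which both
generators act without fixed points.
-/

set_option autoImplicit false

namespace CfsgLib.MathieuTwentyThree

open Finset

/-- If the conjugates of an element of order three and the element of order seven all act without non-trivial
fixed points on a commutative group, its exponent divides seven. -/
theorem pow_seven_eq_one {A : Type*} [CommGroup A] (φ ψ : A ≃* A) (hφ : ∀ a, φ^[7] a = a)
    (hψ : ∀ a, ψ^[3] a = a) (hrel : ∀ a, ψ (φ a) = φ (φ (ψ a))) (hfφ : ∀ a, φ a = a → a = 1)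
    (hfψ : ∀ a, ψ a = a → a = 1) (a : A) : a ^ 7 = 1 := by
  -- the product of an orbit of `φ`
  have hP : ∀ b : A, (∏ i ∈ range 7, φ^[i] b) = 1 := by
    intro b
    refine hfφ _ ?_
    have h1 : ∏ i ∈ range 7, φ^[i + 1] b = ∏ i ∈ range 7, φ^[i] b := by
      have h2 := prod_range_succ' (fun i => φ^[i] b) 7
      rw [prod_range_succ, hφ, Function.iterate_zero_apply] at h2
      exact (mul_right_cancel h2).symm
    rw [map_prod]
    simp only [← Function.iterate_succ_apply' φ]
    exact h1
  have hQ : ∀ b : A, b * ψ b * ψ (ψ b) = 1 := by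
    intro b
    refine hfψ _ ?_
    rw [map_mul, map_mul, show ψ (ψ (ψ b)) = b from hψ b]
    rw [mul_comm (ψ b * ψ (ψ b)) b, mul_assoc]
  have hrel' : ∀ n, ∀ b : A, ψ (φ^[n] b) = φ^[2 * n] (ψ b) := by
    intro n
    induction n with
    | zero => intro b; rfl
    | succ n ih =>
      intro b
      rw [Function.iterate_succ_apply, ih, hrel, show 2 * (n + 1) = (2 * n + 1) + 1 by ring,
        Function.iterate_succ_apply, Function.iterate_succ_apply]
  have hmod : ∀ n, ∀ b : A, φ^[n] b = φ^[n % 7] b := by
    intro n b
    have hk : ∀ k, φ^[7 * k] b = b := by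
      intro k
      induction k with
      | zero => rfl
      | succ k ih => rw [show 7 * (k + 1) = 7 * k + 7 by ring, Function.iterate_add_apply, hφ, ih]
    conv_lhs => rw [← Nat.mod_add_div n 7]
    rw [Function.iterate_add_apply, hk]
  -- the products over the conjugates of `ψ`
  have hterm : ∀ i ∈ range 7, φ^[i] (φ^[(7 - i) % 7] a) * φ^[i] (ψ (φ^[(7 - i) % 7] a)) *
      φ^[i] (ψ (ψ (φ^[(7 - i) % 7] a))) = 1 := by
    intro i _
    have h1 : ∀ n, φ^[n] (1 : A) = 1 := fun n => by
      induction n with
      | zero => rfl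
      | succ n ih => rw [Function.iterate_succ_apply, map_one, ih]
    have h2 : ∀ n, ∀ p q : A, φ^[n] (p * q) = φ^[n] p * φ^[n] q := fun n => by
      induction n with
      | zero => intro p q; rfl
      | succ n ih => intro p q; simp only [Function.iterate_succ_apply, map_mul, ih]
    rw [← h2, ← h2, hQ, h1]
  have hall := Finset.prod_eq_one hterm
  simp only [Finset.prod_mul_distrib, hrel', ← Function.iterate_add_apply] at hall
  rw [Finset.prod_congr rfl (fun i _ => hmod (i + (7 - i) % 7) a),
    Finset.prod_congr rfl (fun i _ => hmod (i + 2 * ((7 - i) % 7)) (ψ a)),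
    Finset.prod_congr rfl (fun i _ => hmod (i + 2 * (2 * ((7 - i) % 7))) (ψ (ψ a)))] at hall
  have hperm : ∀ (f : ℕ → ℕ) (b : A), Set.InjOn f (range 7 : Finset ℕ) → (range 7).image f = range 7 →
      ∏ i ∈ range 7, φ^[f i] b = 1 := by
    intro f b hf he
    rw [← hP b]
    conv_rhs => rw [← he, Finset.prod_image hf]
  have hinj : ∀ f : ℕ → ℕ, (∀ i ∈ range 7, ∀ j ∈ range 7, f i = f j → i = j) →
      Set.InjOn f (range 7 : Finset ℕ) := fun f h i hi j hj e => h i hi j hj e
  rw [hperm (fun i => (i + 2 * ((7 - i) % 7)) % 7) (ψ a) (hinj _ (by decide)) (by decide),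
    hperm (fun i => (i + 2 * (2 * ((7 - i) % 7))) % 7) (ψ (ψ a)) (hinj _ (by decide)) (by decide),
    mul_one, mul_one, Finset.prod_congr rfl (g := fun _ => a) (fun i hi => by
      have h0 : (i + (7 - i) % 7) % 7 = 0 := by
        have := Finset.mem_range.1 hi
        omega
      rw [h0, Function.iterate_zero_apply]),
    Finset.prod_const, Finset.card_range] at hall
  exact hall

end CfsgLib.MathieuTwentyThree
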