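import Mathlib

/-!
The parameters of a strongly regular graph with 253 vertices of valency 112.
-/

set_option autoImplicit false

namespace CfsgLib.MathieuTwentyThree

open SimpleGraph Matrix

variable {V : Type*} [Fintype V] [DecidableEq V] {Γ : SimpleGraph V} [DecidableRel Γ.Adj]

/-- The discriminant divides the square of the trace unless the parameters are the expected ones. -/
theorem param_arith : ∀ l : Fin 112, ∀ m : Fin 113, 4 * (111 - (l : ℕ)) = 5 * (m : ℕ) →
    ((((l : ℕ) : ℤ) - (m : ℕ)) ^ 2 + 4 * (112 - (m : ℕ))) ∣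
      (252 * (((l : ℕ) : ℤ) - (m : ℕ)) + 224) ^ 2 →
    (l : ℕ) = 36 ∧ (m : ℕ) = 60 := by decide +kernel

theorem compl_adjMatrix (α : Type*) [Ring α] :
    Γᶜ.adjMatrix α = Matrix.of (fun _ _ => (1 : α)) - 1 - Γ.adjMatrix α := by
  ext i j
  by_cases h : i = j
  · subst h; simp
  · by_cases ha : Γ.Adj i j <;> simp [h, ha]

theorem srg_params {l m : ℕ} (h : Γ.IsSRGWith 253 112 l m) : l = 36 ∧ m = 60 := by
  have hp := h.param_eq Γ (by norm_num)
  obtain ⟨v⟩ : Nonempty V := Fintype.card_pos_iff.mp (by rw [h.card]; norm_num)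
  have hd : 0 < Γ.degree v := by rw [h.regular v]; norm_num
  obtain ⟨w, hw⟩ := (Γ.degree_pos_iff_exists_adj v).mp hd
  have hl := hw.card_commonNeighbors_lt_degree
  rw [h.of_adj v w hw, h.regular v] at hl
  have hp' : 4 * (111 - l) = 5 * m := by omega
  have hm : m ≤ 112 := by omega
  set D : ℤ := ((l : ℤ) - m) ^ 2 + 4 * (112 - m) with hD
  set N : ℤ := 252 * ((l : ℤ) - m) + 224 with hN
  suffices key : ∃ r : ℤ, r ^ 2 * D = N ^ 2 by
    obtain ⟨r, hr⟩ := key
    exact param_arith ⟨l, hl⟩ ⟨m, by omega⟩ hp' ⟨r ^ 2, by rw [← hN, ← hr, hD]; ring⟩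
  have hDpos : (0 : ℤ) < D := by
    rcases eq_or_lt_of_le hm with rfl | hlt
    · omega
    · have : (m : ℤ) < 112 := by exact_mod_cast hlt
      have := sq_nonneg ((l : ℤ) - m)
      rw [hD]; omega
  set b : ℝ := (l : ℝ) - m with hb
  set s : ℝ := Real.sqrt (D : ℝ) with hs
  have hDc : (D : ℝ) = b ^ 2 + 4 * (112 - m) := by rw [hD, hb]; push_cast; ring
  have hss : s * s = D := Real.mul_self_sqrt (by exact_mod_cast hDpos.le)
  have hs0 : s ≠ 0 := by
    intro h0
    rw [h0, mul_zero] at hss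
    exact hDpos.ne' (by exact_mod_cast hss.symm)
  have hmr : 5 * (m : ℝ) = 4 * (111 - (l : ℝ)) := by
    have : ((4 * (111 - l) : ℕ) : ℝ) = ((5 * m : ℕ) : ℝ) := by rw [hp']
    push_cast [Nat.cast_sub (show l ≤ 111 by omega)] at this
    linarith
  let A := Γ.adjMatrix ℝ
  let J : Matrix V V ℝ := Matrix.of fun _ _ => 1
  have hA : A * A = (112 - (m : ℝ)) • (1 : Matrix V V ℝ) + b • A + (m : ℝ) • J := by
    have h2 := h.matrix_eq (α := ℝ)
    rw [pow_two, compl_adjMatrix] at h2
    rw [h2]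
    simp only [← Nat.cast_smul_eq_nsmul ℝ, hb]
    push_cast
    module
  have hAJ : A * J = (112 : ℝ) • J := by
    ext i j
    simp [A, J, Matrix.mul_apply, Finset.sum_boole, ← neighborFinset_eq_filter, h.regular i]
  have hJA : J * A = (112 : ℝ) • J := by
    ext i j
    simp [A, J, Matrix.mul_apply, Finset.sum_boole, Γ.adj_comm _ j, ← neighborFinset_eq_filter, h.regular j]
  have hJJ : J * J = (253 : ℝ) • J := by
    ext i j
    simp [J, Matrix.mul_apply, h.card]
  let M : Matrix V V ℝ := (2 : ℝ) • A - b • 1 - ((224 - b) / 253) • J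
  let P : Matrix V V ℝ := 1 - (1 / 253 : ℝ) • J
  have hMP : M * P = M := by
    simp only [M, P, Matrix.mul_sub, Matrix.sub_mul, smul_mul_assoc, mul_smul_comm, Matrix.one_mul,
      Matrix.mul_one, hAJ, hJJ]
    module
  have hPM : P * M = M := by
    simp only [M, P, Matrix.mul_sub, Matrix.sub_mul, smul_mul_assoc, mul_smul_comm, Matrix.one_mul,
      Matrix.mul_one, hJA, hJJ]
    module
  have hPP : P * P = P := by
    simp only [P, Matrix.mul_sub, Matrix.sub_mul, smul_mul_assoc, mul_smul_comm, Matrix.one_mul,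
      Matrix.mul_one, hJJ]
    module
  have hm' : (m : ℝ) = (444 - 4 * (l : ℝ)) / 5 := by linarith
  have hMM : M * M = (D : ℝ) • P := by
    simp only [M, P, Matrix.mul_sub, Matrix.sub_mul, smul_mul_assoc, mul_smul_comm, Matrix.one_mul,
      Matrix.mul_one, hAJ, hJA, hJJ, hA, smul_add, smul_sub, smul_smul, hDc]
    rw [hb, hm']
    module
  let E : Matrix V V ℝ := (1 / 2 : ℝ) • P + (1 / (2 * s)) • M
  have hE : E * E = E := by
    simp only [E, Matrix.mul_add, Matrix.add_mul, smul_mul_assoc, mul_smul_comm, hMP, hPM, hPP, hMM,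
      smul_add, smul_smul]
    rw [show (1 / (2 * s)) * ((1 / (2 * s)) * (D : ℝ)) = 1 / 4 by rw [← hss]; field_simp; norm_num]
    module
  have hproj : LinearMap.IsProj (LinearMap.range (Matrix.toLin' E)) (Matrix.toLin' E) :=
    ⟨fun x => LinearMap.mem_range_self _ x, fun x hx => by
      obtain ⟨y, rfl⟩ := hx
      rw [← LinearMap.comp_apply, ← Matrix.toLin'_mul, hE]⟩
  have htr := hproj.trace
  rw [Matrix.trace_toLin'_eq] at htr
  generalize Module.finrank ℝ (LinearMap.range (Matrix.toLin' E)) = k at htr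
  have hA0 : A.trace = 0 := trace_adjMatrix ℝ Γ
  have hJ0 : J.trace = 253 := by simp [J, Matrix.trace, h.card]
  have ht : E.trace = 126 - (N : ℝ) / (2 * s) := by
    simp only [E, M, P, Matrix.trace_sub, Matrix.trace_add, Matrix.trace_smul, hA0, hJ0, Matrix.trace_one,
      h.card, smul_eq_mul]
    rw [hN, hb]
    push_cast
    ring
  rw [ht] at htr
  refine ⟨252 - 2 * (k : ℤ), ?_⟩
  have h1 : ((252 : ℝ) - 2 * k) * s = (N : ℝ) := by
    have : (N : ℝ) / (2 * s) = 126 - (k : ℝ) := by linarith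
    rw [div_eq_iff (mul_ne_zero two_ne_zero hs0)] at this
    linarith [this]
  have h2 : ((252 : ℝ) - 2 * k) ^ 2 * (D : ℝ) = (N : ℝ) ^ 2 := by rw [← hss, ← h1]; ring
  exact_mod_cast h2

end CfsgLib.MathieuTwentyThree
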