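import Cfsg.Agent.Lib.MathieuTwentyThree.Pair
import Cfsg.Agent.Lib.MathieuTwentyThree.Params

/-!
The rank three graph on the 253 conjugates.
-/

set_option autoImplicit false
set_option linter.unusedSectionVars false
set_option linter.style.haveILetI false

namespace CfsgLib.MathieuTwentyThree

open Subgroup

variable {G : Type*} [Group G]

/-- The conjugates of a subgroup. -/
def Blk (E₀ : Subgroup G) : Type _ := {K : Subgroup G // ∃ g : G, conjS g E₀ = K}

namespace Blk

variable {E₀ : Subgroup G}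

instance : MulAction G (Blk E₀) where
  smul g x := ⟨conjS g x.1, by obtain ⟨k, hk⟩ := x.2; exact ⟨g * k, by rw [conjS_mul, hk]⟩⟩
  one_smul x := Subtype.ext (conjS_one x.1)
  mul_smul g h x := Subtype.ext (conjS_mul g h x.1)

theorem val_smul (g : G) (x : Blk E₀) : (g • x).1 = conjS g x.1 := rfl

instance : MulAction.IsPretransitive G (Blk E₀) := ⟨fun x y => by
  obtain ⟨g, hg⟩ := x.2
  obtain ⟨k, hk⟩ := y.2
  refine ⟨k * g⁻¹, Subtype.ext ?_⟩
  rw [val_smul, ← hg, ← conjS_mul, inv_mul_cancel_right, hk]⟩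

/-- The base point. -/
def base (E₀ : Subgroup G) : Blk E₀ := ⟨E₀, 1, conjS_one E₀⟩

theorem stabilizer_eq (x : Blk E₀) : MulAction.stabilizer G x = normalizer (x.1 : Set G) := by
  ext g
  rw [MulAction.mem_stabilizer_iff, ← conjS_eq_self, ← val_smul]
  exact ⟨congrArg Subtype.val, Subtype.ext⟩

theorem smul_eq_iff {g : G} {x : Blk E₀} : g • x = x ↔ g ∈ normalizer (x.1 : Set G) := by
  rw [← stabilizer_eq, MulAction.mem_stabilizer_iff]

variable [Finite G]

noncomputable instance : Fintype (Blk E₀) := by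
  haveI : Finite (Blk E₀) := Subtype.finite
  exact Fintype.ofFinite _

noncomputable instance : DecidableEq (Blk E₀) := Classical.decEq _

theorem isLocal (hL : Local E₀) (x : Blk E₀) : Local x.1 := by
  obtain ⟨g, hg⟩ := x.2
  exact hg ▸ hL.conj g

theorem meet (hL : Local E₀) {x y : Blk E₀} (hne : x ≠ y) : Meet x.1 y.1 := by
  obtain ⟨g, rfl⟩ := MulAction.exists_smul_eq G x y
  exact (isLocal hL x).meet fun h => hne (Subtype.ext h.symm)

theorem card_eq (hL : Local E₀) : Fintype.card (Blk E₀) = 253 := by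
  have h := MulAction.index_stabilizer_of_transitive G (base E₀)
  have h2 := (MulAction.stabilizer G (base E₀)).card_mul_index
  rw [h, stabilizer_eq, show (base E₀).1 = E₀ from rfl, hL.cardN, hL.order, Nat.card_eq_fintype_card] at h2
  omega

theorem faithful (hL : Local E₀) [IsSimpleGroup G] : FaithfulSMul G (Blk E₀) := by
  refine ⟨fun {g g'} h => ?_⟩
  have hmem : g⁻¹ * g' ∈ (MulAction.toPermHom G (Blk E₀)).ker := by
    rw [MonoidHom.mem_ker]
    ext x
    show (g⁻¹ * g') • x = x
    rw [mul_smul, ← h, inv_smul_smul]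
  rcases IsSimpleGroup.eq_bot_or_eq_top_of_normal (MulAction.toPermHom G (Blk E₀)).ker inferInstance with e | e
  · rw [e, Subgroup.mem_bot] at hmem
    exact inv_mul_eq_one.1 hmem
  · exfalso
    have htop : normalizer (E₀ : Set G) = ⊤ := by
      rw [eq_top_iff]
      intro k _
      rw [show (E₀ : Set G) = ((base E₀).1 : Set G) from rfl, ← smul_eq_iff]
      have : k ∈ (MulAction.toPermHom G (Blk E₀)).ker := e ▸ Subgroup.mem_top k
      exact congrArg (fun σ : Equiv.Perm (Blk E₀) => σ (base E₀)) (MonoidHom.mem_ker.1 this)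
    have := hL.cardN
    rw [htop, Subgroup.card_top, hL.order] at this
    omega

/-- Adjacency: no involution of one fixes the other. -/
def Adj (x y : Blk E₀) : Prop := x ≠ y ∧ fixPart x.1 y.1 = ⊥

theorem adj_smul_iff (g : G) (x y : Blk E₀) : Adj (g • x) (g • y) ↔ Adj x y := by
  rw [Adj, Adj, val_smul, val_smul, ← fixPart_conjS, conjS, Subgroup.map_eq_bot_iff_of_injective _
    (MulAut.conj g).injective, Ne, smul_left_cancel_iff]

theorem adj_symm (hL : Local E₀) {x y : Blk E₀} (h : Adj x y) : Adj y x := by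
  refine ⟨h.1.symm, Subgroup.card_eq_one.1 ?_⟩
  rw [(isLocal hL y).card_fixPart_eq (isLocal hL x) (meet hL h.1.symm), h.2, Subgroup.card_bot]

/-- The joint stabiliser. -/
def stab (x y : Blk E₀) : Subgroup G := normalizer (x.1 : Set G) ⊓ normalizer (y.1 : Set G)

theorem orbit_mul_stab (hL : Local E₀) (x y : Blk E₀) :
    (MulAction.orbit (MulAction.stabilizer G x) y).ncard * Nat.card (stab x y) = 40320 := by
  set S := MulAction.stabilizer G x
  have h := (MulAction.stabilizer S y).card_mul_index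
  rw [MulAction.index_stabilizer, show Nat.card S = 40320 by rw [show S = _ from stabilizer_eq x, (isLocal hL x).cardN]] at h
  have hst : MulAction.stabilizer S y = (stab x y).subgroupOf S := by
    ext c
    rw [MulAction.mem_stabilizer_iff, mem_subgroupOf, stab, mem_inf, ← smul_eq_iff, ← smul_eq_iff]
    exact ⟨fun h => ⟨c.2, h⟩, fun h => h.2⟩
  have hle : stab x y ≤ S := fun c hc => by rw [MulAction.mem_stabilizer_iff, smul_eq_iff]; exact hc.1
  rw [hst, Nat.card_congr (subgroupOfEquivOfLe hle).toEquiv] at h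
  rw [mul_comm]
  exact h

theorem orbit_dvd_adj (hL : Local E₀) {x y : Blk E₀} (h : Adj x y) :
    112 ∣ (MulAction.orbit (MulAction.stabilizer G x) y).ncard := by
  rcases (isLocal hL x).stab_cases (isLocal hL y) (meet hL h.1) with ⟨-, hd⟩ | ⟨h4, -⟩
  · obtain ⟨c, hc⟩ := hd
    have he := orbit_mul_stab hL x y
    refine ⟨c, Nat.eq_of_mul_eq_mul_right (Nat.card_pos (α := stab x y)) ?_⟩
    rw [he, stab, mul_assoc, mul_comm c, ← hc]; norm_num
  · rw [h.2, Subgroup.card_bot] at h4; omega

theorem orbit_dvd_far (hL : Local E₀) {x y : Blk E₀} (hne : x ≠ y) (h : ¬ Adj x y) :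
    140 ∣ (MulAction.orbit (MulAction.stabilizer G x) y).ncard := by
  rcases (isLocal hL x).stab_cases (isLocal hL y) (meet hL hne) with ⟨h1, -⟩ | ⟨-, hd⟩
  · exact absurd ⟨hne, h1⟩ h
  · obtain ⟨c, hc⟩ := hd
    have he := orbit_mul_stab hL x y
    refine ⟨c, Nat.eq_of_mul_eq_mul_right (Nat.card_pos (α := stab x y)) ?_⟩
    rw [he, stab, mul_assoc, mul_comm c, ← hc]; norm_num

theorem smul_base_of_stab {x : Blk E₀} (g : MulAction.stabilizer G x) : (g : G) • x = x := g.2

/-- An invariant set is a union of orbits. -/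
theorem dvd_card_of_invariant {d : ℕ} (x : Blk E₀) (S : Finset (Blk E₀))
    (hinv : ∀ g : MulAction.stabilizer G x, ∀ y ∈ S, (g : G) • y ∈ S)
    (hd : ∀ y ∈ S, d ∣ (MulAction.orbit (MulAction.stabilizer G x) y).ncard) : d ∣ S.card := by
  classical
  set f : Blk E₀ → Finset (Blk E₀) := fun y => (MulAction.orbit (MulAction.stabilizer G x) y).toFinset
  rw [Finset.card_eq_sum_card_image f S]
  refine Finset.dvd_sum fun O hO => ?_
  obtain ⟨y, hy, rfl⟩ := Finset.mem_image.1 hO
  have e : S.filter (fun z => f z = f y) = f y := by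
    ext z
    simp only [Finset.mem_filter, f, Set.toFinset_inj, Set.mem_toFinset]
    constructor
    · rintro ⟨-, h⟩
      rw [← h]; exact MulAction.mem_orbit_self z
    · intro h
      refine ⟨?_, MulAction.orbit_eq_iff.2 h⟩
      obtain ⟨g, rfl⟩ := h
      exact hinv g y hy
  rw [e, ← Set.ncard_eq_toFinset_card']
  exact hd y hy

theorem invariant_adj (x : Blk E₀) (g : MulAction.stabilizer G x) {y : Blk E₀} :
    Adj x ((g : G) • y) ↔ Adj x y := by
  have := adj_smul_iff (g : G) x y
  rwa [smul_base_of_stab g] at this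

theorem invariant_ne (x : Blk E₀) (g : MulAction.stabilizer G x) {y : Blk E₀} :
    x ≠ (g : G) • y ↔ x ≠ y := by
  have := (smul_left_cancel_iff (g : G) (x := x) (y := y)).not
  rwa [smul_base_of_stab g] at this

theorem counts (hL : Local E₀) (x : Blk E₀) :
    {y | Adj x y}.ncard = 112 ∧ {y | x ≠ y ∧ ¬ Adj x y}.ncard = 140 := by
  classical
  set S₁ := Finset.univ.filter fun y => Adj x y
  set S₂ := Finset.univ.filter fun y => x ≠ y ∧ ¬ Adj x y
  have h1 : 112 ∣ S₁.card := dvd_card_of_invariant x S₁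
    (fun g y hy => by simp only [S₁, Finset.mem_filter, Finset.mem_univ, true_and] at hy ⊢; rwa [invariant_adj])
    (fun y hy => orbit_dvd_adj hL (Finset.mem_filter.1 hy).2)
  have h2 : 140 ∣ S₂.card := dvd_card_of_invariant x S₂
    (fun g y hy => by
      simp only [S₂, Finset.mem_filter, Finset.mem_univ, true_and] at hy ⊢
      rwa [invariant_ne, invariant_adj])
    (fun y hy => orbit_dvd_far hL (Finset.mem_filter.1 hy).2.1 (Finset.mem_filter.1 hy).2.2)
  have hsum : S₁.card + S₂.card + 1 = 253 := by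
    rw [← card_eq hL, ← Finset.card_univ, ← Finset.card_singleton x, ← Finset.card_union_of_disjoint,
      ← Finset.card_union_of_disjoint]
    · congr 1
      ext y
      simp only [S₁, S₂, Finset.mem_union, Finset.mem_filter, Finset.mem_univ, true_and, Finset.mem_singleton,
        iff_true]
      by_cases ha : Adj x y
      · exact Or.inl (Or.inl ha)
      by_cases he : x = y
      · exact Or.inr he.symm
      · exact Or.inl (Or.inr ⟨he, ha⟩)
    · rw [Finset.disjoint_singleton_right]
      intro hx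
      rcases Finset.mem_union.1 hx with h | h
      · exact (Finset.mem_filter.1 h).2.1 rfl
      · exact (Finset.mem_filter.1 h).2.1 rfl
    · rw [Finset.disjoint_left]
      intro y hy hy'
      exact (Finset.mem_filter.1 hy').2.2 (Finset.mem_filter.1 hy).2
  have e1 : {y | Adj x y}.ncard = S₁.card := by rw [← Set.ncard_coe_finset]; congr 1; ext y; simp [S₁]
  have e2 : {y | x ≠ y ∧ ¬ Adj x y}.ncard = S₂.card := by rw [← Set.ncard_coe_finset]; congr 1; ext y; simp [S₂]
  omega

theorem orbit_adj (hL : Local E₀) {x y : Blk E₀} (h : Adj x y) :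
    MulAction.orbit (MulAction.stabilizer G x) y = {z | Adj x z} := by
  refine Set.eq_of_subset_of_ncard_le ?_ ?_
  · rintro _ ⟨g, rfl⟩; exact (invariant_adj x g).2 h
  · rw [(counts hL x).1]
    refine Nat.le_of_dvd ?_ (orbit_dvd_adj hL h)
    exact (Set.ncard_pos (Set.toFinite _)).2 ⟨y, MulAction.mem_orbit_self y⟩

theorem orbit_far (hL : Local E₀) {x y : Blk E₀} (hne : x ≠ y) (h : ¬ Adj x y) :
    MulAction.orbit (MulAction.stabilizer G x) y = {z | x ≠ z ∧ ¬ Adj x z} := by
  refine Set.eq_of_subset_of_ncard_le ?_ ?_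
  · rintro _ ⟨g, rfl⟩; exact ⟨(invariant_ne x g).2 hne, fun h' => h ((invariant_adj x g).1 h')⟩
  · rw [(counts hL x).2]
    refine Nat.le_of_dvd ?_ (orbit_dvd_far hL hne h)
    exact (Set.ncard_pos (Set.toFinite _)).2 ⟨y, MulAction.mem_orbit_self y⟩

theorem card_stab_adj (hL : Local E₀) {x y : Blk E₀} (h : Adj x y) : Nat.card (stab x y) = 360 := by
  have := orbit_mul_stab hL x y
  rw [orbit_adj hL h, (counts hL x).1] at this
  omega

theorem card_stab_far (hL : Local E₀) {x y : Blk E₀} (hne : x ≠ y) (h : ¬ Adj x y) :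
    Nat.card (stab x y) = 288 := by
  have := orbit_mul_stab hL x y
  rw [orbit_far hL hne h, (counts hL x).2] at this
  omega

theorem exists_map_adj (hL : Local E₀) {x y z : Blk E₀} (h : Adj x y) (h' : Adj x z) :
    ∃ g : G, g • x = x ∧ g • y = z := by
  have : z ∈ MulAction.orbit (MulAction.stabilizer G x) y := by rw [orbit_adj hL h]; exact h'
  obtain ⟨g, hg⟩ := this
  exact ⟨g, g.2, hg⟩

theorem exists_map_far (hL : Local E₀) {x y z : Blk E₀} (hne : x ≠ y) (h : ¬ Adj x y) (hne' : x ≠ z)
    (h' : ¬ Adj x z) : ∃ g : G, g • x = x ∧ g • y = z := by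
  have : z ∈ MulAction.orbit (MulAction.stabilizer G x) y := by rw [orbit_far hL hne h]; exact ⟨hne', h'⟩
  obtain ⟨g, hg⟩ := this
  exact ⟨g, g.2, hg⟩

/-- The graph. -/
def graph (hL : Local E₀) : SimpleGraph (Blk E₀) where
  Adj := Adj
  symm := ⟨fun _ _ h => adj_symm hL h⟩
  loopless := ⟨fun _ h => h.1 rfl⟩

noncomputable instance (hL : Local E₀) : DecidableRel (graph hL).Adj := Classical.decRel _

theorem graph_adj (hL : Local E₀) (x y : Blk E₀) : (graph hL).Adj x y ↔ Adj x y := Iff.rfl

theorem srg (hL : Local E₀) : (graph hL).IsSRGWith 253 112 36 60 := by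
  classical
  set Γ := graph hL
  obtain ⟨b, hb⟩ : {y | Adj (base E₀) y}.Nonempty :=
    (Set.ncard_pos (Set.toFinite _)).1 (by rw [(counts hL _).1]; norm_num)
  obtain ⟨c, hc, hc'⟩ : {y | base E₀ ≠ y ∧ ¬ Adj (base E₀) y}.Nonempty :=
    (Set.ncard_pos (Set.toFinite _)).1 (by rw [(counts hL _).2]; norm_num)
  have hcn : ∀ (g : G) (x y : Blk E₀),
      Fintype.card (Γ.commonNeighbors (g • x) (g • y)) = Fintype.card (Γ.commonNeighbors x y) := by
    intro g x y
    refine Fintype.card_congr ((MulAction.toPerm g).subtypeEquiv fun z => ?_).symm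
    rw [SimpleGraph.mem_commonNeighbors, SimpleGraph.mem_commonNeighbors]
    simp only [Γ, graph_adj, MulAction.toPerm_apply, adj_smul_iff]
  have h : Γ.IsSRGWith 253 112 (Fintype.card (Γ.commonNeighbors (base E₀) b))
      (Fintype.card (Γ.commonNeighbors (base E₀) c)) := by
    refine ⟨card_eq hL, fun x => ?_, fun x y hxy => ?_, fun x y hne hn => ?_⟩
    · rw [← SimpleGraph.card_neighborFinset_eq_degree, ← Set.ncard_coe_finset, SimpleGraph.coe_neighborFinset,
        ← (counts hL x).1]
      rfl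
    · obtain ⟨g, rfl⟩ := MulAction.exists_smul_eq G (base E₀) x
      obtain ⟨z, rfl⟩ : ∃ z, g • z = y := ⟨g⁻¹ • y, smul_inv_smul g y⟩
      obtain ⟨k, hk, rfl⟩ := exists_map_adj hL hb ((adj_smul_iff g _ _).1 hxy)
      rw [hcn]
      conv_lhs => rw [← hk, hcn]
    · obtain ⟨g, rfl⟩ := MulAction.exists_smul_eq G (base E₀) x
      obtain ⟨z, rfl⟩ : ∃ z, g • z = y := ⟨g⁻¹ • y, smul_inv_smul g y⟩
      obtain ⟨k, hk, rfl⟩ := exists_map_far hL hc hc' (fun e => hne (by rw [e]))
        (fun ha => hn ((adj_smul_iff g _ _).2 ha))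
      rw [hcn]
      conv_lhs => rw [← hk, hcn]
  obtain ⟨h1, h2⟩ := srg_params h
  rwa [h1, h2] at h

end Blk

end CfsgLib.MathieuTwentyThree
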