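import Mathlib
import Cfsg.Agent.Lib.Order7920.Edge

/-!
An elementary abelian subgroup of order 16 with normaliser of order 40320 and two such conjugates.
-/

set_option autoImplicit false
set_option linter.unusedSectionVars false

namespace CfsgLib.MathieuTwentyThree

open Subgroup

variable {G : Type*} [Group G]

/-- A conjugate of a subgroup. -/
def conjS (g : G) (K : Subgroup G) : Subgroup G := K.map (MulAut.conj g).toMonoidHom

theorem mem_conjS {g x : G} {K : Subgroup G} : x ∈ conjS g K ↔ g⁻¹ * x * g ∈ K := by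
  rw [conjS, Subgroup.mem_map_equiv, MulAut.conj_symm_apply]

theorem conjS_one (K : Subgroup G) : conjS 1 K = K := by
  ext x; simp [mem_conjS]

theorem conjS_mul (g h : G) (K : Subgroup G) : conjS (g * h) K = conjS g (conjS h K) := by
  ext x; simp [mem_conjS, mul_assoc]

theorem conj_mem_conjS {g x : G} {K : Subgroup G} (hx : x ∈ K) : g * x * g⁻¹ ∈ conjS g K :=
  mem_conjS.2 (by simpa [mul_assoc] using hx)

theorem card_conjS (g : G) (K : Subgroup G) : Nat.card (conjS g K) = Nat.card K :=
  Subgroup.card_map_of_injective (MulAut.conj g).injective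

theorem conjS_eq_self {g : G} {K : Subgroup G} : conjS g K = K ↔ g ∈ normalizer (K : Set G) := by
  constructor
  · intro h
    rw [Subgroup.mem_normalizer_iff]
    intro x
    conv_rhs => rw [← h, mem_conjS]
    simp [mul_assoc]
  · intro hg
    ext x
    rw [mem_conjS]
    exact (Subgroup.mem_normalizer_iff''.1 hg x).symm

theorem normalizer_conjS (g : G) (K : Subgroup G) :
    normalizer (conjS g K : Set G) = conjS g (normalizer (K : Set G)) := by
  ext x
  rw [← conjS_eq_self, mem_conjS, ← conjS_eq_self]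
  constructor
  · intro h
    rw [conjS_mul, conjS_mul, h, ← conjS_mul, inv_mul_cancel, conjS_one]
  · intro h
    rw [← conjS_mul, show x * g = g * (g⁻¹ * x * g) by group, conjS_mul, h]

theorem centralizer_conjS (g t : G) :
    centralizer ({g * t * g⁻¹} : Set G) = conjS g (centralizer {t}) := by
  ext x
  rw [mem_conjS, mem_centralizer_singleton_iff, mem_centralizer_singleton_iff]
  constructor
  · intro h
    calc g⁻¹ * x * g * t = g⁻¹ * (x * (g * t * g⁻¹)) * g := by group
      _ = _ := by rw [h]; group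
  · intro h
    calc x * (g * t * g⁻¹) = g * (g⁻¹ * x * g * t) * g⁻¹ := by group
      _ = _ := by rw [h]; group

/-- Orbit-stabiliser for a subgroup acting by conjugation on elements. -/
theorem card_conjugates_mul (K : Subgroup G) (v : G) :
    Nat.card {w // ∃ c ∈ K, c * v * c⁻¹ = w} * Nat.card (K ⊓ centralizer ({v} : Set G) : Subgroup G) =
      Nat.card K := by
  let φ : K →* ConjAct G := ConjAct.toConjAct.toMonoidHom.comp K.subtype
  let inst : MulAction K G := MulAction.compHom G φ
  have hsmul : ∀ (c : K) (w : G), c • w = (c : G) * w * (c : G)⁻¹ := fun c w => ConjAct.smul_def _ _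
  have horb : MulAction.orbit K v = {w | ∃ c ∈ K, c * v * c⁻¹ = w} := by
    ext w
    constructor
    · rintro ⟨c, rfl⟩; exact ⟨c, c.2, (hsmul c v).symm⟩
    · rintro ⟨c, hc, rfl⟩; exact ⟨⟨c, hc⟩, hsmul _ _⟩
  have hst : MulAction.stabilizer K v = (K ⊓ centralizer ({v} : Set G)).subgroupOf K := by
    ext c
    rw [MulAction.mem_stabilizer_iff, mem_subgroupOf, mem_inf, mem_centralizer_singleton_iff, hsmul,
      mul_inv_eq_iff_eq_mul]
    exact ⟨fun h => ⟨c.2, h⟩, fun h => h.2⟩
  have h := (MulAction.stabilizer K v).card_mul_index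
  rw [MulAction.index_stabilizer, horb, hst, Nat.card_congr (subgroupOfEquivOfLe inf_le_left).toEquiv,
    ← Nat.card_coe_set_eq] at h
  rw [mul_comm]
  exact h

/-- The data of an elementary abelian subgroup of order 16 with its normaliser. -/
structure Local (E : Subgroup G) : Prop where
  order : Nat.card G = 10200960
  card : Nat.card E = 16
  sq : ∀ e ∈ E, e * e = 1
  cent : centralizer (E : Set G) ≤ E
  cardN : Nat.card (normalizer (E : Set G)) = 40320
  cardC : ∀ t ∈ E, t ≠ 1 → Nat.card (centralizer ({t} : Set G)) = 2688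
  centLe : ∀ t ∈ E, t ≠ 1 → centralizer ({t} : Set G) ≤ normalizer (E : Set G)
  seven : ∀ y : G, orderOf y = 7 → Nat.card (centralizer ({y} : Set G)) = 14

/-- Two subgroups with trivial intersection. -/
def Meet (E F : Subgroup G) : Prop := ∀ t ∈ E, t ∈ F → t = 1

theorem Meet.symm {E F : Subgroup G} (h : Meet E F) : Meet F E := fun t ht ht' => h t ht' ht

/-- The part of `E` normalising `F`. -/
def fixPart (E F : Subgroup G) : Subgroup G := E ⊓ normalizer (F : Set G)

theorem mem_fixPart {E F : Subgroup G} {a : G} : a ∈ fixPart E F ↔ a ∈ E ∧ a ∈ normalizer (F : Set G) :=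
  Iff.rfl

/-- Parts normalising each other commute. -/
theorem commute_fixPart {E F : Subgroup G} (hd : Meet E F) {a b : G} (ha : a ∈ fixPart E F)
    (hb : b ∈ fixPart F E) : a * b = b * a := by
  have h1 : a * b * a⁻¹ * b⁻¹ = 1 := by
    refine hd _ ?_ ?_
    · rw [show a * b * a⁻¹ * b⁻¹ = a * (b * a⁻¹ * b⁻¹) by group]
      exact E.mul_mem ha.1 ((mem_normalizer_iff.1 hb.2 _).1 (E.inv_mem ha.1))
    · exact F.mul_mem ((mem_normalizer_iff.1 ha.2 b).1 hb.1) (F.inv_mem hb.1)
  have h2 := mul_inv_eq_one.1 h1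
  calc a * b = (a * b * a⁻¹) * a := by group
    _ = b * a := by rw [h2]

namespace Local

variable [Finite G] {E F : Subgroup G} (hE : Local E) (hF : Local F)
include hE

theorem comm {a b : G} (ha : a ∈ E) (hb : b ∈ E) : a * b = b * a := by
  have h : ∀ e ∈ E, e⁻¹ = e := fun e he => inv_eq_of_mul_eq_one_right (hE.sq e he)
  calc a * b = (a * b)⁻¹ := (h _ (E.mul_mem ha hb)).symm
    _ = b * a := by rw [mul_inv_rev, h a ha, h b hb]

theorem le_normalizer : E ≤ normalizer (E : Set G) := Subgroup.le_normalizer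

theorem conj (g : G) : Local (conjS g E) where
  order := hE.order
  card := by rw [card_conjS, hE.card]
  sq e he := by
    have := hE.sq _ (mem_conjS.1 he)
    rw [show g⁻¹ * e * g * (g⁻¹ * e * g) = g⁻¹ * (e * e) * g by group] at this
    calc e * e = g * (g⁻¹ * (e * e) * g) * g⁻¹ := by group
      _ = 1 := by rw [this]; group
  cent := by
    intro x hx
    rw [mem_conjS]
    refine hE.cent (mem_centralizer_iff.2 fun e he => ?_)
    have := mem_centralizer_iff.1 hx _ (conj_mem_conjS (g := g) he)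
    calc e * (g⁻¹ * x * g) = g⁻¹ * (g * e * g⁻¹ * x) * g := by group
      _ = _ := by rw [this]; group
  cardN := by rw [normalizer_conjS, card_conjS, hE.cardN]
  cardC t ht ht1 := by
    have e : t = g * (g⁻¹ * t * g) * g⁻¹ := by group
    rw [e, centralizer_conjS, card_conjS]
    exact hE.cardC _ (mem_conjS.1 ht) fun h => ht1 (by rw [e, h]; group)
  centLe t ht ht1 := by
    have e : t = g * (g⁻¹ * t * g) * g⁻¹ := by group
    rw [e, centralizer_conjS, normalizer_conjS]
    exact Subgroup.map_mono (hE.centLe _ (mem_conjS.1 ht) fun h => ht1 (by rw [e, h]; group))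
  seven := hE.seven

theorem card_nonone : Nat.card {e : G // e ∈ E ∧ e ≠ 1} = 15 := by
  classical
  have h : ({e : G | e ∈ E ∧ e ≠ 1}) = (E : Set G) \ {1} := by ext e; simp
  rw [Set.coe_setOf .. |>.symm, Nat.card_coe_set_eq, h, Set.ncard_diff_singleton_of_mem E.one_mem,
    ← Nat.card_coe_set_eq, SetLike.coe_sort_coe, hE.card]

theorem conj_mem {h e : G} (hh : h ∈ normalizer (E : Set G)) (he : e ∈ E) : h * e * h⁻¹ ∈ E :=
  (mem_normalizer_iff.1 hh e).1 he

/-- The normaliser is transitive on the fifteen involutions. -/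
theorem transitive {s t : G} (hs : s ∈ E) (hs1 : s ≠ 1) (ht : t ∈ E) (ht1 : t ≠ 1) :
    ∃ h ∈ normalizer (E : Set G), h * s * h⁻¹ = t := by
  have hc := card_conjugates_mul (normalizer (E : Set G)) s
  rw [inf_eq_right.2 (hE.centLe s hs hs1), hE.cardC s hs hs1, hE.cardN] at hc
  let f : {w // ∃ c ∈ normalizer (E : Set G), c * s * c⁻¹ = w} → {e : G // e ∈ E ∧ e ≠ 1} := fun w =>
    ⟨w.1, by
      obtain ⟨c, hc, e⟩ := w.2
      rw [← e]
      exact ⟨hE.conj_mem hc hs, by simpa [conj_eq_one_iff] using hs1⟩⟩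
  have hf : Function.Bijective f := (Nat.bijective_iff_injective_and_card f).2
    ⟨fun a b h => by have e := congrArg Subtype.val h; exact Subtype.ext e, by rw [hE.card_nonone]; omega⟩
  obtain ⟨⟨w, c, hc', hw⟩, he⟩ := hf.2 ⟨t, ht, ht1⟩
  exact ⟨c, hc', hw.trans (congrArg Subtype.val he)⟩

/-- Each involution lies in only one conjugate. -/
theorem eq_of_mem {g t : G} (ht : t ∈ E) (ht' : t ∈ conjS g E) (ht1 : t ≠ 1) : conjS g E = E := by
  obtain ⟨h, hh, e⟩ := hE.transitive ht ht1 (mem_conjS.1 ht') (fun h => ht1 (by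
    calc t = g * (g⁻¹ * t * g) * g⁻¹ := by group
      _ = 1 := by rw [h]; group))
  have : g * h ∈ centralizer ({t} : Set G) := by
    rw [mem_centralizer_singleton_iff]
    calc g * h * t = g * (h * t * h⁻¹) * h := by group
      _ = t * (g * h) := by rw [e]; group
  rw [conjS_eq_self]
  have := mul_mem (hE.centLe t ht ht1 this) (inv_mem hh)
  rwa [mul_inv_cancel_right] at this

theorem meet {g : G} (hne : conjS g E ≠ E) : Meet E (conjS g E) := fun t ht ht' => by
  by_contra h1
  exact hne (hE.eq_of_mem ht ht' h1)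

/-- An element of order seven in the normaliser centralises a non-trivial element. -/
theorem exists_seven_fix {y : G} (hy : orderOf y = 7) (hyN : y ∈ normalizer (E : Set G)) :
    ∃ t ∈ E, t ≠ 1 ∧ t ∈ centralizer ({y} : Set G) := by
  have : Fact (Nat.Prime 7) := ⟨by norm_num⟩
  have hp : IsPGroup 7 (zpowers y) := IsPGroup.of_card (n := 1) (by rw [Nat.card_zpowers, hy, pow_one])
  have hm := CfsgLib.Order7920.card_modEq_card_inf_centralizer hp (zpowers_le.2 hyN)
  rw [hE.card] at hm
  set K := E ⊓ centralizer (zpowers y : Set G)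
  have hK : K ≠ ⊥ := by
    intro h
    rw [h, Subgroup.card_bot] at hm
    exact absurd hm (by decide)
  obtain ⟨t, htK, ht1⟩ := K.bot_or_exists_ne_one.resolve_left hK
  exact ⟨t, htK.1, ht1, mem_centralizer_singleton_iff.2
    (mem_centralizer_iff.1 htK.2 y (mem_zpowers y)).symm⟩

theorem invol_eq_of_seven {y s t : G} (hy : orderOf y = 7) (hs : s * s = 1) (hs1 : s ≠ 1) (ht : t * t = 1)
    (ht1 : t ≠ 1) (hsy : s ∈ centralizer ({y} : Set G)) (hty : t ∈ centralizer ({y} : Set G)) : s = t := by
  set C := centralizer ({y} : Set G)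
  have hyC : zpowers y ≤ C := zpowers_le.2 (mem_centralizer_singleton_iff.2 rfl)
  have hidx : ((zpowers y).subgroupOf C).index = 2 := by
    have h := ((zpowers y).subgroupOf C).card_mul_index
    rw [Nat.card_congr (subgroupOfEquivOfLe hyC).toEquiv, Nat.card_zpowers, hy, hE.seven y hy] at h
    omega
  have hnot : ∀ r : G, r * r = 1 → r ∈ zpowers y → r = 1 := by
    intro r hr hrz
    have h7 := orderOf_dvd_natCard (⟨r, hrz⟩ : zpowers y)
    rw [Subgroup.orderOf_mk, Nat.card_zpowers, hy] at h7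
    have h2 : orderOf r ∣ 2 := orderOf_dvd_of_pow_eq_one (by rw [pow_two, hr])
    exact orderOf_eq_one_iff.1 (Nat.eq_one_of_dvd_coprimes (by norm_num) h7 h2)
  have hst : s * t ∈ zpowers y := by
    refine ((mul_mem_iff_of_index_two hidx (a := ⟨s, hsy⟩) (b := ⟨t, hty⟩)).2 ?_)
    exact iff_of_false (fun h => hs1 (hnot s hs h)) (fun h => ht1 (hnot t ht h))
  have hc : s * (s * t) = s * t * s := by
    obtain ⟨i, hi⟩ := mem_zpowers_iff.1 hst
    have hcy : Commute s y := mem_centralizer_singleton_iff.1 hsy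
    rw [← hi]
    exact hcy.zpow_right i
  have h1 : s * t * (s * t) = 1 := by
    calc s * t * (s * t) = (s * t * s) * t := by group
      _ = (s * (s * t)) * t := by rw [hc]
      _ = (s * s) * (t * t) := by group
      _ = 1 := by rw [hs, ht, one_mul]
  have h2 := hnot _ h1 hst
  calc s = s * t * t := by rw [mul_assoc, ht, mul_one]
    _ = t := by rw [h2, one_mul]

include hF

/-- An element of order seven does not normalise two of the subgroups. -/
theorem not_seven (hd : Meet E F) {y : G} (hy : orderOf y = 7) (hyE : y ∈ normalizer (E : Set G))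
    (hyF : y ∈ normalizer (F : Set G)) : False := by
  obtain ⟨s, hsE, hs1, hsy⟩ := hE.exists_seven_fix hy hyE
  obtain ⟨t, htF, ht1, hty⟩ := hF.exists_seven_fix hy hyF
  have := hE.invol_eq_of_seven hy (hE.sq s hsE) hs1 (hF.sq t htF) ht1 hsy hty
  exact hs1 (hd s hsE (this ▸ htF))

omit hF

/-- Fixed points of an involution on `E` number at least four. -/
theorem four_le_inf_centralizer {b : G} (hb : b * b = 1) (hbN : b ∈ normalizer (E : Set G)) :
    4 ≤ Nat.card (E ⊓ centralizer ({b} : Set G) : Subgroup G) := by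
  have hbi : b⁻¹ = b := inv_eq_of_mul_eq_one_right hb
  let f : E →* G := MonoidHom.mk' (fun e => (e : G) * (b * e * b⁻¹)) fun x y => by
    have h1 : (y : G) * (b * x * b⁻¹) = b * x * b⁻¹ * y := hE.comm y.2 (hE.conj_mem hbN x.2)
    rw [Subgroup.coe_mul]
    calc (x : G) * y * (b * (x * y) * b⁻¹) = x * (y * (b * x * b⁻¹)) * (b * y * b⁻¹) := by group
      _ = x * (b * x * b⁻¹) * (y * (b * y * b⁻¹)) := by rw [h1]; group
  set K := E ⊓ centralizer ({b} : Set G)
  have hrange : f.range ≤ K := by
    rintro _ ⟨e, rfl⟩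
    refine ⟨E.mul_mem e.2 (hE.conj_mem hbN e.2), mem_centralizer_singleton_iff.2 ?_⟩
    have h1 := hE.comm e.2 (hE.conj_mem hbN e.2)
    show (e : G) * (b * e * b⁻¹) * b = b * (e * (b * e * b⁻¹))
    calc (e : G) * (b * e * b⁻¹) * b = (b * e * b⁻¹) * e * b := by rw [h1]
      _ = b * (e * (b⁻¹ * e * b)) := by group
      _ = _ := by rw [hbi]
  have hker : f.ker.map E.subtype ≤ K := by
    rintro _ ⟨e, he, rfl⟩
    refine ⟨e.2, mem_centralizer_singleton_iff.2 ?_⟩
    have h1 : b * e * b⁻¹ = (e : G) :=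
      (inv_eq_of_mul_eq_one_right he).symm.trans (inv_eq_of_mul_eq_one_right (hE.sq _ e.2))
    calc (e : G) * b = b * e * b⁻¹ * b := by rw [h1]
      _ = b * e := by group
  have hm := f.ker.card_mul_index
  rw [Subgroup.index_ker, hE.card] at hm
  have h1 := Subgroup.card_le_of_le hrange
  have h2 := Subgroup.card_le_of_le hker
  rw [Subgroup.card_map_of_injective E.subtype_injective] at h2
  by_contra hlt
  push Not at hlt
  have := Nat.mul_le_mul (Nat.le_of_lt_succ (lt_of_le_of_lt h2 hlt)) (Nat.le_of_lt_succ (lt_of_le_of_lt h1 hlt))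
  omega

include hF

theorem inf_centralizer_le {b : G} (hbF : b ∈ F) (hb1 : b ≠ 1) :
    E ⊓ centralizer ({b} : Set G) ≤ fixPart E F :=
  fun _ hx => ⟨hx.1, hF.centLe b hbF hb1 hx.2⟩

theorem four_le_fixPart {b : G} (hb : b ∈ fixPart F E) (hb1 : b ≠ 1) : 4 ≤ Nat.card (fixPart E F) :=
  (hE.four_le_inf_centralizer (hF.sq b hb.1) hb.2).trans
    (Subgroup.card_le_of_le (hE.inf_centralizer_le hF hb.1 hb1))

theorem fixPart_ne_bot_symm (h : fixPart E F ≠ ⊥) : fixPart F E ≠ ⊥ := by
  obtain ⟨a, ha, ha1⟩ := (fixPart E F).bot_or_exists_ne_one.resolve_left h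
  intro h'
  have := hF.four_le_fixPart hE ha ha1
  rw [h', Subgroup.card_bot] at this
  omega

/-- The part normalising the other subgroup is not everything. -/
theorem exists_not_mem_fixPart (hd : Meet E F) : ∃ e ∈ E, e ∉ fixPart E F := by
  by_contra hcon
  push Not at hcon
  have hne : fixPart E F ≠ ⊥ := by
    obtain ⟨e, he, he1⟩ := E.bot_or_exists_ne_one.resolve_left fun h => by
      have := hE.card; rw [h, Subgroup.card_bot] at this; omega
    intro h
    exact he1 ((Subgroup.mem_bot).1 (h ▸ hcon e he))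
  obtain ⟨b, hb, hb1⟩ := (fixPart F E).bot_or_exists_ne_one.resolve_left (hE.fixPart_ne_bot_symm hF hne)
  exact hb1 (hd b (hE.cent (mem_centralizer_iff.2 fun e he => commute_fixPart hd (hcon e he) hb)) hb.1)

theorem card_fixPart_dvd : Nat.card (fixPart E F) ∣ 16 := hE.card ▸ Subgroup.card_dvd_of_le inf_le_left

omit hE hF in
theorem inv_eq {E : Subgroup G} (hE : Local E) {e : G} (he : e ∈ E) : e⁻¹ = e :=
  inv_eq_of_mul_eq_one_right (hE.sq e he)

/-- Commutators with a fixed element. -/
theorem commutator_mem {a f : G} (ha : a ∈ fixPart E F) (hf : f ∈ F) :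
    f * (a * f * a⁻¹) ∈ fixPart F E := by
  have hmF : f * (a * f * a⁻¹) ∈ F := F.mul_mem hf (hF.conj_mem ha.2 hf)
  rcases eq_or_ne a 1 with h | h
  · rw [h]; simp [hF.sq f hf]
  · refine ⟨hmF, hE.centLe _ ha.1 h (mem_centralizer_singleton_iff.2 ?_)⟩
    have hai : a⁻¹ = a := hE.inv_eq ha.1
    have h1 := hF.comm hf (hF.conj_mem ha.2 hf)
    calc f * (a * f * a⁻¹) * a = a * f * a⁻¹ * f * a := by rw [h1]
      _ = a * (f * (a⁻¹ * f * a)) := by group
      _ = a * (f * (a * f * a⁻¹)) := by rw [hai]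

theorem commutator_inj {a a' f : G} (ha : a ∈ fixPart E F) (ha' : a' ∈ fixPart E F) (hfF : f ∈ F)
    (hfB : f ∉ fixPart F E) (h : f * (a * f * a⁻¹) = f * (a' * f * a'⁻¹)) : a = a' := by
  have h1 : a * f * a⁻¹ = a' * f * a'⁻¹ := mul_left_cancel h
  have h2 : f ∈ centralizer ({a'⁻¹ * a} : Set G) := by
    rw [mem_centralizer_singleton_iff]
    calc f * (a'⁻¹ * a) = a'⁻¹ * (a' * f * a'⁻¹) * a := by group
      _ = a'⁻¹ * a * f := by rw [← h1]; group
  by_contra hne'
  refine hfB ⟨hfF, hE.centLe _ (E.mul_mem (E.inv_mem ha'.1) ha.1) (fun h0 => hne' ?_) h2⟩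
  exact (inv_mul_eq_one.1 h0).symm

theorem card_fixPart_le (hd : Meet E F) : Nat.card (fixPart E F) ≤ Nat.card (fixPart F E) := by
  obtain ⟨f, hfF, hfB⟩ := hF.exists_not_mem_fixPart hE hd.symm
  refine Nat.card_le_card_of_injective
    (fun a : fixPart E F => (⟨_, hE.commutator_mem hF a.2 hfF⟩ : fixPart F E)) fun a a' h => ?_
  exact Subtype.ext (hE.commutator_inj hF a.2 a'.2 hfF hfB (congrArg Subtype.val h))

theorem card_fixPart_eq (hd : Meet E F) : Nat.card (fixPart E F) = Nat.card (fixPart F E) :=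
  le_antisymm (hE.card_fixPart_le hF hd) (hF.card_fixPart_le hE hd.symm)

end Local

end CfsgLib.MathieuTwentyThree
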