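import Cfsg.Agent.Lib.MathieuTwentyThree.Setup
import Cfsg.Agent.Lib.MathieuTwentyThree.CentTwo
import Cfsg.Agent.Lib.MathieuTwentyThree.Local

/-!
From the centraliser orders to an elementary abelian subgroup of order 16 with normaliser of order 40320: the
subgroups of order 16 belonging to two commuting involutions coincide for some pair.
-/

set_option autoImplicit false
set_option linter.unusedSectionVars false
set_option linter.style.haveILetI false

namespace CfsgLib.MathieuTwentyThree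

open Subgroup

variable {G : Type*} [Group G]

/-- The subgroup of order 16 belonging to an involution. -/
structure Sixteen (t : G) (E : Subgroup G) : Prop where
  invol : orderOf t = 2
  mem : t ∈ E
  card : Nat.card E = 16
  sq : ∀ e ∈ E, e * e = 1
  le_normalizer : centralizer ({t} : Set G) ≤ normalizer (E : Set G)
  cent : centralizer (E : Set G) ≤ E
  triv : ∀ c ∈ centralizer ({t} : Set G), (∀ e ∈ E, c * e * c⁻¹ * e⁻¹ ∈ zpowers t) → c ∈ E

/-- The commutator of two elements. -/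
def cm (e f : G) : G := e * f * e⁻¹ * f⁻¹

theorem cm_mul_right (e a b : G) : cm e (a * b) = cm e a * (a * cm e b * a⁻¹) := by
  unfold cm; group

theorem cm_mul_left (a b f : G) : cm (a * b) f = (a * cm b f * a⁻¹) * cm a f := by
  unfold cm; group

theorem cm_swap (e f : G) : cm f e = (cm e f)⁻¹ := by unfold cm; group

theorem cm_eq_one_iff {e f : G} : cm e f = 1 ↔ e * f = f * e := by
  unfold cm
  rw [mul_inv_eq_one, mul_inv_eq_iff_eq_mul]

variable [Finite G]

namespace Counts

variable (hc : Counts G)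
include hc

theorem centralizer_dvd {x : G} (hx : orderOf x = 3) {K : Subgroup G}
    (hK : K ≤ centralizer ({x} : Set G)) : Nat.card K ∣ 180 :=
  hc.centralizer_three x hx ▸ Subgroup.card_dvd_of_le hK

theorem centHyp {t : G} (ht : orderOf t = 2) :
    CentHyp (⟨t, mem_centralizer_singleton_iff.2 rfl⟩ : centralizer ({t} : Set G)) := by
  set C := centralizer ({t} : Set G)
  have hmap : ∀ g : C, (centralizer ({g} : Set C)).map C.subtype = centralizer ({(g : G)} : Set G) ⊓ C := by
    intro g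
    ext z
    constructor
    · rintro ⟨w, hw, rfl⟩
      exact ⟨mem_centralizer_singleton_iff.2 (congrArg Subtype.val (mem_centralizer_singleton_iff.1 hw)), w.2⟩
    · rintro ⟨hz, hzC⟩
      exact ⟨⟨z, hzC⟩, mem_centralizer_singleton_iff.2 (Subtype.ext (mem_centralizer_singleton_iff.1 hz)), rfl⟩
  have hcard : ∀ g : C, Nat.card (centralizer ({g} : Set C)) =
      Nat.card (centralizer ({(g : G)} : Set G) ⊓ C : Subgroup G) := by
    intro g
    rw [← hmap g, Subgroup.card_map_of_injective C.subtype_injective]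
  have htg : ∀ g ∈ C, g * t = t * g := fun g hg => mem_centralizer_singleton_iff.1 hg
  -- the centraliser of an element of order seven centralises the involution
  have hsev : ∀ y ∈ C, orderOf y = 7 → centralizer ({y} : Set G) ≤ C ∧ normalizer (zpowers y : Set G) ≤ C := by
    intro y hyC hy
    have hcom : Commute t y := (htg y hyC).symm
    have htop : centralizer ({y} : Set G) = zpowers (t * y) := by
      refine (Subgroup.eq_of_le_of_card_ge ?_ ?_).symm
      · rw [zpowers_le, mem_centralizer_singleton_iff, mul_assoc, ← mul_assoc y, ← hcom.eq, mul_assoc]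
      · rw [hc.centralizer_seven y hy, Nat.card_zpowers,
          hcom.orderOf_mul_eq_mul_orderOf_of_coprime (by rw [ht, hy]; norm_num), ht, hy]
    have hle : centralizer ({y} : Set G) ≤ C := by
      rw [htop, zpowers_le]
      exact mul_mem (mem_centralizer_singleton_iff.2 rfl) hyC
    refine ⟨hle, fun n hn => ?_⟩
    have htY : t ∈ centralizer ({y} : Set G) := mem_centralizer_singleton_iff.2 hcom.eq
    have hyY : ∀ z ∈ zpowers y, z * t = t * z := fun z hz => by
      obtain ⟨i, rfl⟩ := mem_zpowers_iff.1 hz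
      exact (hcom.zpow_right i).symm.eq
    have hconj : n * t * n⁻¹ ∈ zpowers (t * y) := by
      rw [← htop, mem_centralizer_singleton_iff]
      have hny : n⁻¹ * y * n ∈ zpowers y := (mem_normalizer_iff''.1 hn y).1 (mem_zpowers y)
      calc n * t * n⁻¹ * y = n * (t * (n⁻¹ * y * n)) * n⁻¹ := by group
        _ = y * (n * t * n⁻¹) := by rw [← hyY _ hny]; group
    obtain ⟨i, hi⟩ := mem_zpowers_iff.1 hconj
    rw [hcom.mul_zpow] at hi
    have ht2 : t ^ (2 : ℤ) = 1 := by
      rw [show ((2 : ℤ)) = ((2 : ℕ) : ℤ) from rfl, zpow_natCast, ← ht, pow_orderOf_eq_one]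
    have hsq : t ^ (2 * i) * y ^ (2 * i) = 1 := by
      rw [← hcom.mul_zpow, mul_comm, zpow_mul, hcom.mul_zpow, hi, show ((2 : ℤ)) = ((2 : ℕ) : ℤ) from rfl,
        zpow_natCast, ← ht,
        show n * t * n⁻¹ = MulAut.conj n t from rfl, ← map_pow, pow_orderOf_eq_one, map_one]
    rw [zpow_mul t, ht2, one_zpow, one_mul, ← orderOf_dvd_iff_zpow_eq_one, hy] at hsq
    have hyi : y ^ i = 1 := by rw [← orderOf_dvd_iff_zpow_eq_one, hy]; omega
    rw [hyi, mul_one] at hi
    rcases Int.even_or_odd i with ⟨k, rfl⟩ | ⟨k, rfl⟩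
    · exfalso
      rw [← two_mul, zpow_mul, ht2, one_zpow] at hi
      rw [conj_eq_one_iff.1 hi.symm, orderOf_one] at ht
      omega
    · rw [zpow_add, zpow_mul, ht2, one_zpow, one_mul, zpow_one] at hi
      rw [mem_centralizer_singleton_iff]
      calc n * t = n * t * n⁻¹ * n := by group
        _ = t * n := by rw [← hi]
  refine ⟨hc.centralizer_two t ht, ?_, ?_, ?_, ?_, ?_, ?_⟩
  · refine Subtype.ext ?_
    show t * t = 1
    rw [← pow_two, ← ht, pow_orderOf_eq_one]
  · intro e
    have := congrArg Subtype.val e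
    simp only [Subgroup.coe_one] at this
    rw [this, orderOf_one] at ht
    omega
  · exact fun g => Subtype.ext (htg g g.2)
  · intro y hy
    rw [← Subgroup.orderOf_coe] at hy
    rw [hcard, inf_eq_left.2 (hsev y y.2 hy).1, hc.centralizer_seven _ hy]
  · intro y hy
    rw [← Subgroup.orderOf_coe] at hy
    have e : (normalizer (zpowers y : Set C)).map C.subtype = normalizer (zpowers (y : G) : Set G) ⊓ C := by
      have hz : (zpowers y).map C.subtype = zpowers (y : G) := MonoidHom.map_zpowers _ _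
      ext z
      constructor
      · rintro ⟨w, hw, rfl⟩
        refine ⟨?_, w.2⟩
        refine mem_normalizer_iff.2 ?_
        intro v
        rw [← hz]
        constructor
        · rintro ⟨p, hp, rfl⟩
          exact ⟨w * p * w⁻¹, (mem_normalizer_iff.1 hw p).1 hp, by simp⟩
        · rintro ⟨p, hp, e⟩
          refine ⟨w⁻¹ * p * w, ?_, ?_⟩
          · have := (mem_normalizer_iff.1 (inv_mem hw) p).1 hp
            rwa [inv_inv] at this
          · simp only [map_mul, map_inv, Subgroup.coe_subtype] at e ⊢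
            rw [e]; group
      · rintro ⟨hn, hnC⟩
        refine ⟨⟨z, hnC⟩, ?_, rfl⟩
        refine mem_normalizer_iff.2 ?_
        intro v
        have h := mem_normalizer_iff.1 hn (v : G)
        rw [← hz] at h
        constructor
        · intro hv
          obtain ⟨p, hp, e⟩ := h.1 ⟨v, hv, rfl⟩
          rwa [show (⟨z, hnC⟩ : C) * v * ⟨z, hnC⟩⁻¹ = p from Subtype.ext e.symm]
        · intro hv
          obtain ⟨p, hp, e⟩ := h.2 ⟨_, hv, rfl⟩
          rwa [show v = p from Subtype.ext e.symm]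
    rw [← Subgroup.card_map_of_injective C.subtype_injective, e, inf_eq_left.2 (hsev y y.2 hy).2,
      hc.normalizer_seven _ hy]
  · intro x hx
    rw [hcard]
    exact hc.centralizer_dvd ((Subgroup.orderOf_coe x).trans hx) inf_le_left

theorem exists_sixteen {t : G} (ht : orderOf t = 2) : ∃ E : Subgroup G, Sixteen t E := by
  have h := hc.centHyp ht
  set C := centralizer ({t} : Set G)
  obtain ⟨M, hMn, htM, hM⟩ := h.exists_sixteen
  haveI := hMn
  have hle : M.map C.subtype ≤ C := Subgroup.map_subtype_le M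
  refine ⟨M.map C.subtype, ht, ⟨_, htM, rfl⟩, by rw [Subgroup.card_map_of_injective C.subtype_injective, hM],
    ?_, ?_, ?_, ?_⟩
  · rintro _ ⟨m, hm, rfl⟩
    exact congrArg Subtype.val (h.sq_eq_one htM hM m hm)
  · intro c hcC
    rw [mem_normalizer_iff]
    intro v
    constructor
    · rintro ⟨m, hm, rfl⟩
      exact ⟨_, hMn.conj_mem m hm ⟨c, hcC⟩, rfl⟩
    · rintro ⟨m, hm, e⟩
      refine ⟨_, hMn.conj_mem m hm ⟨c, hcC⟩⁻¹, ?_⟩
      show c⁻¹ * (m : G) * c⁻¹⁻¹ = v
      rw [show (m : G) = c * v * c⁻¹ from e]; group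
  · intro c hcc
    have hcC : c ∈ C := mem_centralizer_singleton_iff.2
      (mem_centralizer_iff.1 hcc t ⟨_, htM, rfl⟩).symm
    exact ⟨⟨c, hcC⟩, h.centralizer_le htM hM (mem_centralizer_iff.2 fun m hm =>
      Subtype.ext (mem_centralizer_iff.1 hcc _ ⟨m, hm, rfl⟩)), rfl⟩
  · intro c hcC hce
    refine ⟨⟨c, hcC⟩, h.mem_of_trivial htM hM (h.abelian htM hM) fun m hm => ?_, rfl⟩
    obtain ⟨n, hn⟩ := mem_zpowers_iff.1 (hce m ⟨m, hm, rfl⟩)
    exact mem_zpowers_iff.2 ⟨n, Subtype.ext (by simpa using hn)⟩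

end Counts

namespace Sixteen

variable {t s : G} {E F : Subgroup G}

theorem comm (hE : Sixteen t E) {a b : G} (ha : a ∈ E) (hb : b ∈ E) : a * b = b * a := by
  have h : ∀ e ∈ E, e⁻¹ = e := fun e he => inv_eq_of_mul_eq_one_right (hE.sq e he)
  calc a * b = (a * b)⁻¹ := (h _ (E.mul_mem ha hb)).symm
    _ = b * a := by rw [mul_inv_rev, h a ha, h b hb]

theorem le_centralizer (hE : Sixteen t E) {v : G} (hv : v ∈ E) : E ≤ centralizer ({v} : Set G) :=
  fun _ he => mem_centralizer_singleton_iff.2 (hE.comm he hv)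

theorem mem_cases (hE : Sixteen t E) {z : G} (hz : z ∈ zpowers t) : z = 1 ∨ z = t := by
  obtain ⟨n, rfl⟩ := mem_zpowers_iff.1 hz
  have ht2 : t ^ (2 : ℤ) = 1 := by
    rw [show ((2 : ℤ)) = ((2 : ℕ) : ℤ) from rfl, zpow_natCast, ← hE.invol, pow_orderOf_eq_one]
  rcases Int.even_or_odd n with ⟨k, rfl⟩ | ⟨k, rfl⟩
  · left; rw [← two_mul, zpow_mul, ht2, one_zpow]
  · right; rw [zpow_add, zpow_mul, ht2, one_zpow, one_mul, zpow_one]

theorem mem_normalizer_of_mem (hE : Sixteen t E) {x : G} (hx : x ∈ centralizer ({t} : Set G)) {e : G}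
    (he : e ∈ E) : x * e * x⁻¹ ∈ E :=
  (mem_normalizer_iff.1 (hE.le_normalizer hx) e).1 he

/-- The fixed part of an element of order three. -/
theorem card_fixed (hE : Sixteen t E) (hc : Counts G) {x : G} (hx : orderOf x = 3)
    (hxt : x ∈ centralizer ({t} : Set G)) : Nat.card (E ⊓ centralizer ({x} : Set G) : Subgroup G) = 4 := by
  have : Fact (Nat.Prime 3) := ⟨by norm_num⟩
  have hp : IsPGroup 3 (zpowers x) := IsPGroup.of_card (n := 1) (by rw [Nat.card_zpowers, hx, pow_one])
  have hm := CfsgLib.Order7920.card_modEq_card_inf_centralizer hp (zpowers_le.2 (hE.le_normalizer hxt))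
  have he : E ⊓ centralizer (zpowers x : Set G) = E ⊓ centralizer ({x} : Set G) := by
    refine le_antisymm (inf_le_inf_left _ fun z hz => mem_centralizer_singleton_iff.2
      (mem_centralizer_iff.1 hz x (mem_zpowers x)).symm) (inf_le_inf_left _ fun z hz => ?_)
    refine mem_centralizer_iff.2 fun w hw => ?_
    obtain ⟨n, rfl⟩ := mem_zpowers_iff.1 hw
    exact ((show Commute z x from mem_centralizer_singleton_iff.1 hz).zpow_right n).symm.eq
  rw [he, hE.card, Nat.ModEq] at hm
  set C := E ⊓ centralizer ({x} : Set G)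
  have h2 : 2 ∣ Nat.card C := by
    have htC : t ∈ C := ⟨hE.mem, mem_centralizer_singleton_iff.2 (mem_centralizer_singleton_iff.1 hxt).symm⟩
    rw [← hE.invol]
    exact (Subgroup.orderOf_mk _ htC).symm ▸ orderOf_dvd_natCard (⟨t, htC⟩ : C)
  have h16 : Nat.card C ∣ 16 := hE.card ▸ Subgroup.card_dvd_of_le inf_le_left
  have h4 : Nat.card C ∣ 4 := (Nat.dvd_gcd h16 (hc.centralizer_dvd hx inf_le_right)).trans (by norm_num)
  have hdiv := Nat.mem_divisors.2 ⟨h4, by norm_num⟩
  rw [show (4 : ℕ).divisors = {1, 2, 4} by decide] at hdiv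
  simp only [Finset.mem_insert, Finset.mem_singleton] at hdiv
  omega

/-- Two commuting involutions centralised by the element of order three share the fixed part. -/
theorem fixed_eq (hE : Sixteen t E) (hF : Sixteen s F) (hc : Counts G) {x : G} (hx : orderOf x = 3)
    (hxt : x ∈ centralizer ({t} : Set G)) (hs : s ∈ E ⊓ centralizer ({x} : Set G)) :
    F ⊓ centralizer ({x} : Set G) = E ⊓ centralizer ({x} : Set G) := by
  have : Fact (Nat.Prime 2) := ⟨Nat.prime_two⟩
  have hxs : x ∈ centralizer ({s} : Set G) :=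
    mem_centralizer_singleton_iff.2 (mem_centralizer_singleton_iff.1 hs.2).symm
  set V := E ⊓ centralizer ({x} : Set G)
  set W := F ⊓ centralizer ({x} : Set G)
  have hV := hE.card_fixed hc hx hxt
  have hW := hF.card_fixed hc hx hxs
  have hnorm : V ≤ normalizer (W : Set G) := by
    intro v hv
    have hvF : v ∈ normalizer (F : Set G) := hF.le_normalizer (hE.le_centralizer hs.1 hv.1)
    have hvx : v ∈ normalizer (centralizer ({x} : Set G) : Set G) := Subgroup.le_normalizer hv.2
    rw [mem_normalizer_iff]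
    exact fun w => ⟨fun hw => ⟨(mem_normalizer_iff.1 hvF w).1 hw.1, (mem_normalizer_iff.1 hvx w).1 hw.2⟩,
      fun hw => ⟨(mem_normalizer_iff.1 hvF w).2 hw.1, (mem_normalizer_iff.1 hvx w).2 hw.2⟩⟩
  have hp : IsPGroup 2 (V ⊔ W : Subgroup G) := IsPGroup.to_sup_of_normal_right'
    (IsPGroup.of_card (n := 2) hV) (IsPGroup.of_card (n := 2) hW) hnorm
  obtain ⟨k, hk⟩ := IsPGroup.iff_card.1 hp
  have hle : (V ⊔ W : Subgroup G) ≤ centralizer ({s} : Set G) ⊓ centralizer ({x} : Set G) :=
    sup_le (fun v hv => ⟨hE.le_centralizer hs.1 hv.1, hv.2⟩)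
      (fun w hw => ⟨hF.le_centralizer hF.mem hw.1, hw.2⟩)
  have h12 : Nat.card (V ⊔ W : Subgroup G) ∣ 12 := by
    refine (Nat.dvd_gcd (hc.centralizer_two s hF.invol ▸ Subgroup.card_dvd_of_le (hle.trans inf_le_left))
      (hc.centralizer_dvd hx (hle.trans inf_le_right))).trans (by norm_num)
  have h4 : Nat.card (V ⊔ W : Subgroup G) ≤ 4 := by
    rw [hk] at h12 ⊢
    by_contra hlt
    have h3 : 3 ≤ k := by
      by_contra hk2
      have := Nat.pow_le_pow_right (show 2 > 0 by norm_num) (show k ≤ 2 by omega)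
      omega
    have : 2 ^ 3 ∣ 12 := (Nat.pow_dvd_pow 2 h3).trans h12
    norm_num at this
  have e1 := Subgroup.eq_of_le_of_card_ge (le_sup_left : V ≤ V ⊔ W) (by rw [hV]; exact h4)
  have e2 := Subgroup.eq_of_le_of_card_ge (le_sup_right : W ≤ V ⊔ W) (by rw [hW]; exact h4)
  exact e2.trans e1.symm

variable {x : G} {V : Subgroup G}

/-- Two of the subgroups meet in the fixed part unless they are equal. -/
theorem inf_eq (hE : Sixteen t E) (hF : Sixteen s F) (hne : E ≠ F) (hx : orderOf x = 3)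
    (hxt : x ∈ centralizer ({t} : Set G)) (hxs : x ∈ centralizer ({s} : Set G))
    (hV : E ⊓ centralizer ({x} : Set G) = V) (hV' : F ⊓ centralizer ({x} : Set G) = V)
    (hV4 : Nat.card V = 4) : E ⊓ F = V := by
  have : Fact (Nat.Prime 3) := ⟨by norm_num⟩
  set I := E ⊓ F
  have hVI : V ≤ I := le_inf (hV ▸ inf_le_left) (hV' ▸ inf_le_left)
  have hxI : zpowers x ≤ normalizer (I : Set G) := by
    rw [zpowers_le, mem_normalizer_iff]
    exact fun w => ⟨fun hw => ⟨hE.mem_normalizer_of_mem hxt hw.1, hF.mem_normalizer_of_mem hxs hw.2⟩,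
      fun hw => ⟨(mem_normalizer_iff.1 (hE.le_normalizer hxt) w).2 hw.1,
        (mem_normalizer_iff.1 (hF.le_normalizer hxs) w).2 hw.2⟩⟩
  have hp : IsPGroup 3 (zpowers x) := IsPGroup.of_card (n := 1) (by rw [Nat.card_zpowers, hx, pow_one])
  have hm := CfsgLib.Order7920.card_modEq_card_inf_centralizer hp hxI
  have he : I ⊓ centralizer (zpowers x : Set G) = V := by
    refine le_antisymm (fun z hz => hV ▸ ⟨hz.1.1, mem_centralizer_singleton_iff.2
      (mem_centralizer_iff.1 hz.2 x (mem_zpowers x)).symm⟩) fun z hz => ⟨hVI hz, ?_⟩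
    have hzx : z ∈ centralizer ({x} : Set G) := (hV.symm ▸ hz : z ∈ E ⊓ centralizer ({x} : Set G)).2
    refine mem_centralizer_iff.2 fun w hw => ?_
    obtain ⟨n, rfl⟩ := mem_zpowers_iff.1 hw
    exact ((show Commute z x from mem_centralizer_singleton_iff.1 hzx).zpow_right n).symm.eq
  rw [he, hV4, Nat.ModEq] at hm
  have h16 : Nat.card I ∣ 16 := hE.card ▸ Subgroup.card_dvd_of_le inf_le_left
  have hne16 : Nat.card I ≠ 16 := by
    intro e
    have e1 : I = E := Subgroup.eq_of_le_of_card_ge inf_le_left (by rw [e, hE.card])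
    exact hne (Subgroup.eq_of_le_of_card_ge (e1 ▸ inf_le_right : E ≤ F) (by rw [hE.card, hF.card]))
  have hge := Subgroup.card_le_of_le hVI
  have hdiv := Nat.mem_divisors.2 ⟨h16, by norm_num⟩
  rw [show (16 : ℕ).divisors = {1, 2, 4, 8, 16} by decide] at hdiv
  simp only [Finset.mem_insert, Finset.mem_singleton] at hdiv
  exact (Subgroup.eq_of_le_of_card_ge hVI (by rw [hV4]; omega)).symm

/-- A generating pair modulo the fixed part. -/
theorem exists_generators (hE : Sixteen t E) (hx : orderOf x = 3) (hxt : x ∈ centralizer ({t} : Set G))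
    (hV : E ⊓ centralizer ({x} : Set G) = V) (hV4 : Nat.card V = 4) {e : G} (he : e ∈ E) (hev : e ∉ V) :
    x * e * x⁻¹ ∈ E ∧ x * (x * e * x⁻¹) * x⁻¹ ∈ E ∧
      e * (x * e * x⁻¹) * (x * (x * e * x⁻¹) * x⁻¹) ∈ V ∧
      e⁻¹ * (x * e * x⁻¹) ∉ V ∧
      ∀ U : Subgroup G, V ≤ U → e ∈ U → x * e * x⁻¹ ∈ U → E ≤ U := by
  have hx3 : x ^ 3 = 1 := hx ▸ pow_orderOf_eq_one x
  set e1 := x * e * x⁻¹ with he1
  have h1 : e1 ∈ E := hE.mem_normalizer_of_mem hxt he
  have h2 : x * e1 * x⁻¹ ∈ E := hE.mem_normalizer_of_mem hxt h1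
  have hfix : ∀ z ∈ V, x * z * x⁻¹ = z := fun z hz => by
    rw [← mem_centralizer_singleton_iff.1 (hV.symm ▸ hz : z ∈ E ⊓ centralizer ({x} : Set G)).2,
      mul_inv_cancel_right]
  have hsum : e * e1 * (x * e1 * x⁻¹) ∈ V := by
    rw [← hV]
    refine ⟨E.mul_mem (E.mul_mem he h1) h2, mem_centralizer_singleton_iff.2 ?_⟩
    have h3 : x * (x * e1 * x⁻¹) * x⁻¹ = e := by
      rw [he1, show x * (x * (x * e * x⁻¹) * x⁻¹) * x⁻¹ = x ^ 3 * e * (x ^ 3)⁻¹ by rw [pow_succ, pow_two]; group, hx3]; group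
    have key : x * (e * e1 * (x * e1 * x⁻¹)) * x⁻¹ = e * e1 * (x * e1 * x⁻¹) := by
      calc x * (e * e1 * (x * e1 * x⁻¹)) * x⁻¹
          = (x * e * x⁻¹) * (x * e1 * x⁻¹) * (x * (x * e1 * x⁻¹) * x⁻¹) := by group
        _ = e1 * (x * e1 * x⁻¹) * e := by rw [h3, ← he1]
        _ = e * e1 * (x * e1 * x⁻¹) := by rw [hE.comm (E.mul_mem h1 h2) he, ← mul_assoc e]
    calc e * e1 * (x * e1 * x⁻¹) * x = x * (e * e1 * (x * e1 * x⁻¹)) * x⁻¹ * x := by rw [key]
      _ = x * (e * e1 * (x * e1 * x⁻¹)) := by group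
  have hnot : e⁻¹ * e1 ∉ V := by
    intro hv
    refine hev ?_
    rw [← hV]
    refine ⟨he, mem_centralizer_singleton_iff.2 ?_⟩
    set v := e⁻¹ * e1 with hvd
    have a1 : x * e * x⁻¹ = e * v := by rw [hvd, ← he1]; group
    have a2 : x * (x * e * x⁻¹) * x⁻¹ = e * v * v := by
      rw [a1, show x * (e * v) * x⁻¹ = (x * e * x⁻¹) * (x * v * x⁻¹) by group, a1, hfix v hv]
    have a3 : x * (x * (x * e * x⁻¹) * x⁻¹) * x⁻¹ = e * v * v * v := by
      rw [a2, show x * (e * v * v) * x⁻¹ = (x * e * x⁻¹) * (x * v * x⁻¹) * (x * v * x⁻¹) by group, a1,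
        hfix v hv]
    rw [show x * (x * (x * e * x⁻¹) * x⁻¹) * x⁻¹ = x ^ 3 * e * (x ^ 3)⁻¹ by rw [pow_succ, pow_two]; group, hx3, one_mul, inv_one,
      mul_one, mul_assoc (e * v), hE.sq v (E.mul_mem (E.inv_mem he) h1), mul_one] at a3
    have hv1 : v = 1 := mul_left_cancel (a3.symm.trans (mul_one e).symm)
    rw [hv1, mul_one] at a1
    calc e * x = x * e * x⁻¹ * x := by rw [a1]
      _ = x * e := by group
  refine ⟨h1, h2, hsum, hnot, fun U hVU heU he1U => ?_⟩
  have hVE : V ≤ E := hV ▸ inf_le_left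
  -- two doublings
  set U1 := V ⊔ zpowers e
  set U2 := U1 ⊔ zpowers e1
  have hU1E : U1 ≤ E := sup_le hVE (zpowers_le.2 he)
  have hU2E : U2 ≤ E := sup_le hU1E (zpowers_le.2 h1)
  have hU2 : U2 ≤ U := sup_le (sup_le hVU (zpowers_le.2 heU)) (zpowers_le.2 he1U)
  have hform : ∀ z ∈ U1, z ∈ V ∨ e⁻¹ * z ∈ V := by
    intro z hz
    have hz' : z ∈ ({w | w ∈ E ∧ (w ∈ V ∨ e⁻¹ * w ∈ V)} : Set G) := by
      let S : Subgroup G :=
        { carrier := {w | w ∈ E ∧ (w ∈ V ∨ e⁻¹ * w ∈ V)}
          one_mem' := ⟨E.one_mem, Or.inl V.one_mem⟩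
          mul_mem' := by
            rintro p q ⟨hp, hp'⟩ ⟨hq, hq'⟩
            refine ⟨E.mul_mem hp hq, ?_⟩
            rcases hp' with hp' | hp' <;> rcases hq' with hq' | hq'
            · exact Or.inl (V.mul_mem hp' hq')
            · right
              rw [show e⁻¹ * (p * q) = p * (e⁻¹ * q) by
                rw [← mul_assoc, hE.comm (E.inv_mem he) hp, mul_assoc]]
              exact V.mul_mem hp' hq'
            · right; rw [← mul_assoc]; exact V.mul_mem hp' hq'
            · left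
              have := V.mul_mem hp' hq'
              rw [show e⁻¹ * p * (e⁻¹ * q) = p * q by
                rw [hE.comm (E.inv_mem he) hp, mul_assoc, ← mul_assoc e⁻¹,
                  inv_eq_of_mul_eq_one_right (hE.sq e he), hE.sq e he, one_mul]] at this
              exact this
          inv_mem' := by
            rintro p ⟨hp, hp'⟩
            rw [show p⁻¹ = p from inv_eq_of_mul_eq_one_right (hE.sq p hp)]
            exact ⟨hp, hp'⟩ }
      exact (sup_le (fun v hv => (⟨hVE hv, Or.inl hv⟩ : v ∈ S))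
        (zpowers_le.2 (show e ∈ S from ⟨he, Or.inr (by rw [inv_mul_cancel]; exact V.one_mem)⟩)) : U1 ≤ S) hz
    exact hz'.2
  have hk1 : 2 * Nat.card V ≤ Nat.card U1 := by
    obtain ⟨k, hk⟩ := Subgroup.card_dvd_of_le (le_sup_left : V ≤ U1)
    have hne : k ≠ 1 := fun e0 => hev (by
      rw [Subgroup.eq_of_le_of_card_ge (le_sup_left : V ≤ U1) (by rw [hk, e0, mul_one])]
      exact mem_sup_right (mem_zpowers e))
    have : 0 < Nat.card U1 := Nat.card_pos
    rw [hk, hV4] at this ⊢
    omega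
  have hk2 : 2 * Nat.card U1 ≤ Nat.card U2 := by
    obtain ⟨k, hk⟩ := Subgroup.card_dvd_of_le (le_sup_left : U1 ≤ U2)
    have he1U1 : e1 ∉ U1 := fun hin => by
      rcases hform e1 hin with hc | hc
      · refine hev ?_
        have := hfix e1 hc
        have e2 : e1 = e := by
          have h' : x * e1 * x⁻¹ = x * e * x⁻¹ := by rw [this, he1]
          exact mul_left_cancel (mul_right_cancel h')
        exact e2 ▸ hc
      · exact hnot hc
    have hne : k ≠ 1 := fun e0 => he1U1 (by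
      rw [Subgroup.eq_of_le_of_card_ge (le_sup_left : U1 ≤ U2) (by rw [hk, e0, mul_one])]
      exact mem_sup_right (mem_zpowers e1))
    have h0 : 0 < Nat.card U2 := Nat.card_pos
    rw [hk] at h0 ⊢
    rcases k with _ | _ | k
    · omega
    · exact absurd rfl hne
    · exact (mul_comm 2 _).le.trans (Nat.mul_le_mul_left _ (by omega))
  rw [← Subgroup.eq_of_le_of_card_ge hU2E (by rw [hE.card]; omega)]
  exact hU2

/-- Commutators of two of the subgroups lie in the fixed part. -/
theorem cm_mem (hE : Sixteen t E) (hF : Sixteen s F) (hEF : E ⊓ F = V) (htV : t ∈ V) (hsV : s ∈ V)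
    {e f : G} (he : e ∈ E) (hf : f ∈ F) : cm e f ∈ V := by
  have h1 : V ≤ E ∧ V ≤ F := ⟨hEF ▸ inf_le_left, hEF ▸ inf_le_right⟩
  rw [← hEF]
  constructor
  · rw [cm, show e * f * e⁻¹ * f⁻¹ = e * (f * e⁻¹ * f⁻¹) by group]
    exact E.mul_mem he (hE.mem_normalizer_of_mem (hF.le_centralizer (h1.2 htV) hf) (E.inv_mem he))
  · exact F.mul_mem (hF.mem_normalizer_of_mem (hE.le_centralizer (h1.1 hsV) he) hf) (F.inv_mem hf)

theorem comm_fixed (hE : Sixteen t E) (hVE : V ≤ E) {e v : G} (he : e ∈ E) (hv : v ∈ V) :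
    e * v * e⁻¹ = v := by
  rw [hE.comm he (hVE hv), mul_inv_cancel_right]

/-- Three pairwise different subgroups on one fixed part are impossible. -/
theorem false_of_three {u : G} {K : Subgroup G} (hE : Sixteen t E) (hF : Sixteen s F) (hK : Sixteen u K)
    (hc : Counts G) (hx : orderOf x = 3) (hxt : x ∈ centralizer ({t} : Set G))
    (hxs : x ∈ centralizer ({s} : Set G))
    (hV : E ⊓ centralizer ({x} : Set G) = V) (hV' : F ⊓ centralizer ({x} : Set G) = V)
    (hEF : E ⊓ F = V) (hEK : E ⊓ K = V) (hFK : F ⊓ K = V) (htV : t ∈ V) (hsV : s ∈ V) (huV : u ∈ V)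
    (hcase : ∀ v ∈ V, v = 1 ∨ v = t ∨ v = s ∨ v = u) : False := by
  have hV4 : Nat.card V = 4 := hV ▸ hE.card_fixed hc hx hxt
  have hVE : V ≤ E := hEF ▸ inf_le_left
  have hVF : V ≤ F := hEF ▸ inf_le_right
  have hVK : V ≤ K := hEK ▸ inf_le_right
  have hout : ∀ {A : Subgroup G}, Nat.card A = 16 → ∃ a ∈ A, a ∉ V := fun {A} hA => by
    by_contra hcon
    push Not at hcon
    have := Subgroup.card_le_of_le (show A ≤ V from hcon)
    omega
  -- linearity in each variable
  have hlinR : ∀ (e a b : G), e ∈ E → (a ∈ F ∨ a ∈ K) → cm e b ∈ V → cm e (a * b) = cm e a * cm e b := by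
    intro e a b _ ha hb
    rw [cm_mul_right]
    congr 1
    rcases ha with ha | ha
    · exact hF.comm_fixed hVF ha hb
    · exact hK.comm_fixed hVK ha hb
  have hlinL : ∀ (e e' f : G), e ∈ E → cm e' f ∈ V → cm (e * e') f = cm e' f * cm e f := by
    intro e e' f he h
    rw [cm_mul_left, hE.comm_fixed hVE he h]
  -- an element whose commutators with the two generators are trivial modulo `t` lies in `E`
  obtain ⟨e0, he0, he0V⟩ := hout hE.card
  obtain ⟨hg1, -, -, -, hgen⟩ := hE.exists_generators hx hxt hV hV4 he0 he0V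
  set e1 := x * e0 * x⁻¹
  have htriv : ∀ h : G, h ∈ centralizer ({t} : Set G) → (∀ e ∈ E, cm e h ∈ V) → (∀ v ∈ V, cm v h = 1) →
      cm e0 h ∈ zpowers t → cm e1 h ∈ zpowers t → h ∈ E := by
    intro h hht hmem hfix h0 h1
    let U : Subgroup G :=
      { carrier := {e | e ∈ E ∧ cm e h ∈ zpowers t}
        one_mem' := ⟨E.one_mem, by simp [cm]⟩
        mul_mem' := fun {a b} ha hb => ⟨E.mul_mem ha.1 hb.1, by
          rw [hlinL a b h ha.1 (hmem b hb.1)]
          exact mul_mem hb.2 ha.2⟩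
        inv_mem' := fun {a} ha => by
          rw [show a⁻¹ = a from inv_eq_of_mul_eq_one_right (hE.sq a ha.1)]
          exact ha }
    have hU : E ≤ U := hgen U (fun v hv => ⟨hVE hv, by rw [hfix v hv]; exact one_mem _⟩) ⟨he0, h0⟩ ⟨hg1, h1⟩
    refine hE.triv h hht fun e he => ?_
    rw [show h * e * h⁻¹ * e⁻¹ = (cm e h)⁻¹ by unfold cm; group]
    exact inv_mem (hU he).2
  -- the third subgroup lies in the product of the first two
  classical
  let τ : G → Bool × Bool := fun f => (decide (cm e0 f ∈ zpowers t), decide (cm e1 f ∈ zpowers t))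
  have htwo : ∀ p ∈ V, ∀ q ∈ V, (p ∈ zpowers t ↔ q ∈ zpowers t) → p * q ∈ zpowers t := by
    intro p hp q hq hiff
    by_cases h : p ∈ zpowers t
    · exact mul_mem h (hiff.1 h)
    have hq' : q ∉ zpowers t := fun h' => h (hiff.2 h')
    have hsub : zpowers t ≤ V := zpowers_le.2 htV
    have hidx : ((zpowers t).subgroupOf V).index = 2 := by
      have hm := ((zpowers t).subgroupOf V).card_mul_index
      rw [Nat.card_congr (subgroupOfEquivOfLe hsub).toEquiv, Nat.card_zpowers, hE.invol, hV4] at hm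
      omega
    exact (mul_mem_iff_of_index_two hidx (a := ⟨p, hp⟩) (b := ⟨q, hq⟩)).2 (iff_of_false h hq')
  have hinv : ∀ v ∈ V, v⁻¹ = v := fun v hv => inv_eq_of_mul_eq_one_right (hE.sq v (hVE hv))
  have hFmem : ∀ e ∈ E, ∀ f ∈ F, cm e f ∈ V := fun e he f hf => hE.cm_mem hF hEF htV hsV he hf
  have hKmem : ∀ e ∈ E, ∀ k ∈ K, cm e k ∈ V := fun e he k hk => hE.cm_mem hK hEK htV huV he hk
  have hdiff : ∀ a f : G, (a ∈ F ∨ a ∈ K) → f ∈ F → τ a = τ f → a * f ∈ E := by
    intro a f ha hf hτ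
    have hcm : ∀ e ∈ E, cm e (a * f) = cm e a * cm e f := fun e he => hlinR e a f he ha (hFmem e he f hf)
    have haV : ∀ e ∈ E, cm e a ∈ V := fun e he => ha.elim (hFmem e he a) (hKmem e he a)
    have hfix : ∀ v ∈ V, cm v (a * f) = 1 := fun v hv => by
      rw [hcm v (hVE hv), cm_eq_one_iff.2 (hF.comm (hVF hv) hf), mul_one, cm_eq_one_iff]
      exact ha.elim (fun h => hF.comm (hVF hv) h) (fun h => hK.comm (hVK hv) h)
    have hτ0 := congrArg Prod.fst hτ
    have hτ1 := congrArg Prod.snd hτ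
    simp only [τ, decide_eq_decide] at hτ0 hτ1
    have hat : a ∈ centralizer ({t} : Set G) :=
      ha.elim (fun h => hF.le_centralizer (hVF htV) h) (fun h => hK.le_centralizer (hVK htV) h)
    refine htriv _ (mul_mem hat (hF.le_centralizer (hVF htV) hf))
      (fun e he => by rw [hcm e he]; exact V.mul_mem (haV e he) (hFmem e he f hf)) hfix ?_ ?_
    · rw [hcm e0 he0]
      exact htwo _ (haV e0 he0) _ (hFmem e0 he0 f hf) hτ0
    · rw [hcm e1 hg1]
      exact htwo _ (haV e1 hg1) _ (hFmem e1 hg1 f hf) hτ1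
  obtain ⟨f0, hf0, hf0V⟩ := hout hF.card
  obtain ⟨hh1, -, -, hfnot, -⟩ := hF.exists_generators hx hxs hV' hV4 hf0 hf0V
  set f1 := x * f0 * x⁻¹
  have hf1V : f1 ∉ V := by
    intro hv
    refine hf0V ?_
    have h := (hV'.symm ▸ hv : f1 ∈ F ⊓ centralizer ({x} : Set G)).2
    have h' := mem_centralizer_singleton_iff.1 h
    have : f1 = f0 := by
      calc f1 = x⁻¹ * (f1 * x) := by rw [h']; group
        _ = f0 := by simp only [f1]; group
    exact this ▸ hv
  have hsurj : ∀ a : G, (a ∈ F ∨ a ∈ K) → ∃ f ∈ F, τ a = τ f := by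
    let rep : Fin 4 → G := ![1, f0, f1, f0 * f1]
    have hrep : ∀ i, rep i ∈ F := by
      intro i; fin_cases i <;> simp [rep, F.one_mem, hf0, hh1, F.mul_mem hf0 hh1]
    have hFi : ∀ a ∈ F, a⁻¹ = a := fun a ha => inv_eq_of_mul_eq_one_right (hF.sq a ha)
    have hdist : ∀ i j, rep i * rep j ∈ V → i = j := by
      intro i j
      have p01 : f0 * f1 ∉ V := by rw [← hFi f0 hf0]; exact hfnot
      have p10 : f1 * f0 ∉ V := by rw [hF.comm hh1 hf0]; exact p01
      have q0 : f0 * (f0 * f1) = f1 := by rw [← mul_assoc, hF.sq f0 hf0, one_mul]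
      have q1 : f1 * (f0 * f1) = f0 := by rw [hF.comm hf0 hh1, ← mul_assoc, hF.sq f1 hh1, one_mul]
      have q0' : f0 * f1 * f0 = f1 := by rw [hF.comm hf0 hh1, mul_assoc, hF.sq f0 hf0, mul_one]
      have q1' : f0 * f1 * f1 = f0 := by rw [mul_assoc, hF.sq f1 hh1, mul_one]
      fin_cases i <;> fin_cases j <;>
        simp [rep, hf0V, hf1V, p01, p10, q0, q1, q0', q1']
    have hinj : Function.Injective (fun i => τ (rep i)) := by
      intro i j e
      refine hdist i j ?_
      rw [← hEF]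
      exact ⟨hdiff _ _ (Or.inl (hrep i)) (hrep j) e, F.mul_mem (hrep i) (hrep j)⟩
    have hbij := (Fintype.bijective_iff_injective_and_card _).2 ⟨hinj, by decide⟩
    intro a _
    obtain ⟨i, hi⟩ := hbij.2 (τ a)
    exact ⟨rep i, hrep i, hi.symm⟩
  have hprod : ∀ k ∈ K, ∃ e ∈ E, ∃ f ∈ F, k = e * f := by
    intro k hk
    obtain ⟨f, hf, hτ⟩ := hsurj k (Or.inr hk)
    exact ⟨k * f, hdiff k f (Or.inr hk) hf hτ, f, hf, by rw [mul_assoc, hF.sq f hf, mul_one]⟩
  -- commuting elements outside the fixed part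
  obtain ⟨k, hk, hkV⟩ := hout hK.card
  obtain ⟨e, he, f, hf, rfl⟩ := hprod k hk
  have heV : e ∉ V := fun hv => hkV (V.mul_mem hv (by
    rw [← hFK]
    refine ⟨hf, ?_⟩
    have := K.mul_mem (K.inv_mem (hVK hv)) hk
    rwa [inv_mul_cancel_left] at this))
  have hfV : f ∉ V := fun hv => hkV (V.mul_mem (by
    rw [← hEK]
    refine ⟨he, ?_⟩
    have := K.mul_mem hk (K.inv_mem (hVK hv))
    rwa [mul_inv_cancel_right] at this) hv)
  have hef : e * f = f * e := by
    have h1 := hK.sq _ hk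
    calc e * f = (e * f)⁻¹ := (inv_eq_of_mul_eq_one_right h1).symm
      _ = f * e := by rw [mul_inv_rev, inv_eq_of_mul_eq_one_right (hE.sq e he),
        inv_eq_of_mul_eq_one_right (hF.sq f hf)]
  obtain ⟨he1', he2', hesum, -, hgenE⟩ := hE.exists_generators hx hxt hV hV4 he heV
  obtain ⟨hf1', hf2', hfsum, -, hgenF⟩ := hF.exists_generators hx hxs hV' hV4 hf hfV
  set ea := x * e * x⁻¹
  set fa := x * f * x⁻¹
  set eb := x * ea * x⁻¹
  set fb := x * fa * x⁻¹
  have hcmx : ∀ a b : G, a * b = b * a → cm (x * a * x⁻¹) (x * b * x⁻¹) = 1 := by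
    intro a b hab
    rw [cm_eq_one_iff, show x * a * x⁻¹ * (x * b * x⁻¹) = x * (a * b) * x⁻¹ by group, hab]
    group
  have h00 : cm e f = 1 := cm_eq_one_iff.2 hef
  have h11 : cm ea fa = 1 := hcmx e f hef
  have h22 : cm eb fb = 1 := hcmx ea fa (cm_eq_one_iff.1 h11)
  have hcv : ∀ v ∈ V, ∀ g ∈ F, cm v g = 1 := fun v hv g hg => cm_eq_one_iff.2 (hF.comm (hVF hv) hg)
  have hcv' : ∀ v ∈ V, ∀ g ∈ E, cm g v = 1 := fun v hv g hg => cm_eq_one_iff.2 (hE.comm hg (hVE hv))
  have hEi : ∀ a ∈ E, a⁻¹ = a := fun a ha => inv_eq_of_mul_eq_one_right (hE.sq a ha)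
  have hFi : ∀ a ∈ F, a⁻¹ = a := fun a ha => inv_eq_of_mul_eq_one_right (hF.sq a ha)
  have heb : ∀ g ∈ F, cm eb g = cm ea g * cm e g := by
    intro g hg
    have heq : eb = (e * ea) * (e * ea * eb) := by
      rw [← mul_assoc (e * ea), hE.sq _ (E.mul_mem he he1'), one_mul]
    rw [heq, hlinL _ _ g (E.mul_mem he he1') (by rw [hcv _ hesum g hg]; exact V.one_mem), hcv _ hesum g hg,
      one_mul, hlinL e ea g he (hFmem ea he1' g hg)]
  have hfb : ∀ a ∈ E, cm a fb = cm a f * cm a fa := by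
    intro a ha
    have heq : fb = (f * fa) * (f * fa * fb) := by
      rw [← mul_assoc (f * fa), hF.sq _ (F.mul_mem hf hf1'), one_mul]
    rw [heq, hlinR a _ _ ha (Or.inl (F.mul_mem hf hf1')) (by rw [hcv' _ hfsum a ha]; exact V.one_mem),
      hcv' _ hfsum a ha, mul_one, hlinR a f fa ha (Or.inl hf) (hFmem a ha fa hf1')]
  set a := cm e fa
  have haV : a ∈ V := hFmem e he fa hf1'
  have hba : cm ea f = a := by
    rw [heb fb hf2', hfb ea he1', hfb e he, h00, h11, mul_one, one_mul] at h22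
    rw [← hinv a haV]
    exact eq_inv_of_mul_eq_one_left h22
  -- all commutators are powers of one element
  have hall : ∀ p ∈ E, ∀ q ∈ F, cm p q ∈ zpowers a := by
    have hrow : ∀ p ∈ E, cm p f ∈ zpowers a → cm p fa ∈ zpowers a → ∀ q ∈ F, cm p q ∈ zpowers a := by
      intro p hp h1 h2
      let U : Subgroup G :=
        { carrier := {q | q ∈ F ∧ cm p q ∈ zpowers a}
          one_mem' := ⟨F.one_mem, by simp [cm]⟩
          mul_mem' := fun {c d} hc' hd => ⟨F.mul_mem hc'.1 hd.1, by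
            rw [hlinR p c d hp (Or.inl hc'.1) (hFmem p hp d hd.1)]
            exact mul_mem hc'.2 hd.2⟩
          inv_mem' := fun {c} hc' => by rw [hFi c hc'.1]; exact hc' }
      have hU : F ≤ U := hgenF U (fun v hv => ⟨hVF hv, by rw [hcv' v hv p hp]; exact one_mem _⟩)
        ⟨hf, h1⟩ ⟨hf1', h2⟩
      exact fun q hq => (hU hq).2
    have hre := hrow e he (by rw [h00]; exact one_mem _) (mem_zpowers a)
    have hra := hrow ea he1' (by rw [hba]; exact mem_zpowers a) (by rw [h11]; exact one_mem _)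
    intro p hp q hq
    let U : Subgroup G :=
      { carrier := {p | p ∈ E ∧ cm p q ∈ zpowers a}
        one_mem' := ⟨E.one_mem, by simp [cm]⟩
        mul_mem' := fun {c d} hc' hd => ⟨E.mul_mem hc'.1 hd.1, by
          rw [hlinL c d q hc'.1 (hFmem d hd.1 q hq)]
          exact mul_mem hd.2 hc'.2⟩
        inv_mem' := fun {c} hc' => by rw [hEi c hc'.1]; exact hc' }
    have hU : E ≤ U := hgenE U (fun v hv => ⟨hVE hv, by rw [hcv v hv q hq]; exact one_mem _⟩)
      ⟨he, hre q hq⟩ ⟨he1', hra q hq⟩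
    exact (hU hp).2
  have hle : ∀ {v : G}, v ∈ V → a = 1 ∨ a = v → ∀ p ∈ E, ∀ q ∈ F, cm p q ∈ zpowers v := by
    intro v _ hav p hp q hq
    refine (zpowers_le.2 ?_ : zpowers a ≤ zpowers v) (hall p hp q hq)
    rcases hav with h | h <;> rw [h]
    · exact one_mem _
    · exact mem_zpowers v
  rcases hcase a haV with hav | hav | hav | hav
  · -- trivial commutators
    refine hfV (hEF ▸ ⟨hE.cent (mem_centralizer_iff.2 fun p hp => cm_eq_one_iff.1 ?_), hf⟩)
    have := hall p hp f hf
    rw [hav, zpowers_one_eq_bot, Subgroup.mem_bot] at this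
    exact this
  · refine hfV (hEF ▸ ⟨hE.triv f (hF.le_centralizer (hVF htV) hf) fun p hp => ?_, hf⟩)
    rw [show f * p * f⁻¹ * p⁻¹ = (cm p f)⁻¹ by unfold cm; group]
    exact inv_mem (hle htV (Or.inr hav) p hp f hf)
  · refine heV (hEF ▸ ⟨he, hF.triv e (hE.le_centralizer (hVE hsV) he) fun q hq => ?_⟩)
    exact hle hsV (Or.inr hav) e he q hq
  · -- then the third subgroup absorbs the first
    refine heV (hEK ▸ ⟨he, hK.triv e (hE.le_centralizer (hVE huV) he) fun k' hk' => ?_⟩)
    obtain ⟨p, hp, q, hq, rfl⟩ := hprod k' hk'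
    have h1 := hlinR e (p * q) 1 he (Or.inr hk') (by simp [cm])
    show cm e (p * q) ∈ zpowers u
    rw [cm_mul_right, cm_eq_one_iff.2 (hE.comm he hp), one_mul,
      hE.comm_fixed hVE hp (hFmem e he q hq)]
    exact hle huV (Or.inr hav) e he q hq

end Sixteen

namespace Counts

variable (hc : Counts G)
include hc

/-- Two involutions share their subgroup of order 16. -/
theorem exists_pair : ∃ t s E, t ≠ s ∧ Sixteen t E ∧ Sixteen (G := G) s E := by
  by_contra hcon
  push Not at hcon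
  have : Fact (Nat.Prime 2) := ⟨Nat.prime_two⟩
  have : Fact (Nat.Prime 3) := ⟨by norm_num⟩
  obtain ⟨t, ht⟩ := exists_prime_orderOf_dvd_card' (G := G) 2 (by rw [hc.card]; norm_num)
  obtain ⟨⟨x, hxt⟩, hx⟩ := exists_prime_orderOf_dvd_card' 3
    (show 3 ∣ Nat.card (centralizer ({t} : Set G)) by rw [hc.centralizer_two t ht]; norm_num)
  rw [Subgroup.orderOf_mk] at hx
  obtain ⟨E, hE⟩ := hc.exists_sixteen ht
  set V := E ⊓ centralizer ({x} : Set G) with hVdef
  have hV4 : Nat.card V = 4 := hE.card_fixed hc hx hxt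
  have htV : t ∈ V := ⟨hE.mem, mem_centralizer_singleton_iff.2 (mem_centralizer_singleton_iff.1 hxt).symm⟩
  obtain ⟨s, hsV, hs⟩ : ∃ s ∈ V, s ∉ zpowers t := by
    by_contra h'
    push Not at h'
    have := Subgroup.card_le_of_le (show V ≤ zpowers t from h')
    rw [hV4, Nat.card_zpowers, ht] at this
    omega
  have hs1 : s ≠ 1 := fun e => hs (e ▸ one_mem _)
  have hso : orderOf s = 2 := orderOf_eq_prime (by rw [pow_two, hE.sq s hsV.1]) hs1
  have hts : t ≠ s := fun e => hs (e ▸ mem_zpowers t)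
  set u := t * s with hu
  have huV : u ∈ V := V.mul_mem htV hsV
  have hut : u ≠ t := fun e => hs1 (mul_left_cancel (e.trans (mul_one t).symm))
  have hus : u ≠ s := fun e => by
    have h1 : t = 1 := mul_right_cancel (e.trans (one_mul s).symm)
    rw [h1, orderOf_one] at ht
    omega
  have hu1 : u ≠ 1 := fun e => hts ((inv_eq_of_mul_eq_one_right e).symm.trans
    (inv_eq_of_mul_eq_one_right (hE.sq t hE.mem))).symm
  have huo : orderOf u = 2 := orderOf_eq_prime (by rw [pow_two, hE.sq u huV.1]) hu1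
  obtain ⟨F, hF⟩ := hc.exists_sixteen hso
  obtain ⟨K, hK⟩ := hc.exists_sixteen huo
  have hVF := hE.fixed_eq hF hc hx hxt hsV
  have hVK := hE.fixed_eq hK hc hx hxt huV
  have hxs : x ∈ centralizer ({s} : Set G) :=
    mem_centralizer_singleton_iff.2 (mem_centralizer_singleton_iff.1 hsV.2).symm
  have hxu : x ∈ centralizer ({u} : Set G) :=
    mem_centralizer_singleton_iff.2 (mem_centralizer_singleton_iff.1 huV.2).symm
  have hEF : E ≠ F := fun e => hcon t s E hts hE (e ▸ hF)
  have hEK : E ≠ K := fun e => hcon t u E hut.symm hE (e ▸ hK)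
  have hFK : F ≠ K := fun e => hcon s u F hus.symm hF (e ▸ hK)
  refine hE.false_of_three hF hK hc hx hxt hxs rfl hVF (hE.inf_eq hF hEF hx hxt hxs rfl hVF hV4)
    (hE.inf_eq hK hEK hx hxt hxu rfl hVK hV4) (hF.inf_eq hK hFK hx hxs hxu hVF hVK hV4) htV hsV huV ?_
  intro v hv
  have hT : zpowers t ≤ V := zpowers_le.2 htV
  have hidx : ((zpowers t).subgroupOf V).index = 2 := by
    have hm := ((zpowers t).subgroupOf V).card_mul_index
    rw [Nat.card_congr (subgroupOfEquivOfLe hT).toEquiv, Nat.card_zpowers, ht, hV4] at hm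
    omega
  by_cases hvT : v ∈ zpowers t
  · exact (hE.mem_cases hvT).elim Or.inl fun e => Or.inr (Or.inl e)
  have h := (mul_mem_iff_of_index_two hidx (a := ⟨v, hv⟩) (b := ⟨s, hsV⟩)).2 (iff_of_false hvT hs)
  rcases hE.mem_cases (show v * s ∈ zpowers t from h) with e | e
  · right; right; left
    calc v = v * (s * s) := by rw [hE.sq s hsV.1, mul_one]
      _ = s := by rw [← mul_assoc, e, one_mul]
  · right; right; right
    calc v = v * (s * s) := by rw [hE.sq s hsV.1, mul_one]
      _ = u := by rw [← mul_assoc, e]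

/-- The subgroup of order 16 with its normaliser. -/
theorem exists_local : ∃ E : Subgroup G, Local E := by
  obtain ⟨t, s, E, hts, hE, hF⟩ := hc.exists_pair
  set N := normalizer (E : Set G)
  have hCt : centralizer ({t} : Set G) ≤ N := hE.le_normalizer
  have hCs : centralizer ({s} : Set G) ≤ N := hF.le_normalizer
  -- the orbit of the involution
  set O := {w // ∃ c ∈ N, c * t * c⁻¹ = w}
  have hm := card_conjugates_mul N t
  rw [inf_eq_right.2 hCt, hc.centralizer_two t hE.invol] at hm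
  have hO15 : Nat.card O ≤ 15 := by
    have h15 : Nat.card {e : G // e ∈ E ∧ e ≠ 1} = 15 := by
      have h : ({e : G | e ∈ E ∧ e ≠ 1}) = (E : Set G) \ {1} := by ext e; simp
      rw [← Set.coe_setOf, Nat.card_coe_set_eq, h, Set.ncard_sdiff_singleton_of_mem E.one_mem,
        ← Nat.card_coe_set_eq, SetLike.coe_sort_coe, hE.card]
    rw [← h15]
    refine Nat.card_le_card_of_injective
      (fun w : O => (⟨w.1, ?_⟩ : {e : G // e ∈ E ∧ e ≠ 1}))
      fun a b h => Subtype.ext (by have e := congrArg Subtype.val h; exact e)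
    obtain ⟨c, hc', e⟩ := w.2
    rw [← e]
    refine ⟨(mem_normalizer_iff.1 hc' t).1 hE.mem, fun h => ?_⟩
    rw [conj_eq_one_iff] at h
    exact absurd (h ▸ hE.invol) (by rw [orderOf_one]; norm_num)
  have hO3795 : Nat.card O ∣ 3795 := by
    have := Subgroup.card_subgroup_dvd_card N
    rw [← hm, hc.card] at this
    exact Nat.dvd_of_mul_dvd_mul_right (by norm_num) (show Nat.card O * 2688 ∣ 3795 * 2688 by norm_num; exact this)
  have hdiv := Nat.mem_divisors.2 ⟨hO3795, by norm_num⟩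
  have hO : Nat.card O = 1 ∨ Nat.card O = 3 ∨ Nat.card O = 5 ∨ Nat.card O = 11 ∨ Nat.card O = 15 := by
    have key : ∀ d ∈ (3795 : ℕ).divisors, d ≤ 15 → d = 1 ∨ d = 3 ∨ d = 5 ∨ d = 11 ∨ d = 15 := by
      decide +kernel
    exact key _ hdiv hO15
  -- an element of order seven commutes with one involution only
  have hsame : ∀ w ∈ E, w ≠ 1 → w ≠ t →
      ¬ 7 ∣ Nat.card (centralizer ({t} : Set G) ⊓ centralizer ({w} : Set G) : Subgroup G) := by
    intro w hw hw1 hwt h7
    have : Fact (Nat.Prime 7) := ⟨by norm_num⟩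
    obtain ⟨⟨y, hy⟩, hyo⟩ := exists_prime_orderOf_dvd_card' 7 h7
    rw [Subgroup.orderOf_mk] at hyo
    have hC := hc.centHyp hE.invol
    have hwC : w ∈ centralizer ({t} : Set G) := hE.le_centralizer hE.mem hw
    have hmem := hC.eq_of_involution (y := ⟨y, hy.1⟩) (r := ⟨w, hwC⟩) (by rw [Subgroup.orderOf_mk]; exact hyo)
      (Subtype.ext (hE.sq w hw))
      (mem_centralizer_singleton_iff.2 (Subtype.ext (mem_centralizer_singleton_iff.1 hy.2).symm))
    rcases (hC.mem_zpowers_iff').1 hmem with e | e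
    · exact hw1 (congrArg Subtype.val e)
    · exact hwt (congrArg Subtype.val e)
  have hbig : ∀ w ∈ E, w ≠ 1 → w ≠ t → (∃ c ∈ N, c * t * c⁻¹ = w) → 7 ≤ Nat.card O := by
    intro w hw hw1 hwt hwO
    have hm' := card_conjugates_mul (centralizer ({t} : Set G)) w
    rw [hc.centralizer_two t hE.invol] at hm'
    have h7 : 7 ∣ Nat.card {v // ∃ c ∈ centralizer ({t} : Set G), c * w * c⁻¹ = v} :=
      ((Nat.Prime.dvd_mul (by norm_num)).1 (hm' ▸ by norm_num)).resolve_right (hsame w hw hw1 hwt)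
    have hpos : 0 < Nat.card {v // ∃ c ∈ centralizer ({t} : Set G), c * w * c⁻¹ = v} := by
      haveI : Nonempty {v // ∃ c ∈ centralizer ({t} : Set G), c * w * c⁻¹ = v} :=
        ⟨⟨w, 1, one_mem _, by group⟩⟩
      exact Nat.card_pos
    refine (Nat.le_of_dvd hpos h7).trans (Nat.card_le_card_of_injective
      (fun v : {v // ∃ c ∈ centralizer ({t} : Set G), c * w * c⁻¹ = v} => (⟨v.1, ?_⟩ : O))
      fun a b h => Subtype.ext (by have e := congrArg Subtype.val h; exact e))
    obtain ⟨c, hc', e⟩ := v.2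
    obtain ⟨d, hd, e'⟩ := hwO
    exact ⟨c * d, mul_mem (hCt hc') hd, by rw [← e, ← e']; group⟩
  have hN : Nat.card O = 15 := by
    have hs_ne : s ≠ 1 := fun e => absurd hF.invol (by rw [e, orderOf_one]; norm_num)
    by_cases hone : Nat.card O = 1
    · exfalso
      rw [hone, one_mul] at hm
      have e1 : centralizer ({t} : Set G) = N := Subgroup.eq_of_le_of_card_ge hCt (by
        rw [hc.centralizer_two t hE.invol, hm])
      have e2 : centralizer ({s} : Set G) = N := Subgroup.eq_of_le_of_card_ge hCs (by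
        rw [hc.centralizer_two s hF.invol, hm])
      refine hsame s hF.mem hs_ne hts.symm ?_
      rw [e1, e2, inf_idem, ← hm]
      norm_num
    obtain ⟨w, c, hc', hw, hwt⟩ : ∃ w, ∃ c ∈ N, c * t * c⁻¹ = w ∧ w ≠ t := by
      by_contra h'
      push Not at h'
      refine hone ?_
      rw [Nat.card_eq_one_iff_unique]
      exact ⟨⟨fun a b => Subtype.ext (by
        obtain ⟨c, hc1, e1⟩ := a.2
        obtain ⟨d, hd1, e2⟩ := b.2
        rw [h' a.1 c hc1 e1, h' b.1 d hd1 e2])⟩, ⟨⟨t, 1, one_mem _, by group⟩⟩⟩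
    have hwE : w ∈ E := hw ▸ (mem_normalizer_iff.1 hc' t).1 hE.mem
    have hw1 : w ≠ 1 := fun e => by
      rw [← hw, conj_eq_one_iff] at e
      exact absurd (e ▸ hE.invol) (by rw [orderOf_one]; norm_num)
    have h7 := hbig w hwE hw1 hwt ⟨c, hc', hw⟩
    rcases hO with h | h | h | h | h
    · omega
    · omega
    · omega
    · -- an element of order eleven would fix a non-trivial element
      exfalso
      have : Fact (Nat.Prime 11) := ⟨by norm_num⟩
      obtain ⟨⟨z, hz⟩, hzo⟩ := exists_prime_orderOf_dvd_card' 11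
        (show 11 ∣ Nat.card N by rw [← hm, h]; norm_num)
      rw [Subgroup.orderOf_mk] at hzo
      have hp : IsPGroup 11 (zpowers z) := IsPGroup.of_card (n := 1) (by rw [Nat.card_zpowers, hzo, pow_one])
      have hmod := CfsgLib.Order7920.card_modEq_card_inf_centralizer hp (zpowers_le.2 hz)
      rw [hE.card, Nat.ModEq] at hmod
      set C := E ⊓ centralizer (zpowers z : Set G)
      obtain ⟨e, heC, he1⟩ := C.bot_or_exists_ne_one.resolve_left fun hb => by
        rw [hb, Subgroup.card_bot] at hmod; omega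
      have heo : orderOf e = 2 := orderOf_eq_prime (p := 2) (by rw [pow_two, hE.sq e heC.1]) he1
      have hze : z ∈ centralizer ({e} : Set G) :=
        mem_centralizer_singleton_iff.2 (mem_centralizer_iff.1 heC.2 z (mem_zpowers z))
      have := orderOf_dvd_natCard (⟨z, hze⟩ : centralizer ({e} : Set G))
      rw [Subgroup.orderOf_mk, hzo, hc.centralizer_two e heo] at this
      norm_num at this
    · exact h
  have hcardN : Nat.card N = 40320 := by rw [← hm, hN]
  refine ⟨E, hc.card, hE.card, hE.sq, hE.cent, hcardN, fun w hw hw1 =>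
    hc.centralizer_two w (orderOf_eq_prime (p := 2) (by rw [pow_two, hE.sq w hw]) hw1), fun w hw hw1 => ?_,
    hc.centralizer_seven⟩
  -- transitivity gives the containment of all centralisers
  have hsurj : ∃ c ∈ N, c * t * c⁻¹ = w := by
    have h15 : Nat.card {e : G // e ∈ E ∧ e ≠ 1} = 15 := by
      have h : ({e : G | e ∈ E ∧ e ≠ 1}) = (E : Set G) \ {1} := by ext e; simp
      rw [← Set.coe_setOf, Nat.card_coe_set_eq, h, Set.ncard_sdiff_singleton_of_mem E.one_mem,
        ← Nat.card_coe_set_eq, SetLike.coe_sort_coe, hE.card]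
    let f : O → {e : G // e ∈ E ∧ e ≠ 1} := fun v => ⟨v.1, by
      obtain ⟨c, hc', e⟩ := v.2
      rw [← e]
      refine ⟨(mem_normalizer_iff.1 hc' t).1 hE.mem, fun h => ?_⟩
      rw [conj_eq_one_iff] at h
      exact absurd (h ▸ hE.invol) (by rw [orderOf_one]; norm_num)⟩
    have hf : Function.Bijective f := (Nat.bijective_iff_injective_and_card f).2
      ⟨fun a b h => by have e := congrArg Subtype.val h; exact Subtype.ext e, by rw [h15, hN]⟩
    obtain ⟨⟨v, c, hc', hv⟩, e⟩ := hf.2 ⟨w, hw, hw1⟩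
    exact ⟨c, hc', hv.trans (congrArg Subtype.val e)⟩
  obtain ⟨c, hc', rfl⟩ := hsurj
  rw [centralizer_conjS]
  intro z hz
  have h1 := hCt (mem_conjS.1 hz)
  have := mul_mem (mul_mem hc' h1) (inv_mem hc')
  rwa [show c * (c⁻¹ * z * c) * c⁻¹ = z by group] at this

end Counts

end CfsgLib.MathieuTwentyThree
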