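import Cfsg.Agent.Lib.MathieuTwentyThree.LocalData
import Cfsg.Agent.Lib.MathieuTwentyThree.BlockAction

/-!
A simple group with the centraliser orders of the Mathieu group of degree twenty-three is that group.
-/

set_option autoImplicit false

namespace CfsgLib.MathieuTwentyThree

variable {G : Type*} [Group G] [Finite G]

theorem nonempty_equiv_of_counts [IsSimpleGroup G] (hc : Counts G) : Nonempty (G ≃* Cfsg.Spor.M23) := by
  obtain ⟨E, hE⟩ := hc.exists_local
  exact nonempty_equiv_of_local hE

end CfsgLib.MathieuTwentyThree
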