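import Cfsg.Agent.Lib.Recog.OrderCounts

/-!
The numbers of elements of a given order in the Mathieu group of degree twenty-three.
-/

set_option autoImplicit false

namespace CfsgLib.MathieuTwentyThree

/-- The numbers of elements of a given order. -/
def Value (v : ℕ) : Prop :=
  v = 1 ∨ v = 3795 ∨ v = 56672 ∨ v = 318780 ∨ v = 680064 ∨ v = 850080 ∨ v = 1457280 ∨ v = 1275120 ∨
    v = 1854720 ∨ v = 1360128 ∨ v = 887040

end CfsgLib.MathieuTwentyThree
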