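import Cfsg.Agent.Lib.MathieuTwentyThree.ModelData
import Cfsg.Agent.Lib.MathieuTwentyThree.ReduceValues
import Cfsg.Agent.Lib.Golay.Dodecad
import Cfsg.Agent.Lib.Golay.Orbits
import Cfsg.Agent.Lib.Golay.Mathieu

/-!
The numbers of elements of each order in the Mathieu group of degree twenty-three, from a checked tree of cosets
of pointwise stabilisers.
-/

set_option autoImplicit false
set_option maxRecDepth 20000

namespace CfsgLib.MathieuTwentyThree.Model

open Cfsg CfsgLib.Golay

/-- The image list satisfies the constraints. -/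
def sat (c : Cons) (l : List ℕ) : Bool := c.all fun p => Nat.beq (l.getD p.1 0) p.2

/-- The number of elements of an order with given images. -/
noncomputable def cnt (c : Cons) (n : ℕ) : ℕ :=
  Nat.card {σ : Equiv.Perm GolayPt // (σ ∈ M24 ∧ sat c (toList σ) = true) ∧ orderOf σ = n}

/-- Search for the order of an image list. -/
def ordAux (l : List ℕ) : ℕ → List ℕ → ℕ → ℕ
  | 0, _, _ => 0
  | fuel + 1, cur, k => if cur == List.range 24 then k else ordAux l fuel (comp cur l) (k + 1)

/-- The order of an image list, at most 23. -/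
def ordL (l : List ℕ) : ℕ := ordAux l 23 l 1

theorem ordAux_spec (σ : Equiv.Perm GolayPt) : ∀ (fuel : ℕ) (k : ℕ), 0 < k →
    (∀ j, 0 < j → j < k → σ ^ j ≠ 1) → ∀ n, ordAux (toList σ) fuel (toList (σ ^ k)) k = n → n ≠ 0 →
      orderOf σ = n ∧ n < k + fuel
  | 0, _, _, _, n, h, hn => absurd h.symm hn
  | fuel + 1, k, hk, hlt, n, h, hn => by
    rw [ordAux] at h
    by_cases e : (toList (σ ^ k) == List.range 24) = true
    · rw [if_pos e] at h
      subst h
      rw [beq_iff_eq, ← toList_one] at e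
      refine ⟨(orderOf_eq_iff hk).2 ⟨toList_injective e, fun j hj hj0 => hlt j hj0 hj⟩, by omega⟩
    · rw [if_neg e, ← toList_mul, ← pow_succ] at h
      have hne : σ ^ k ≠ 1 := fun e1 => e (by rw [e1, toList_one]; simp)
      obtain ⟨h1, h2⟩ := ordAux_spec σ fuel (k + 1) (by omega)
        (fun j hj0 hj => if hjk : j = k then hjk ▸ hne else hlt j hj0 (by omega)) n h hn
      exact ⟨h1, by omega⟩

theorem ordL_spec {σ : Equiv.Perm GolayPt} (h : ordL (toList σ) ≠ 0) :
    orderOf σ = ordL (toList σ) ∧ orderOf σ < 24 := by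
  obtain ⟨h1, h2⟩ := ordAux_spec σ 23 1 one_pos (fun j hj hj' => absurd hj' (by omega)) (ordL (toList σ))
    (by rw [pow_one]; rfl) h
  exact ⟨h1, by omega⟩

/-- The candidates of a leaf. -/
def cands (c : Cons) (ai b : List ℕ) : List (List ℕ) :=
  (fiveList.map fun l => comp b (comp l ai)).filter (sat c)

/-- The check of a leaf. -/
def leafOK (c : Cons) (h a ai b : List ℕ) : Bool :=
  genOK a && genOK ai && genOK b && (comp a ai == List.range 24) &&
    ((basePos.take 5).all fun q => c.contains (a.getD q 0, b.getD q 0)) &&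
    decide (cands c ai b).Nodup &&
    let os := (cands c ai b).map ordL
    os.all (fun o => !(Nat.beq o 0)) && Nat.beq h.length 24 &&
      (List.range 24).all fun n => Nat.beq (h.getD n 0) (os.count n)

/-- The images covered at a node. -/
def covered (br : List (ℕ × List (List ℕ) × ℕ)) : List ℕ :=
  br.flatMap fun e => e.1 :: e.2.1.map fun g => g.getD e.1 0

/-- The check of a node at position `i`. -/
def nodeOK (T : List (Cons × List ℕ × Step)) (i : ℕ) (c : Cons) (h : List ℕ) (x : ℕ)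
    (br : List (ℕ × List (List ℕ) × ℕ)) : Bool :=
  Nat.blt x 24 && decide (covered br).Nodup && (covered br).all (fun y => Nat.blt y 24) &&
    ((List.range 24).all fun y => (c.any fun p => Nat.beq p.2 y && !(Nat.beq p.1 x) && Nat.blt p.1 24) ||
      (covered br).contains y) &&
    (br.all fun e => Nat.blt e.2.2 i && ((T.getD e.2.2 ([], [], .node 0 [])).1 == c ++ [(x, e.1)]) &&
      Nat.beq (T.getD e.2.2 ([], [], .node 0 [])).2.1.length 24 &&
      e.2.1.all fun g => genOK g && Nat.beq (g.getD x 0) x &&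
        c.all fun p => Nat.beq (g.getD p.1 0) p.1 && Nat.beq (g.getD p.2 0) p.2 && Nat.blt p.1 24) &&
    Nat.beq h.length 24 &&
    (List.range 24).all fun n => Nat.beq (h.getD n 0)
      ((br.map fun e => (e.2.1.length + 1) * (T.getD e.2.2 ([], [], .node 0 [])).2.1.getD n 0).sum)

/-- The check of an entry. -/
def entryOK (T : List (Cons × List ℕ × Step)) (i : ℕ) : Bool :=
  match T.getD i ([], [], .node 0 []) with
  | (c, h, .leaf a ai b) => leafOK c h a ai b
  | (c, h, .node x br) => nodeOK T i c h x br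

theorem fiveList_subset : ∀ l ∈ fiveList, l ∈ stab5Lists := by decide +kernel

theorem subset_fiveList : ∀ l ∈ stab5Lists, l ∈ fiveList := by decide +kernel

/-- Positions below 24 are positions of points. -/
theorem exists_idx {a : ℕ} (ha : a < 24) : ∃ p : GolayPt, (idx p).val = a :=
  ⟨pt ⟨a, ha⟩, by rw [idx_pt]⟩

theorem getD_mul (σ τ : Equiv.Perm GolayPt) {a : ℕ} (ha : a < 24) :
    (toList (σ * τ)).getD a 0 = (toList σ).getD ((toList τ).getD a 0) 0 := by
  obtain ⟨p, rfl⟩ := exists_idx ha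
  rw [toList_getD, toList_getD, toList_getD, Equiv.Perm.mul_apply]

theorem getD_lt (σ : Equiv.Perm GolayPt) {a : ℕ} (ha : a < 24) : (toList σ).getD a 0 < 24 := by
  obtain ⟨p, rfl⟩ := exists_idx ha
  rw [toList_getD]; exact Fin.isLt _

theorem getD_inv (σ : Equiv.Perm GolayPt) {a : ℕ} (ha : a < 24) :
    (toList σ⁻¹).getD ((toList σ).getD a 0) 0 = a := by
  rw [← getD_mul σ⁻¹ σ ha, inv_mul_cancel, toList_one, List.getD_eq_getElem _ _ (by simpa using ha)]
  simp

theorem cnt_leaf {c : Cons} {h a ai b : List ℕ} (hok : leafOK c h a ai b = true) (n : ℕ) :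
    cnt c n = h.getD n 0 := by
  simp only [leafOK, Bool.and_eq_true, List.all_eq_true, decide_eq_true_eq, beq_iff_eq, Nat.beq_eq,
    Bool.not_eq_true', List.contains_iff_mem, ← Bool.not_eq_true] at hok
  obtain ⟨⟨⟨⟨⟨⟨hga, hgai⟩, hgb⟩, hcomp⟩, hbase⟩, hnd⟩, ⟨hos, hlen⟩, hh⟩ := hok
  obtain ⟨A, hA, rfl⟩ := exists_perm hga
  obtain ⟨A', hA', rfl⟩ := exists_perm hgai
  obtain ⟨B, hB, rfl⟩ := exists_perm hgb
  rw [← toList_mul, ← toList_one] at hcomp
  obtain rfl : A' = A⁻¹ := (mul_eq_one_iff_inv_eq.1 (toList_injective hcomp)).symm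
  have hmem : ∀ l, l ∈ cands c (toList A⁻¹) (toList B) ↔
      ∃ σ, (σ ∈ M24 ∧ sat c (toList σ) = true) ∧ toList σ = l := by
    intro l
    simp only [cands, List.mem_filter, List.mem_map]
    constructor
    · rintro ⟨⟨l', hl', rfl⟩, hs⟩
      obtain ⟨S, hS, rfl⟩ := exists_of_mem_stab5Lists (fiveList_subset l' hl')
      rw [← toList_mul, ← toList_mul] at hs ⊢
      exact ⟨_, ⟨mul_mem hB (mul_mem (mem_fixPts.1 hS).1 hA'), hs⟩, rfl⟩
    · rintro ⟨σ, ⟨hσ, hs⟩, rfl⟩
      refine ⟨⟨toList (B⁻¹ * σ * A), subset_fiveList _ (toList_mem_stab5 ?_), ?_⟩, hs⟩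
      · refine mem_fixPts.2 ⟨mul_mem (mul_mem (inv_mem hB) hσ) hA, fun p hp => ?_⟩
        have hq := hbase _ (mem_basePos_take.2 hp)
        simp only [sat, List.all_eq_true, Nat.beq_eq] at hs
        have e := hs _ hq
        simp only [toList_getD] at e
        have e' := idx_injective (Fin.ext e)
        show B⁻¹ (σ (A p)) = p
        rw [e']
        exact B.symm_apply_apply p
      · rw [← toList_mul, ← toList_mul]
        congr 1
        group
  have hord : ∀ σ : Equiv.Perm GolayPt, σ ∈ M24 → sat c (toList σ) = true →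
      orderOf σ = ordL (toList σ) ∧ orderOf σ < 24 := fun σ hσ hs =>
    ordL_spec (hos _ (List.mem_map_of_mem ((hmem _).2 ⟨σ, ⟨hσ, hs⟩, rfl⟩)))
  have hcount : ∀ m, ((cands c (toList A⁻¹) (toList B)).map ordL).count m = cnt c m := by
    intro m
    rw [List.count_eq_countP, List.countP_map, List.countP_eq_length_filter,
      ← List.toFinset_card_of_nodup (hnd.filter _), ← Nat.card_eq_finsetCard]
    have hm : ∀ σ : {σ : Equiv.Perm GolayPt // (σ ∈ M24 ∧ sat c (toList σ) = true) ∧ orderOf σ = m},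
        toList σ.1 ∈ ((cands c (toList A⁻¹) (toList B)).filter ((fun x => x == m) ∘ ordL)).toFinset := by
      rintro ⟨σ, hσ, ho⟩
      simp only [List.mem_toFinset, List.mem_filter, Function.comp_apply, beq_iff_eq]
      exact ⟨(hmem _).2 ⟨σ, hσ, rfl⟩, by rw [← (hord σ hσ.1 hσ.2).1, ho]⟩
    refine (Nat.card_congr (Equiv.ofBijective (fun σ => ⟨toList σ.1, hm σ⟩) ⟨?_, ?_⟩)).symm
    · intro σ τ e
      exact Subtype.ext (toList_injective (congrArg Subtype.val e))
    · rintro ⟨l, hl⟩
      simp only [List.mem_toFinset, List.mem_filter, Function.comp_apply, beq_iff_eq] at hl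
      obtain ⟨σ, hσ, rfl⟩ := (hmem l).1 hl.1
      exact ⟨⟨σ, hσ, by rw [(hord σ hσ.1 hσ.2).1, hl.2]⟩, rfl⟩
  rcases Nat.lt_or_ge n 24 with hn | hn
  · rw [hh n (List.mem_range.2 hn), hcount]
  · rw [List.getD_eq_default _ _ (by omega), cnt, Nat.card_eq_zero]
    refine Or.inl ⟨fun ⟨σ, hσ, ho⟩ => ?_⟩
    have := (hord σ hσ.1 hσ.2).2
    omega

theorem sat_append (c : Cons) (x y : ℕ) (l : List ℕ) :
    sat (c ++ [(x, y)]) l = true ↔ sat c l = true ∧ l.getD x 0 = y := by
  simp [sat, List.all_append]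

theorem cnt_split (c : Cons) {x : ℕ} (hx : x < 24) (n : ℕ) :
    cnt c n = ∑ y ∈ Finset.range 24, cnt (c ++ [(x, y)]) n := by
  classical
  have := Fintype.ofFinite (Equiv.Perm GolayPt)
  simp only [cnt, Nat.card_eq_fintype_card, Fintype.card_subtype, sat_append]
  rw [Finset.card_eq_sum_card_fiberwise (f := fun σ => (toList σ).getD x 0) (t := Finset.range 24)
    (fun σ _ => Finset.mem_coe.2 (Finset.mem_range.2 (getD_lt σ hx)))]
  refine Finset.sum_congr rfl fun y _ => congrArg Finset.card ?_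
  ext σ
  simp only [Finset.mem_filter, Finset.mem_univ, true_and]
  tauto

theorem cnt_conj {c : Cons} {x r : ℕ} (hx : x < 24) {g : List ℕ} (hg : genOK g = true)
    (hgx : g.getD x 0 = x)
    (hgc : ∀ p ∈ c, g.getD p.1 0 = p.1 ∧ g.getD p.2 0 = p.2 ∧ p.1 < 24) (n : ℕ) (hr : r < 24) :
    cnt (c ++ [(x, g.getD r 0)]) n = cnt (c ++ [(x, r)]) n := by
  obtain ⟨H, hH, rfl⟩ := exists_perm hg
  refine (Nat.card_congr ((MulAut.conj H).toEquiv.subtypeEquiv fun σ => ?_)).symm
  simp only [MulEquiv.toEquiv_eq_coe, EquivLike.coe_coe, MulEquiv.orderOf_eq, sat_append]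
  refine and_congr_left' ?_
  rw [MulAut.conj_apply]
  have hfix : ∀ a, a < 24 → (toList H).getD a 0 = a → (toList H⁻¹).getD a 0 = a := fun a ha e => by
    conv_lhs => rw [← e]
    exact getD_inv H ha
  have key : ∀ a b, a < 24 → (toList H).getD a 0 = a → (toList σ).getD a 0 = b →
      (toList (H * σ * H⁻¹)).getD a 0 = (toList H).getD b 0 := by
    intro a b ha e1 e2
    rw [getD_mul _ _ ha, hfix a ha e1, getD_mul _ _ ha, e2]
  have hinj : ∀ a b, a < 24 → b < 24 → (toList H).getD a 0 = (toList H).getD b 0 → a = b := by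
    intro a b ha hb e
    rw [← getD_inv H ha, e, getD_inv H hb]
  constructor
  · rintro ⟨hσ, hs, hy⟩
    refine ⟨mul_mem (mul_mem hH hσ) (inv_mem hH), ?_, key x r hx hgx hy⟩
    simp only [sat, List.all_eq_true, Nat.beq_eq] at hs ⊢
    intro p hp
    obtain ⟨e1, e2, hlt⟩ := hgc p hp
    rw [key p.1 p.2 hlt e1 (hs p hp), e2]
  · rintro ⟨hσ, hs, hy⟩
    have hσ' : σ ∈ M24 := by
      have := mul_mem (mul_mem (inv_mem hH) hσ) hH
      simpa [mul_assoc] using this
    simp only [sat, List.all_eq_true, Nat.beq_eq] at hs ⊢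
    refine ⟨hσ', fun p hp => ?_, ?_⟩
    · obtain ⟨e1, e2, hlt⟩ := hgc p hp
      have h1 := key p.1 _ hlt e1 rfl
      have h2 : p.2 < 24 := hs p hp ▸ getD_lt _ hlt
      rw [hs p hp] at h1
      exact (hinj _ _ h2 (getD_lt σ hlt) (e2.trans h1)).symm
    · have h1 := key x _ hx hgx rfl
      rw [hy] at h1
      exact (hinj _ _ hr (getD_lt σ hx) h1).symm

theorem cnt_node {T : List (Cons × List ℕ × Step)} {i : ℕ} {c : Cons} {h : List ℕ} {x : ℕ}
    {br : List (ℕ × List (List ℕ) × ℕ)} (hok : nodeOK T i c h x br = true)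
    (ih : ∀ j < i, ∀ n, cnt (T.getD j ([], [], .node 0 [])).1 n = (T.getD j ([], [], .node 0 [])).2.1.getD n 0)
    (n : ℕ) : cnt c n = h.getD n 0 := by
  classical
  simp only [nodeOK, Bool.and_eq_true, Bool.or_eq_true, List.all_eq_true, List.any_eq_true, decide_eq_true_eq,
    beq_iff_eq, Nat.beq_eq, Nat.blt_eq, List.contains_iff_mem] at hok
  obtain ⟨⟨⟨⟨⟨⟨hx, hnd⟩, hlt⟩, hcov⟩, hbr⟩, hlen⟩, hh⟩ := hok
  rw [cnt_split c hx n]
  have hzero : ∀ y ∈ Finset.range 24, y ∉ (covered br).toFinset → cnt (c ++ [(x, y)]) n = 0 := by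
    intro y hy hny
    rcases hcov y (List.mem_range.2 (Finset.mem_range.1 hy)) with ⟨p, hp, ⟨hpy, hpx⟩, hp24⟩ | e
    · rw [cnt, Nat.card_eq_zero]
      refine Or.inl ⟨fun ⟨σ, ⟨_, hs⟩, _⟩ => ?_⟩
      rw [sat_append] at hs
      simp only [sat, List.all_eq_true, Nat.beq_eq] at hs
      have e1 := hs.1 p hp
      rw [hpy, ← hs.2] at e1
      obtain ⟨a, ha⟩ := exists_idx hp24
      obtain ⟨b, hb⟩ := exists_idx hx
      rw [← ha, ← hb, toList_getD, toList_getD] at e1
      have hab : a = b := σ.injective (idx_injective (Fin.ext e1))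
      have : p.1 = x := by rw [← ha, ← hb, hab]
      rw [this, show Nat.beq x x = true from Nat.beq_refl x] at hpx
      simp at hpx
    · exact absurd (List.mem_toFinset.2 e) hny
  rw [← Finset.sum_subset (s₁ := (covered br).toFinset)
    (fun y hy => Finset.mem_range.2 (hlt y (List.mem_toFinset.1 hy))) hzero, List.sum_toFinset _ hnd]
  have hsum : ((covered br).map fun y => cnt (c ++ [(x, y)]) n).sum =
      (br.map fun e => (e.2.1.length + 1) * (T.getD e.2.2 ([], [], .node 0 [])).2.1.getD n 0).sum := by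
    unfold covered
    rw [List.map_flatMap, List.flatMap, List.sum_flatten, List.map_map]
    refine congrArg List.sum (List.map_congr_left fun e he => ?_)
    obtain ⟨⟨⟨hej, hec⟩, -⟩, heg⟩ := hbr e he
    have hval : cnt (c ++ [(x, e.1)]) n = (T.getD e.2.2 ([], [], .node 0 [])).2.1.getD n 0 := by
      rw [← hec]; exact ih _ hej n
    have hr : e.1 < 24 := hlt e.1 (List.mem_flatMap.2 ⟨e, he, List.mem_cons_self⟩)
    have hmap : (e.2.1.map fun g => g.getD e.1 0).map (fun y => cnt (c ++ [(x, y)]) n) =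
        e.2.1.map fun _ => (T.getD e.2.2 ([], [], .node 0 [])).2.1.getD n 0 := by
      rw [List.map_map]
      refine List.map_congr_left fun g hg => ?_
      obtain ⟨⟨hg1, hg2⟩, hg3⟩ := heg g hg
      show cnt (c ++ [(x, g.getD e.1 0)]) n = _
      rw [cnt_conj hx hg1 hg2 (fun p hp => ⟨((hg3 p hp).1).1, ((hg3 p hp).1).2, (hg3 p hp).2⟩) n hr, hval]
    show ((e.1 :: e.2.1.map fun g => g.getD e.1 0).map fun y => cnt (c ++ [(x, y)]) n).sum = _
    rw [List.map_cons, List.sum_cons, hmap, hval, List.map_const', List.sum_replicate, smul_eq_mul]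
    ring
  rw [hsum]
  rcases Nat.lt_or_ge n 24 with hn | hn
  · exact (hh n (List.mem_range.2 hn)).symm
  · rw [List.getD_eq_default _ _ (by omega)]
    refine List.sum_eq_zero fun v hv => ?_
    obtain ⟨e, he, rfl⟩ := List.mem_map.1 hv
    obtain ⟨⟨-, hl⟩, -⟩ := hbr e he
    rw [List.getD_eq_default _ _ (by omega), mul_zero]

theorem check_a : ∀ i < 12, entryOK table i = true := by decide +kernel

theorem check_b : ∀ i < 12, entryOK table (12 + i) = true := by decide +kernel

theorem check_c : ∀ i < 15, entryOK table (24 + i) = true := by decide +kernel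

theorem table_spec : ∀ i < 39, ∀ n,
    cnt (table.getD i ([], [], .node 0 [])).1 n = (table.getD i ([], [], .node 0 [])).2.1.getD n 0 := by
  intro i
  induction i using Nat.strong_induction_on with
  | _ i ih =>
    intro hi n
    have hok : entryOK table i = true := by
      rcases Nat.lt_or_ge i 12 with h1 | h1
      · exact check_a i h1
      rcases Nat.lt_or_ge i 24 with h2 | h2
      · obtain ⟨j, rfl⟩ := Nat.exists_eq_add_of_le h1; exact check_b j (by omega)
      · obtain ⟨j, rfl⟩ := Nat.exists_eq_add_of_le h2; exact check_c j (by omega)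
    obtain ⟨⟨c, h, s⟩, e⟩ : ∃ z, table.getD i ([], [], .node 0 []) = z := ⟨_, rfl⟩
    rw [entryOK, e] at hok
    rw [e]
    cases s with
    | leaf a ai b => exact cnt_leaf hok n
    | node x br => exact cnt_node hok (fun j hj => ih j hj (by omega)) n

theorem root_eq : table.getD 38 ([], [], .node 0 []) = ([(23, 23)],
    [0, 1, 3795, 56672, 318780, 680064, 850080, 1457280, 1275120, 0, 0, 1854720, 0, 0, 1457280, 1360128, 0, 0,
      0, 0, 0, 0, 0, 887040], (table.getD 38 ([], [], .node 0 [])).2.2) := by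
  rfl

theorem cntOrd_eq (n : ℕ) : CfsgLib.Recog.OrderCounts.cntOrd ↥Cfsg.Spor.M23 n =
    [0, 1, 3795, 56672, 318780, 680064, 850080, 1457280, 1275120, 0, 0, 1854720, 0, 0, 1457280, 1360128, 0, 0,
      0, 0, 0, 0, 0, 887040].getD n 0 := by
  have h := table_spec 38 (by norm_num) n
  rw [root_eq] at h
  rw [← h, CfsgLib.Recog.OrderCounts.cntOrd, cnt]
  have hmem : ∀ σ : Equiv.Perm GolayPt,
      σ ∈ Cfsg.Spor.M23 ↔ σ ∈ M24 ∧ sat [(23, 23)] (toList σ) = true := by
    intro σ
    rw [sporM23_eq, mem_fixPts]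
    simp only [sat, List.all_cons, List.all_nil, Bool.and_true, Nat.beq_eq, List.mem_singleton, forall_eq]
    have e23 : (toList σ).getD 23 0 = (idx (σ none)).val := toList_getD σ none
    rw [e23]
    exact and_congr_right' ⟨fun e => by rw [e]; rfl, fun e => idx_injective (Fin.ext e)⟩
  refine Nat.card_congr
    { toFun := fun g => ⟨(g.1 : Equiv.Perm GolayPt), (hmem _).1 g.1.2, (Subgroup.orderOf_coe g.1).trans g.2⟩
      invFun := fun σ => ⟨⟨σ.1, (hmem _).2 σ.2.1⟩, by rw [Subgroup.orderOf_mk]; exact σ.2.2⟩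
      left_inv := fun _ => rfl
      right_inv := fun _ => rfl }

end CfsgLib.MathieuTwentyThree.Model

namespace CfsgLib.MathieuTwentyThree

/-- Every number of elements of an order in the Mathieu group is one of the values. -/
theorem value_model (n : ℕ) (h : CfsgLib.Recog.OrderCounts.cntOrd ↥Cfsg.Spor.M23 n ≠ 0) :
    Value (CfsgLib.Recog.OrderCounts.cntOrd ↥Cfsg.Spor.M23 n) := by
  rw [Model.cntOrd_eq] at h ⊢
  rcases Nat.lt_or_ge n 24 with hn | hn
  · interval_cases n <;> simp_all [Value]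
  · rw [List.getD_eq_default _ _ (by simpa using hn)] at h
    exact absurd rfl h

end CfsgLib.MathieuTwentyThree
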