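import Cfsg.Agent.Lib.MathieuTwentyThree.Local

/-!
The possible intersections of the normalisers of two conjugates.
-/

set_option autoImplicit false
set_option linter.unusedSectionVars false

namespace CfsgLib.MathieuTwentyThree

open Subgroup

variable {G : Type*} [Group G] [Finite G]

theorem fixPart_conjS (h : G) (E F : Subgroup G) :
    conjS h (fixPart E F) = fixPart (conjS h E) (conjS h F) := by
  ext x
  simp only [mem_conjS, mem_fixPart, normalizer_conjS]

theorem Meet.conj {E F : Subgroup G} (hd : Meet E F) (h : G) : Meet (conjS h E) (conjS h F) := by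
  intro t ht ht'
  have := hd _ (mem_conjS.1 ht) (mem_conjS.1 ht')
  calc t = h * (h⁻¹ * t * h) * h⁻¹ := by group
    _ = 1 := by rw [this]; group

namespace Local

variable {E F F₁ F₂ : Subgroup G}

theorem false_of_eight (hE : Local E) (hF₁ : Local F₁) (hF₂ : Local F₂) (hd₁ : Meet E F₁) (hd₂ : Meet E F₂)
    (h₁ : Nat.card (fixPart E F₁) = 8) (h₂ : Nat.card (fixPart E F₂) = 8)
    (hne : fixPart E F₁ ≠ fixPart E F₂) {u : G} (hu₁ : u ∈ fixPart E F₁) (hu₂ : u ∈ fixPart E F₂) (hu : u ≠ 1) :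
    False := by
  classical
  obtain ⟨v, hv₂, hv₁⟩ : ∃ v ∈ fixPart E F₂, v ∉ fixPart E F₁ := by
    by_contra hcon
    push Not at hcon
    exact hne (Subgroup.eq_of_le_of_card_ge hcon (by rw [h₁, h₂])).symm
  set K := centralizer ({u} : Set G)
  have hKN : K ≤ normalizer (E : Set G) := hE.centLe u hu₁.1 hu
  -- the pointwise stabiliser contains a subgroup of order at least 128
  have h128 : 128 ∣ Nat.card (K ⊓ centralizer ({v} : Set G) : Subgroup G) := by
    set B := fixPart F₂ E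
    have hB : Nat.card B = 8 := by rw [← hE.card_fixPart_eq hF₂ hd₂, h₂]
    have hPE : IsPGroup 2 E := IsPGroup.of_card (n := 4) hE.card
    have hPB : IsPGroup 2 B := IsPGroup.of_card (n := 3) hB
    have hP : IsPGroup 2 (B ⊔ E : Subgroup G) := IsPGroup.to_sup_of_normal_right' hPB hPE (fun x hx => hx.2)
    have hle : (B ⊔ E : Subgroup G) ≤ K ⊓ centralizer ({v} : Set G) := by
      refine sup_le (fun b hb => ⟨?_, ?_⟩) (fun e he => ⟨?_, ?_⟩) <;> apply mem_centralizer_singleton_iff.2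
      · exact (commute_fixPart hd₂ hu₂ hb).symm
      · exact (commute_fixPart hd₂ hv₂ hb).symm
      · exact hE.comm he hu₁.1
      · exact hE.comm he hv₂.1
    have : Fact (Nat.Prime 2) := ⟨Nat.prime_two⟩
    obtain ⟨k, hk⟩ := IsPGroup.iff_card.1 hP
    have h7 : Nat.card (E × B) ≤ Nat.card (B ⊔ E : Subgroup G) := by
      refine Nat.card_le_card_of_injective (fun p => (⟨(p.1 : G) * p.2,
        mul_mem (mem_sup_right p.1.2) (mem_sup_left p.2.2)⟩ : (B ⊔ E : Subgroup G))) ?_
      rintro ⟨e, b⟩ ⟨e', b'⟩ h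
      have h' : (e : G) * b = e' * b' := congrArg Subtype.val h
      have h1 : (e' : G)⁻¹ * e = b' * (b : G)⁻¹ := by
        calc (e' : G)⁻¹ * e = (e' : G)⁻¹ * ((e : G) * b) * (b : G)⁻¹ := by group
          _ = _ := by rw [h']; group
      have h2 := hd₂ _ (E.mul_mem (E.inv_mem e'.2) e.2) (h1 ▸ F₂.mul_mem b'.2.1 (F₂.inv_mem b.2.1))
      rw [h2] at h1
      exact Prod.ext (Subtype.ext (inv_mul_eq_one.1 h2).symm) (Subtype.ext (mul_inv_eq_one.1 h1.symm).symm)
    rw [Nat.card_prod, hE.card, hB, hk] at h7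
    refine dvd_trans ?_ (hk ▸ Subgroup.card_dvd_of_le hle)
    have : 7 ≤ k := by
      by_contra hlt
      have := Nat.pow_le_pow_right (show 2 > 0 by norm_num) (show k ≤ 6 by omega)
      omega
    exact (show 128 = 2 ^ 7 by norm_num) ▸ Nat.pow_dvd_pow 2 this
  -- the orbit of `v` has between eight and fourteen elements
  set O := {w // ∃ c ∈ K, c * v * c⁻¹ = w}
  have hv1 : v ≠ 1 := fun h => hv₁ (h ▸ one_mem _)
  have hsurj : Function.Bijective (fun b : fixPart F₁ E => (⟨_, hF₁.commutator_mem hE b.2 hv₂.1⟩ : fixPart E F₁)) := by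
    refine (Nat.bijective_iff_injective_and_card _).2 ⟨fun b b' h => ?_, (hE.card_fixPart_eq hF₁ hd₁).symm⟩
    exact Subtype.ext (hF₁.commutator_inj hE b.2 b'.2 hv₂.1 hv₁ (congrArg Subtype.val h))
  have hlow : 8 ≤ Nat.card O := by
    rw [← h₁]
    refine Nat.card_le_card_of_injective (fun a => (⟨v * (a : G), ?_⟩ : O)) fun a a' h =>
      Subtype.ext (mul_left_cancel (congrArg Subtype.val h))
    obtain ⟨b, hb⟩ := hsurj.2 a
    refine ⟨b, mem_centralizer_singleton_iff.2 (commute_fixPart hd₁ hu₁ b.2).symm, ?_⟩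
    rw [← hb]
    show (b : G) * v * (b : G)⁻¹ = v * (v * ((b : G) * v * (b : G)⁻¹))
    rw [← mul_assoc v, hE.sq v hv₂.1, one_mul]
  have hhigh : Nat.card O ≤ 14 := by
    have hT : Nat.card {e : G // e ∈ E ∧ e ≠ 1 ∧ e ≠ u} = 14 := by
      have h : ({e : G | e ∈ E ∧ e ≠ 1 ∧ e ≠ u}) = ((E : Set G) \ {1}) \ {u} := by ext e; simp [and_assoc]
      rw [← Set.coe_setOf, Nat.card_coe_set_eq, h, Set.ncard_sdiff_singleton_of_mem (show u ∈ (E : Set G) \ {1} from ⟨hu₁.1, hu⟩),
        Set.ncard_sdiff_singleton_of_mem E.one_mem, ← Nat.card_coe_set_eq, SetLike.coe_sort_coe, hE.card]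
    rw [← hT]
    refine Nat.card_le_card_of_injective
      (fun w : O => (⟨w.1, ?_⟩ : {e : G // e ∈ E ∧ e ≠ 1 ∧ e ≠ u}))
      fun a b h => Subtype.ext (by have e := congrArg Subtype.val h; exact e)
    obtain ⟨c, hc, e⟩ := w.2
    rw [← e]
    refine ⟨hE.conj_mem (hKN hc) hv₂.1, by simpa [conj_eq_one_iff] using hv1, fun h => ?_⟩
    refine hv₁ ((?_ : u = v) ▸ hu₁)
    have hcu : c * u = u * c := mem_centralizer_singleton_iff.1 hc
    have h' : c * v * c⁻¹ = c * u * c⁻¹ := by rw [h, hcu, mul_inv_cancel_right]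
    exact (mul_left_cancel (mul_right_cancel h')).symm
  have hm := card_conjugates_mul K v
  rw [hE.cardC u hu₁.1 hu] at hm
  obtain ⟨m, hm'⟩ := h128
  rw [hm'] at hm
  have h21 : Nat.card O ∣ 21 := ⟨m, by nlinarith [hm]⟩
  have hdiv := Nat.mem_divisors.2 ⟨h21, by norm_num⟩
  rw [show (21 : ℕ).divisors = {1, 3, 7, 21} by decide] at hdiv
  simp only [Finset.mem_insert, Finset.mem_singleton] at hdiv
  omega

theorem fixPart_ne_eight (hE : Local E) (hF : Local F) (hd : Meet E F) :
    Nat.card (fixPart E F) ≠ 8 := by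
  intro h8
  set A := fixPart E F with hA
  by_cases hex : ∃ u ∈ A, u ≠ 1 ∧ ∃ h ∈ normalizer (E : Set G), u ∈ conjS h A ∧ conjS h A ≠ A
  · obtain ⟨u, hu, hu1, h, hh, huh, hne⟩ := hex
    have e : conjS h A = fixPart E (conjS h F) := by rw [hA, fixPart_conjS, conjS_eq_self.2 hh]
    refine hE.false_of_eight hF (hF.conj h) hd ?_ h8 ?_ (e ▸ Ne.symm hne) hu (e ▸ huh) hu1
    · simpa [conjS_eq_self.2 hh] using hd.conj h
    · rw [← e, card_conjS, h8]
  push Not at hex
  set M := normalizer (E : Set G) ⊓ normalizer (A : Set G) with hM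
  obtain ⟨u, hu, hu1⟩ := A.bot_or_exists_ne_one.resolve_left fun h => by
    rw [h, Subgroup.card_bot] at h8; omega
  have hCM : centralizer ({u} : Set G) ≤ M := by
    intro c hc
    have hcN := hE.centLe u hu.1 hu1 hc
    refine ⟨hcN, conjS_eq_self.1 (hex u hu hu1 c hcN (mem_conjS.2 ?_))⟩
    have : c * u = u * c := mem_centralizer_singleton_iff.1 hc
    rw [mul_assoc, ← this, inv_mul_cancel_left]
    exact hu
  have horb : Nat.card {w // ∃ c ∈ M, c * u * c⁻¹ = w} = 7 := by
    have hA7 : Nat.card {e : G // e ∈ A ∧ e ≠ 1} = 7 := by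
      have h : ({e : G | e ∈ A ∧ e ≠ 1}) = (A : Set G) \ {1} := by ext e; simp
      rw [← Set.coe_setOf, Nat.card_coe_set_eq, h, Set.ncard_sdiff_singleton_of_mem A.one_mem,
        ← Nat.card_coe_set_eq, SetLike.coe_sort_coe, h8]
    rw [← hA7]
    refine Nat.card_congr (Equiv.subtypeEquivRight fun w => ⟨?_, ?_⟩)
    · rintro ⟨c, hc, rfl⟩
      exact ⟨(mem_normalizer_iff.1 hc.2 u).1 hu, by simpa [conj_eq_one_iff] using hu1⟩
    · rintro ⟨hw, hw1⟩
      obtain ⟨c, hc, e⟩ := hE.transitive hu.1 hu1 hw.1 hw1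
      exact ⟨c, ⟨hc, conjS_eq_self.1 (hex w hw hw1 c hc (e ▸ conj_mem_conjS hu))⟩, e⟩
  have hm := card_conjugates_mul M u
  rw [inf_eq_right.2 hCM, hE.cardC u hu.1 hu1, horb] at hm
  have hd' : Nat.card M ∣ 40320 := hE.cardN ▸ Subgroup.card_dvd_of_le inf_le_left
  rw [← hm] at hd'
  norm_num at hd'

theorem card_fixPart (hE : Local E) (hF : Local F) (hd : Meet E F) :
    Nat.card (fixPart E F) = 1 ∨ Nat.card (fixPart E F) = 4 := by
  rcases eq_or_ne (fixPart E F) ⊥ with h | h
  · left; rw [h, Subgroup.card_bot]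
  right
  obtain ⟨b, hb, hb1⟩ := (fixPart F E).bot_or_exists_ne_one.resolve_left (hE.fixPart_ne_bot_symm hF h)
  have h4 := hE.four_le_fixPart hF hb hb1
  have hne8 := hE.fixPart_ne_eight hF hd
  have hne16 : Nat.card (fixPart E F) ≠ 16 := by
    intro h16
    obtain ⟨e, he, hne⟩ := hE.exists_not_mem_fixPart hF hd
    have hEq : fixPart E F = E := Subgroup.eq_of_le_of_card_ge inf_le_left (by rw [h16, hE.card])
    exact hne (hEq.symm ▸ he)
  have hdiv := Nat.mem_divisors.2 ⟨hE.card_fixPart_dvd hF, by norm_num⟩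
  rw [show (16 : ℕ).divisors = {1, 2, 4, 8, 16} by decide] at hdiv
  simp only [Finset.mem_insert, Finset.mem_singleton] at hdiv
  omega

/-- An element of order five does not normalise two meeting parts of order four. -/
theorem not_five (hE : Local E) (h4 : Nat.card (fixPart E F) = 4) {x : G} (hx : orderOf x = 5)
    (hxE : x ∈ normalizer (E : Set G)) (hxF : x ∈ normalizer (F : Set G)) : False := by
  have : Fact (Nat.Prime 5) := ⟨by norm_num⟩
  set A := fixPart E F
  have hxA : zpowers x ≤ normalizer (A : Set G) := by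
    rw [zpowers_le, ← conjS_eq_self, fixPart_conjS, conjS_eq_self.2 hxE, conjS_eq_self.2 hxF]
  have hp : IsPGroup 5 (zpowers x) := IsPGroup.of_card (n := 1) (by rw [Nat.card_zpowers, hx, pow_one])
  have hm := CfsgLib.Order7920.card_modEq_card_inf_centralizer hp hxA
  set C := A ⊓ centralizer (zpowers x : Set G)
  have hle : Nat.card C ≤ 4 := h4 ▸ Subgroup.card_le_of_le inf_le_left
  rw [h4, Nat.ModEq] at hm
  obtain ⟨a, ha, ha1⟩ := C.bot_or_exists_ne_one.resolve_left fun h => by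
    rw [h, Subgroup.card_bot] at hm; omega
  have hxa : x ∈ centralizer ({a} : Set G) :=
    mem_centralizer_singleton_iff.2 (mem_centralizer_iff.1 ha.2 x (mem_zpowers x))
  have := orderOf_dvd_natCard (⟨x, hxa⟩ : centralizer ({a} : Set G))
  rw [Subgroup.orderOf_mk, hx, hE.cardC a ha.1.1 ha1] at this
  norm_num at this

theorem card_stab_dvd_mul (hE : Local E) :
    Nat.card (normalizer (E : Set G) ⊓ normalizer (F : Set G) : Subgroup G) ∣
      Nat.card (fixPart E F) * 2520 := by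
  set N := normalizer (E : Set G)
  set D := N ⊓ normalizer (F : Set G)
  haveI : (E.subgroupOf N).Normal := Subgroup.normal_in_normalizer
  let φ : D →* N ⧸ E.subgroupOf N := (QuotientGroup.mk' _).comp (Subgroup.inclusion inf_le_left)
  have hker : φ.ker = (fixPart E F).subgroupOf D := by
    ext d
    rw [MonoidHom.mem_ker, mem_subgroupOf, mem_fixPart]
    show ((Subgroup.inclusion inf_le_left d : N) : N ⧸ E.subgroupOf N) = 1 ↔ _
    rw [QuotientGroup.eq_one_iff, mem_subgroupOf]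
    exact ⟨fun h => ⟨h, d.2.2⟩, fun h => h.1⟩
  have hq : Nat.card (N ⧸ E.subgroupOf N) = 2520 := by
    have := Subgroup.card_eq_card_quotient_mul_card_subgroup (E.subgroupOf N)
    rw [hE.cardN, Nat.card_congr (subgroupOfEquivOfLe hE.le_normalizer).toEquiv, hE.card] at this
    omega
  have h := φ.ker.card_mul_index
  rw [Subgroup.index_ker, hker,
    Nat.card_congr (subgroupOfEquivOfLe (show fixPart E F ≤ D from fun a ha => ⟨hE.le_normalizer ha.1, ha.2⟩)).toEquiv] at h
  rw [← h]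
  exact mul_dvd_mul_left _ (hq ▸ Subgroup.card_subgroup_dvd_card φ.range)

/-- The two possible stabilisers. -/
theorem stab_cases (hE : Local E) (hF : Local F) (hd : Meet E F) :
    (fixPart E F = ⊥ ∧ Nat.card (normalizer (E : Set G) ⊓ normalizer (F : Set G) : Subgroup G) ∣ 360) ∨
    (Nat.card (fixPart E F) = 4 ∧
      Nat.card (normalizer (E : Set G) ⊓ normalizer (F : Set G) : Subgroup G) ∣ 288) := by
  set D := normalizer (E : Set G) ⊓ normalizer (F : Set G)
  have h7 : ¬ 7 ∣ Nat.card D := by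
    intro h
    have : Fact (Nat.Prime 7) := ⟨by norm_num⟩
    obtain ⟨⟨y, hy⟩, hyo⟩ := exists_prime_orderOf_dvd_card' 7 h
    rw [Subgroup.orderOf_mk] at hyo
    exact hE.not_seven hF hd hyo hy.1 hy.2
  have hco7 : (Nat.card D).Coprime 7 := ((Nat.Prime.coprime_iff_not_dvd (by norm_num)).2 h7).symm
  have hdvd := hE.card_stab_dvd_mul (F := F)
  rcases hE.card_fixPart hF hd with h | h <;> rw [h] at hdvd
  · exact Or.inl ⟨Subgroup.card_eq_one.1 h, hco7.dvd_of_dvd_mul_left (show Nat.card D ∣ 7 * 360 from hdvd)⟩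
  · have h5 : ¬ 5 ∣ Nat.card D := by
      intro h'
      have : Fact (Nat.Prime 5) := ⟨by norm_num⟩
      obtain ⟨⟨x, hx⟩, hxo⟩ := exists_prime_orderOf_dvd_card' 5 h'
      rw [Subgroup.orderOf_mk] at hxo
      exact hE.not_five h hxo hx.1 hx.2
    have hco5 : (Nat.card D).Coprime 5 := ((Nat.Prime.coprime_iff_not_dvd (by norm_num)).2 h5).symm
    exact Or.inr ⟨h, (Nat.Coprime.mul_right hco7 hco5).dvd_of_dvd_mul_left
      (show Nat.card D ∣ 7 * 5 * 288 from hdvd)⟩

end Local

end CfsgLib.MathieuTwentyThree
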