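import Cfsg.Agent.Lib.MathieuTwentyThree.ReduceValues
import Cfsg.Agent.Lib.MathieuTwentyTwo.Counts

/-!
A group of order 10200960 whose numbers of elements of each order are among those of the Mathieu group of
degree twenty-three: the Sylow numbers for 5, 7, 11, 23, the small centralisers and simplicity.
-/

set_option autoImplicit false
set_option linter.unusedSectionVars false

namespace CfsgLib.MathieuTwentyThree

open Subgroup CfsgLib.Recog.OrderCounts CfsgLib.MathieuTwentyTwo.NseRoute

universe u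

/-- The hypothesis of the recognition. -/
structure Nse (G : Type u) [Group G] : Prop where
  card : Nat.card G = 10200960
  value : ∀ n, cntOrd G n ≠ 0 → Value (cntOrd G n)

variable {G : Type u} [Group G] [Finite G]

/-- The order of the centraliser is the same for all elements of a prime order dividing the group order once. -/
theorem card_centralizer_eq_of_prime {p : ℕ} (hp : p.Prime) (hd : ¬ p * p ∣ Nat.card G) {y z : G}
    (hy : orderOf y = p) (hz : orderOf z = p) :
    Nat.card (centralizer ({y} : Set G)) = Nat.card (centralizer ({z} : Set G)) := by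
  have := Fact.mk hp
  have hdvd : p ∣ Nat.card G := hy ▸ orderOf_dvd_natCard y
  have hQ : ∀ Q : Sylow p G, Nat.card Q = p := card_sylow_eq_prime hdvd hd
  have hsyl : ∀ w : G, orderOf w = p → ∃ P : Sylow p G, zpowers w = (P : Subgroup G) := by
    intro w hw
    obtain ⟨P, hP⟩ := (IsPGroup.of_card (n := 1)
      (by rw [Nat.card_zpowers, hw, pow_one] : Nat.card (zpowers w) = p ^ 1)).exists_le_sylow
    exact ⟨P, Subgroup.eq_of_le_of_card_ge hP (le_of_eq (by rw [Nat.card_zpowers, hw]; exact hQ P))⟩
  obtain ⟨P, hP⟩ := hsyl y hy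
  obtain ⟨Q, hQ'⟩ := hsyl z hz
  obtain ⟨c, rfl⟩ := MulAction.exists_smul_eq G P Q
  have hmem : c * y * c⁻¹ ∈ zpowers z := by
    rw [hQ', Sylow.coe_subgroup_smul, Subgroup.mem_pointwise_smul_iff_inv_smul_mem, ← hP]
    show (MulAut.conj c)⁻¹ (c * y * c⁻¹) ∈ _
    simp [mul_assoc]
  have hzp : zpowers (c * y * c⁻¹) = zpowers z := Subgroup.eq_of_le_of_card_ge (zpowers_le.2 hmem) (by
    rw [Nat.card_zpowers, Nat.card_zpowers, hz, ← MulAut.conj_apply, MulEquiv.orderOf_eq, hy])
  have hcz : ∀ w : G, centralizer ({w} : Set G) = centralizer (zpowers w : Set G) := by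
    intro w
    refine le_antisymm (fun g hg => mem_centralizer_iff.2 fun v hv => ?_)
      (centralizer_le (Set.singleton_subset_iff.2 (mem_zpowers w)))
    obtain ⟨k, rfl⟩ := mem_zpowers_iff.1 hv
    exact ((show Commute g w from mem_centralizer_singleton_iff.1 hg).zpow_right k).symm.eq
  have hmap : (centralizer ({y} : Set G)).map (MulAut.conj c).toMonoidHom = centralizer ({z} : Set G) := by
    rw [hcz z, ← hzp, ← hcz]
    ext g
    rw [Subgroup.mem_map_equiv, mem_centralizer_singleton_iff, mem_centralizer_singleton_iff, MulAut.conj_symm_apply]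
    constructor
    · intro h
      calc g * (c * y * c⁻¹) = c * (c⁻¹ * g * c * y) * c⁻¹ := by group
        _ = _ := by rw [h]; group
    · intro h
      calc c⁻¹ * g * c * y = c⁻¹ * (g * (c * y * c⁻¹)) * c := by group
        _ = _ := by rw [h]; group
  rw [← hmap, Subgroup.card_map_of_injective (MulAut.conj c).injective]

/-- The number of elements of an order divisible by `p` is a multiple of the totient times the Sylow number. -/
theorem card_sylow_mul_totient_dvd {p : ℕ} [Fact p.Prime] (hQ : ∀ Q : Sylow p G, Nat.card Q = p)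
    {m : ℕ} (hm : p ∣ m) : Nat.card (Sylow p G) * m.totient ∣ cntOrd G m := by
  classical
  have : Fintype (Sylow p G) := Fintype.ofFinite _
  have : Fintype G := Fintype.ofFinite G
  obtain ⟨Q₀⟩ := (inferInstance : Nonempty (Sylow p G))
  let F : Sylow p G → ℕ := fun Q =>
    Nat.card {g : G // orderOf g = m ∧ g ^ (m / p) ∈ (Q : Subgroup G)}
  have hF : ∀ Q, F Q = F Q₀ := by
    intro Q
    obtain ⟨c, rfl⟩ := MulAction.exists_smul_eq G Q₀ Q
    refine (Nat.card_congr ((MulAut.conj c).toEquiv.subtypeEquiv fun g => ?_)).symm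
    show _ ↔ orderOf (MulAut.conj c g) = m ∧ (MulAut.conj c g) ^ (m / p) ∈ _
    rw [MulEquiv.orderOf_eq, ← map_pow, Sylow.coe_subgroup_smul,
      Subgroup.mem_pointwise_smul_iff_inv_smul_mem, ← MulAut.smul_def, inv_smul_smul]
  by_cases hm0 : cntOrd G m = 0
  · simp [hm0]
  have key : cntOrd G m = ∑ Q : Sylow p G, F Q := by
    rw [cntOrd, ← Nat.card_sigma]
    refine (Nat.card_congr (Equiv.ofBijective (fun x => ⟨x.2.1, x.2.2.1⟩) ⟨?_, ?_⟩)).symm
    · rintro ⟨Q, g, hg, hgQ⟩ ⟨R, h, hh, hhR⟩ heq
      simp only [Subtype.mk.injEq] at heq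
      subst heq
      have ho : orderOf (g ^ (m / p)) = p := by
        rw [← hg]; exact orderOf_pow_orderOf_div (orderOf_pos g).ne' (hg ▸ hm)
      have e : ∀ S : Sylow p G, g ^ (m / p) ∈ (S : Subgroup G) →
          zpowers (g ^ (m / p)) = (S : Subgroup G) := fun S hS =>
        eq_of_le_of_card_ge (zpowers_le.2 hS) (le_of_eq (by rw [Nat.card_zpowers, ho]; exact hQ S))
      have hQR : Q = R := Sylow.ext ((e Q hgQ).symm.trans (e R hhR))
      subst hQR
      rfl
    · rintro ⟨g, hg⟩
      have ho : orderOf (g ^ (m / p)) = p := by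
        rw [← hg]; exact orderOf_pow_orderOf_div (orderOf_pos g).ne' (hg ▸ hm)
      have hP : IsPGroup p (zpowers (g ^ (m / p))) :=
        IsPGroup.of_card (n := 1) (by rw [Nat.card_zpowers, ho, pow_one])
      obtain ⟨Q, hQle⟩ := hP.exists_le_sylow
      exact ⟨⟨Q, g, hg, hQle (mem_zpowers _)⟩, rfl⟩
  have htot : m.totient ∣ F Q₀ := by
    have h := OrderCount.dvd_sum_of_zpowers_invariant
      (Finset.univ.filter fun g : G => orderOf g = m ∧ g ^ (m / p) ∈ (Q₀ : Subgroup G))
      (fun _ => 1) m.totient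
      (fun u w hu hw => by
        simp only [Finset.mem_filter, Finset.mem_univ, true_and] at hu ⊢
        refine ⟨by rw [← Nat.card_zpowers, hw, Nat.card_zpowers, hu.1], ?_⟩
        obtain ⟨k, hk⟩ := mem_zpowers_iff.1 (show w ∈ zpowers u by rw [← hw]; exact mem_zpowers w)
        rw [← hk, ← zpow_natCast, zpow_comm, zpow_natCast]
        exact zpow_mem hu.2 k)
      (fun _ _ _ _ => rfl)
      (fun u hu => by
        simp only [Finset.mem_filter, Finset.mem_univ, true_and] at hu
        simp [hu.1])
    simpa [F, Nat.card_eq_fintype_card, Fintype.card_subtype] using h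
  rw [key, Finset.sum_congr rfl (fun Q _ => hF Q), Finset.sum_const, Finset.card_univ, smul_eq_mul,
    ← Nat.card_eq_fintype_card]
  exact mul_dvd_mul_left _ htot

namespace Nse

variable (h : Nse G)
include h

theorem not_sq_dvd {p : ℕ} (hp : p = 5 ∨ p = 7 ∨ p = 11 ∨ p = 23) : ¬ p * p ∣ Nat.card G := by
  rw [h.card]; rcases hp with rfl | rfl | rfl | rfl <;> norm_num

theorem cnt_value {n : ℕ} (hn : cntOrd G n ≠ 0) :
    cntOrd G n = 1 ∨ cntOrd G n = 3795 ∨ cntOrd G n = 56672 ∨ cntOrd G n = 318780 ∨ cntOrd G n = 680064 ∨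
      cntOrd G n = 850080 ∨ cntOrd G n = 1457280 ∨ cntOrd G n = 1275120 ∨ cntOrd G n = 1854720 ∨
      cntOrd G n = 1360128 ∨ cntOrd G n = 887040 := h.value n hn

theorem sylow_eq {p : ℕ} [Fact p.Prime] (hp : p = 5 ∨ p = 7 ∨ p = 11 ∨ p = 23) (Q : Sylow p G) :
    Nat.card Q = p :=
  card_sylow_eq_prime (by rw [h.card]; rcases hp with rfl | rfl | rfl | rfl <;> norm_num) (h.not_sq_dvd hp) Q

theorem card_sylow_five : Nat.card (Sylow 5 G) = 170016 := by
  have : Fact (Nat.Prime 5) := ⟨by norm_num⟩
  have h1 := cntOrd_prime_eq (h.sylow_eq (p := 5) (by simp))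
  have h2 := h.cnt_value (cntOrd_prime_ne_zero (by norm_num : Nat.Prime 5) (by rw [h.card]; norm_num))
  have h3 := card_sylow_modEq_one 5 G
  rw [Nat.ModEq] at h3
  omega

theorem card_sylow_seven : Nat.card (Sylow 7 G) = 242880 := by
  have : Fact (Nat.Prime 7) := ⟨by norm_num⟩
  have h1 := cntOrd_prime_eq (h.sylow_eq (p := 7) (by simp))
  have h2 := h.cnt_value (cntOrd_prime_ne_zero (by norm_num : Nat.Prime 7) (by rw [h.card]; norm_num))
  have h3 := card_sylow_modEq_one 7 G
  rw [Nat.ModEq] at h3
  omega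

theorem card_sylow_eleven : Nat.card (Sylow 11 G) = 185472 := by
  have : Fact (Nat.Prime 11) := ⟨by norm_num⟩
  have h1 := cntOrd_prime_eq (h.sylow_eq (p := 11) (by simp))
  have h2 := h.cnt_value (cntOrd_prime_ne_zero (by norm_num : Nat.Prime 11) (by rw [h.card]; norm_num))
  have h3 := card_sylow_modEq_one 11 G
  rw [Nat.ModEq] at h3
  omega

theorem card_sylow_twentyThree : Nat.card (Sylow 23 G) = 40320 := by
  have : Fact (Nat.Prime 23) := ⟨by norm_num⟩
  have h1 := cntOrd_prime_eq (h.sylow_eq (p := 23) (by simp))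
  have h2 := h.cnt_value (cntOrd_prime_ne_zero (by norm_num : Nat.Prime 23) (by rw [h.card]; norm_num))
  have h3 := card_sylow_modEq_one 23 G
  rw [Nat.ModEq] at h3
  omega

theorem normalizer_five {y : G} (hy : orderOf y = 5) :
    Nat.card (normalizer (zpowers y : Set G)) = 60 := by
  have e := card_normalizer_zpowers (by norm_num) (h.not_sq_dvd (by simp)) hy
  rw [h.card_sylow_five, h.card] at e; omega

theorem normalizer_seven {y : G} (hy : orderOf y = 7) :
    Nat.card (normalizer (zpowers y : Set G)) = 42 := by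
  have e := card_normalizer_zpowers (by norm_num) (h.not_sq_dvd (by simp)) hy
  rw [h.card_sylow_seven, h.card] at e; omega

theorem normalizer_eleven {y : G} (hy : orderOf y = 11) :
    Nat.card (normalizer (zpowers y : Set G)) = 55 := by
  have e := card_normalizer_zpowers (by norm_num) (h.not_sq_dvd (by simp)) hy
  rw [h.card_sylow_eleven, h.card] at e; omega

theorem normalizer_twentyThree {y : G} (hy : orderOf y = 23) :
    Nat.card (normalizer (zpowers y : Set G)) = 253 := by
  have e := card_normalizer_zpowers (by norm_num) (h.not_sq_dvd (by simp)) hy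
  rw [h.card_sylow_twentyThree, h.card] at e; omega

theorem card_centralizer_aux {p n : ℕ} {y : G} (hy : orderOf y = p)
    (hn : Nat.card (normalizer (zpowers y : Set G)) = n)
    (hne : ¬ normalizer (zpowers y : Set G) ≤ centralizer ({y} : Set G)) :
    p ∣ Nat.card (centralizer ({y} : Set G)) ∧ Nat.card (centralizer ({y} : Set G)) ∣ n ∧
      Nat.card (centralizer ({y} : Set G)) ≠ n := by
  refine ⟨hy ▸ orderOf_dvd_card_centralizer (mem_centralizer_singleton_iff.2 rfl),
    hn ▸ Subgroup.card_dvd_of_le (centralizer_le_normalizer_zpowers y), fun e => hne ?_⟩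
  exact (Subgroup.eq_of_le_of_card_ge (centralizer_le_normalizer_zpowers y) (by rw [e, hn])).ge

theorem centralizer_twentyThree {y : G} (hy : orderOf y = 23) :
    Nat.card (centralizer ({y} : Set G)) = 23 := by
  obtain ⟨h1, h2, h3⟩ := h.card_centralizer_aux hy (h.normalizer_twentyThree hy)
    (not_normalizer_le_centralizer (by norm_num) (by norm_num : Nat.Prime 7) (by norm_num)
      (h.not_sq_dvd (by simp)) (h.not_sq_dvd (by simp)) (by rw [h.card]; norm_num)
      (fun z hz => by rw [h.normalizer_seven hz]; norm_num) hy)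
  have key : ∀ c ∈ (253 : ℕ).divisors, 23 ∣ c → c ≠ 253 → c = 23 := by decide +kernel
  exact key _ (Nat.mem_divisors.2 ⟨h2, by norm_num⟩) h1 h3

theorem centralizer_eleven {y : G} (hy : orderOf y = 11) :
    Nat.card (centralizer ({y} : Set G)) = 11 := by
  obtain ⟨h1, h2, h3⟩ := h.card_centralizer_aux hy (h.normalizer_eleven hy)
    (not_normalizer_le_centralizer (by norm_num) (by norm_num : Nat.Prime 7) (by norm_num)
      (h.not_sq_dvd (by simp)) (h.not_sq_dvd (by simp)) (by rw [h.card]; norm_num)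
      (fun z hz => by rw [h.normalizer_seven hz]; norm_num) hy)
  have key : ∀ c ∈ (55 : ℕ).divisors, 11 ∣ c → c ≠ 55 → c = 11 := by decide +kernel
  exact key _ (Nat.mem_divisors.2 ⟨h2, by norm_num⟩) h1 h3

theorem centralizer_seven_cases {y : G} (hy : orderOf y = 7) :
    Nat.card (centralizer ({y} : Set G)) = 7 ∨ Nat.card (centralizer ({y} : Set G)) = 14 ∨
      Nat.card (centralizer ({y} : Set G)) = 21 := by
  obtain ⟨h1, h2, h3⟩ := h.card_centralizer_aux hy (h.normalizer_seven hy)
    (not_normalizer_le_centralizer (by norm_num) (by norm_num : Nat.Prime 23) (by norm_num)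
      (h.not_sq_dvd (by simp)) (h.not_sq_dvd (by simp)) (by rw [h.card]; norm_num)
      (fun z hz => by rw [h.normalizer_twentyThree hz]; norm_num) hy)
  have key : ∀ c ∈ (42 : ℕ).divisors, 7 ∣ c → c ≠ 42 → c = 7 ∨ c = 14 ∨ c = 21 := by decide +kernel
  exact key _ (Nat.mem_divisors.2 ⟨h2, by norm_num⟩) h1 h3

theorem centralizer_five_cases {y : G} (hy : orderOf y = 5) :
    Nat.card (centralizer ({y} : Set G)) = 5 ∨ Nat.card (centralizer ({y} : Set G)) = 15 ∨
      2 ∣ Nat.card (centralizer ({y} : Set G)) := by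
  obtain ⟨h1, h2, -⟩ := h.card_centralizer_aux hy (h.normalizer_five hy)
    (not_normalizer_le_centralizer (by norm_num) (by norm_num : Nat.Prime 23) (by norm_num)
      (h.not_sq_dvd (by simp)) (h.not_sq_dvd (by simp)) (by rw [h.card]; norm_num)
      (fun z hz => by rw [h.normalizer_twentyThree hz]; norm_num) hy)
  have key : ∀ c ∈ (60 : ℕ).divisors, 5 ∣ c → c = 5 ∨ c = 15 ∨ 2 ∣ c := by decide +kernel
  exact key _ (Nat.mem_divisors.2 ⟨h2, by norm_num⟩) h1

theorem isSimple : IsSimpleGroup G := by
  have : Nontrivial G := Finite.one_lt_card_iff_nontrivial.1 (by rw [h.card]; norm_num)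
  constructor
  intro N hN
  have : Fact (Nat.Prime 23) := ⟨by norm_num⟩
  by_cases h23 : 23 ∣ Nat.card N
  · right
    have : Fact (Nat.Prime 7) := ⟨by norm_num⟩
    obtain ⟨⟨z, hzN⟩, hz⟩ := exists_prime_orderOf_dvd_card' 23 h23
    rw [Subgroup.orderOf_mk] at hz
    have hi := index_dvd_card_normalizer_of_mem (by norm_num) (h.not_sq_dvd (by simp)) N hzN hz
    rw [h.normalizer_twentyThree hz] at hi
    have h7 : 7 ∣ Nat.card N := by
      have e : 7 ∣ Nat.card N * N.index := by rw [N.card_mul_index, h.card]; norm_num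
      refine ((Nat.Prime.dvd_mul (by norm_num)).1 e).resolve_right fun e7 => ?_
      have := e7.trans hi; norm_num at this
    obtain ⟨⟨w, hwN⟩, hw⟩ := exists_prime_orderOf_dvd_card' 7 h7
    rw [Subgroup.orderOf_mk] at hw
    have hi' := index_dvd_card_normalizer_of_mem (by norm_num) (h.not_sq_dvd (by simp)) N hwN hw
    rw [h.normalizer_seven hw] at hi'
    exact Subgroup.index_eq_one.1 (Nat.dvd_one.1 ((Nat.dvd_gcd hi hi').trans (by norm_num)))
  · left
    by_contra hne
    obtain ⟨q, hq, hqN⟩ := Nat.exists_prime_and_dvd (fun e => hne (Subgroup.card_eq_one.1 e))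
    have := Fact.mk hq
    obtain ⟨T⟩ : Nonempty (Sylow q N) := inferInstance
    obtain ⟨i, hi⟩ := IsPGroup.iff_card.1 T.isPGroup'
    set R := ((T : Subgroup N).map N.subtype : Subgroup G) with hR
    have hRc : Nat.card R = q ^ i := by
      rw [hR, Subgroup.card_map_of_injective N.subtype_injective, hi]
    have h23i : 23 ∣ N.index := by
      have e : 23 ∣ Nat.card N * N.index := by rw [N.card_mul_index, h.card]; norm_num
      exact ((Nat.Prime.dvd_mul (by norm_num)).1 e).resolve_left h23
    obtain ⟨⟨y, hyR⟩, hy⟩ := exists_prime_orderOf_dvd_card' 23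
      (h23i.trans (CfsgLib.Order7920.index_dvd_card_normalizer N T))
    rw [Subgroup.orderOf_mk] at hy
    have hm := CfsgLib.Order7920.card_modEq_card_inf_centralizer (R := R)
      (IsPGroup.of_card (n := 1) (by rw [Nat.card_zpowers, hy, pow_one] :
        Nat.card (zpowers y) = 23 ^ 1)) (zpowers_le.2 hyR)
    have hc : Nat.card (R ⊓ centralizer (zpowers y : Set G) : Subgroup G) = 1 := by
      refine Nat.eq_one_of_dvd_coprimes ?_ (hRc ▸ Subgroup.card_dvd_of_le inf_le_left)
        ((Subgroup.card_dvd_of_le (le_trans inf_le_right (centralizer_le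
          (Set.singleton_subset_iff.2 (mem_zpowers y))))).trans (h.centralizer_twentyThree hy).dvd)
      refine ((Nat.coprime_primes hq (by norm_num)).2 ?_).pow_left i
      rintro rfl
      exact h23 hqN
    rw [hc, hRc, Nat.ModEq] at hm
    have hid : q ^ i ∣ 10200960 := by
      rw [← hRc, ← h.card]; exact card_subgroup_dvd_card R
    have hi0 : i ≠ 0 := by
      rintro rfl
      have := T.dvd_card_of_dvd_card hqN
      rw [hi, pow_zero] at this
      exact hq.one_lt.ne' (Nat.dvd_one.1 this)
    have h23' : ¬ 23 ∣ q ^ i := fun hd => h23 (hd.trans (hi ▸ card_subgroup_dvd_card (T : Subgroup N)))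
    have hd443 : q ^ i ∣ 443520 :=
      ((Nat.Prime.coprime_iff_not_dvd (by norm_num)).2 h23').symm.dvd_of_dvd_mul_left
        (show q ^ i ∣ 23 * 443520 from hid)
    have hpp : IsPrimePow (q ^ i) := ⟨q, i, hq.prime, Nat.pos_of_ne_zero hi0, rfl⟩
    -- a prime power divisor congruent to one modulo 23 does not exist
    have hfin : ∀ a : Fin 8, 2 ^ (a : ℕ) % 23 = 1 → (a : ℕ) = 0 := by decide +kernel
    have hfin3 : ∀ a : Fin 3, 3 ^ (a : ℕ) % 23 = 1 → (a : ℕ) = 0 := by decide +kernel
    have hq' : q = 2 ∨ q = 3 ∨ q = 5 ∨ q = 7 ∨ q = 11 := by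
      have hmem : q ∈ (443520 : ℕ).primeFactors :=
        Nat.mem_primeFactors.2 ⟨hq, (dvd_pow_self q hi0).trans hd443, by norm_num⟩
      rw [show (443520 : ℕ).primeFactors = {2, 3, 5, 7, 11} by
        norm_num [Nat.primeFactors, Nat.primeFactorsList]] at hmem
      simpa using hmem
    have hbound : ∀ r k : ℕ, q = r → ¬ r ^ (k + 1) ∣ 443520 → i ≤ k := by
      rintro r k rfl hk
      by_contra hlt
      exact hk ((pow_dvd_pow q (by omega)).trans hd443)
    rcases hq' with rfl | rfl | rfl | rfl | rfl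
    · have := hbound 2 7 rfl (by norm_num)
      exact hi0 (hfin ⟨i, by omega⟩ (by simp only; omega))
    · have := hbound 3 2 rfl (by norm_num)
      exact hi0 (hfin3 ⟨i, by omega⟩ (by simp only; omega))
    all_goals
      have hi1 : i = 1 := by
        have := hbound _ 1 rfl (by norm_num)
        omega
      subst hi1
      norm_num at hm

theorem cnt_two : cntOrd G 2 = 3795 := by
  have h2 : 2 ∣ Nat.card G := by rw [h.card]; norm_num
  have hd := dvd_sum_cntOrd (G := G) h2
  rw [show (2 : ℕ).divisors = {1, 2} by decide] at hd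
  simp only [Finset.sum_insert, Finset.mem_singleton, OfNat.one_ne_ofNat, not_false_eq_true,
    Finset.sum_singleton, cntOrd_one] at hd
  have hne := cntOrd_prime_ne_zero (G := G) Nat.prime_two h2
  have hne1 : cntOrd G 2 ≠ 1 := by
    intro e
    rw [cntOrd, Nat.card_eq_one_iff_unique] at e
    obtain ⟨hsub, ⟨⟨z, hz⟩⟩⟩ := e
    have : Fact (Nat.Prime 23) := ⟨by norm_num⟩
    obtain ⟨y, hy⟩ := exists_prime_orderOf_dvd_card' (G := G) 23 (by rw [h.card]; norm_num)
    have hzy : z ∈ centralizer ({y} : Set G) := by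
      have := congrArg Subtype.val (Subsingleton.elim (α := {g : G // orderOf g = 2}) ⟨y * z * y⁻¹, by rw [← MulAut.conj_apply, MulEquiv.orderOf_eq, hz]⟩
        ⟨z, hz⟩)
      exact mem_centralizer_singleton_iff.2 (mul_inv_eq_iff_eq_mul.1 this).symm
    have := orderOf_dvd_card_centralizer hzy
    rw [hz, h.centralizer_twentyThree hy] at this
    norm_num at this
  rcases h.cnt_value hne with e | e | e | e | e | e | e | e | e | e | e <;> omega

theorem cnt_three : cntOrd G 3 = 56672 := by
  have h3 : 3 ∣ Nat.card G := by rw [h.card]; norm_num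
  have hd := dvd_sum_cntOrd (G := G) h3
  rw [show (3 : ℕ).divisors = {1, 3} by decide] at hd
  simp only [Finset.sum_insert, Finset.mem_singleton, OfNat.one_ne_ofNat, not_false_eq_true,
    Finset.sum_singleton, cntOrd_one] at hd
  have hev := even_cntOrd (G := G) (m := 3) le_rfl
  have hne := cntOrd_prime_ne_zero (G := G) Nat.prime_three h3
  rcases h.cnt_value hne with e | e | e | e | e | e | e | e | e | e | e <;> omega

theorem cnt_five : cntOrd G 5 = 680064 := by
  have : Fact (Nat.Prime 5) := ⟨by norm_num⟩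
  rw [cntOrd_prime_eq (h.sylow_eq (p := 5) (by simp)), h.card_sylow_five]

theorem cnt_seven : cntOrd G 7 = 1457280 := by
  have : Fact (Nat.Prime 7) := ⟨by norm_num⟩
  rw [cntOrd_prime_eq (h.sylow_eq (p := 7) (by simp)), h.card_sylow_seven]

theorem cnt_eleven : cntOrd G 11 = 1854720 := by
  have : Fact (Nat.Prime 11) := ⟨by norm_num⟩
  rw [cntOrd_prime_eq (h.sylow_eq (p := 11) (by simp)), h.card_sylow_eleven]

theorem cnt_twentyThree : cntOrd G 23 = 887040 := by
  have : Fact (Nat.Prime 23) := ⟨by norm_num⟩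
  rw [cntOrd_prime_eq (h.sylow_eq (p := 23) (by simp)), h.card_sylow_twentyThree]

end Nse

end CfsgLib.MathieuTwentyThree
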