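import Mathlib
import Cfsg.Prelude.Def_Sporadic_a

/-!
The numerical data from which a group of order `10200960` is identified with the Mathieu group of degree
twenty-three.
-/

set_option autoImplicit false

namespace CfsgLib.MathieuTwentyThree

open Subgroup

/-- The centraliser orders used in the local analysis. -/
structure Counts (G : Type*) [Group G] : Prop where
  card : Nat.card G = 10200960
  involutions : Nat.card {g : G // orderOf g = 2} = 3795
  centralizer_two : ∀ t : G, orderOf t = 2 → Nat.card (centralizer ({t} : Set G)) = 2688
  centralizer_three : ∀ x : G, orderOf x = 3 → Nat.card (centralizer ({x} : Set G)) = 180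
  centralizer_seven : ∀ y : G, orderOf y = 7 → Nat.card (centralizer ({y} : Set G)) = 14
  normalizer_seven : ∀ y : G, orderOf y = 7 → Nat.card (normalizer (zpowers y : Set G)) = 42

end CfsgLib.MathieuTwentyThree
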