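import Cfsg.Agent.Lib.MathieuTwentyThree.ReduceSpectrum
import Cfsg.Agent.Lib.MathieuTwentyThree.Setup
import Cfsg.Agent.Lib.Characters.Decomp
import Cfsg.Agent.Lib.MathieuTwentyTwo.Conj

/-!
The centralisers of involutions and of elements of order three in a group with the order counts of the Mathieu
group of degree twenty-three.
-/

set_option autoImplicit false
set_option linter.unusedSectionVars false
set_option linter.unusedSimpArgs false

namespace CfsgLib.MathieuTwentyThree

open Subgroup CfsgLib.Recog.OrderCounts CfsgLib.MathieuTwentyTwo.NseRoute CfsgLib.MathieuTwentyTwo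

universe u

variable {G : Type u} [Group G] [Finite G]

/-- A class lies among the elements of the same order, and is all of them when the sizes agree. -/
theorem index_le_cntOrd {x : G} {m : ℕ} (hx : orderOf x = m) :
    (centralizer ({x} : Set G)).index ≤ cntOrd G m ∧
      ((centralizer ({x} : Set G)).index = cntOrd G m → ∀ y : G, orderOf y = m → IsConj x y) := by
  rw [← CfsgLib.Characters.card_isConj_eq_index, cntOrd]
  let f : {y : G // IsConj x y} → {y : G // orderOf y = m} := fun y => ⟨y.1, by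
    obtain ⟨g, hg⟩ := isConj_iff.1 y.2
    rw [← hg, orderOf_conj, hx]⟩
  have hf : Function.Injective f := fun a b e => by
    simp only [f, Subtype.mk.injEq] at e
    exact Subtype.ext e
  refine ⟨Nat.card_le_card_of_injective f hf, fun e y hy => ?_⟩
  obtain ⟨⟨z, hz⟩, hzy⟩ := ((Nat.bijective_iff_injective_and_card f).2 ⟨hf, e⟩).surjective ⟨y, hy⟩
  simp only [f, Subtype.mk.injEq] at hzy
  exact hzy ▸ hz

/-- The centraliser inside a subgroup, as a subgroup of the whole group. -/
theorem map_subtype_centralizer (C : Subgroup G) (y : C) :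
    (centralizer ({y} : Set C)).map C.subtype = centralizer ({(y : G)} : Set G) ⊓ C := by
  ext z
  constructor
  · rintro ⟨w, hw, rfl⟩
    exact ⟨mem_centralizer_singleton_iff.2 (congrArg Subtype.val (mem_centralizer_singleton_iff.1 hw)), w.2⟩
  · rintro ⟨hz, hzC⟩
    exact ⟨⟨z, hzC⟩, mem_centralizer_singleton_iff.2 (Subtype.ext (mem_centralizer_singleton_iff.1 hz)), rfl⟩

/-- The normaliser inside a subgroup, as a subgroup of the whole group. -/
theorem map_subtype_normalizer (C : Subgroup G) (y : C) :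
    (normalizer (zpowers y : Set C)).map C.subtype = normalizer (zpowers (y : G) : Set G) ⊓ C := by
  have hmem : ∀ w : C, (w : G) ∈ zpowers (y : G) ↔ w ∈ zpowers y := by
    intro w
    simp only [mem_zpowers_iff, ← Subgroup.coe_zpow, Subtype.coe_inj]
  ext z
  constructor
  · rintro ⟨w, hw, rfl⟩
    refine ⟨mem_normalizer_iff.2 fun v => ⟨fun hv => ?_, fun hv => ?_⟩, w.2⟩
    · obtain ⟨k, rfl⟩ := mem_zpowers_iff.1 hv
      have := (hmem (w * y ^ k * w⁻¹)).2 ((mem_normalizer_iff.1 hw (y ^ k)).1 (zpow_mem (mem_zpowers y) k))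
      simpa using this
    · obtain ⟨k, hk⟩ := mem_zpowers_iff.1 hv
      have := (hmem (w⁻¹ * y ^ k * w)).2 (by
        have h' := (mem_normalizer_iff''.1 hw (y ^ k)).1 (zpow_mem (mem_zpowers y) k)
        exact h')
      simp only [Subgroup.coe_mul, Subgroup.coe_inv, Subgroup.coe_zpow, hk] at this
      simpa [mul_assoc] using this
  · rintro ⟨hn, hzC⟩
    refine ⟨⟨z, hzC⟩, mem_normalizer_iff.2 fun v => ?_, rfl⟩
    rw [← hmem v, ← hmem]
    exact mem_normalizer_iff.1 hn v

namespace Nse

variable (h : Nse G)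
include h

theorem not_big_dvd_centralizer {x : G} {p : ℕ} (hp : p.Prime) {o : ℕ} (hx : orderOf x = o)
    (hco : o.Coprime p) (h0 : cntOrd G (o * p) = 0) : ¬ p ∣ Nat.card (centralizer ({x} : Set G)) := by
  intro hd
  have := Fact.mk hp
  obtain ⟨⟨y, hy⟩, hyo⟩ := exists_prime_orderOf_dvd_card' p hd
  rw [Subgroup.orderOf_mk] at hyo
  have hc : Commute x y := (show Commute y x from mem_centralizer_singleton_iff.1 hy).symm
  exact (cntOrd_ne_zero_iff (o * p)).2 ⟨x * y, by
    rw [hc.orderOf_mul_eq_mul_orderOf_of_coprime (by rw [hx, hyo]; exact hco), hx, hyo]⟩ h0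

theorem cnt_eq_zero_of_big {n p : ℕ} (hp : p = 5 ∨ p = 7 ∨ p = 11 ∨ p = 23) (hd : p ∣ n)
    (hn : n ∉ ({1, 2, 3, 5, 7, 11, 23, 14, 15} : Finset ℕ)) : cntOrd G n = 0 := by
  by_contra hne
  obtain ⟨g, hg⟩ := (cntOrd_ne_zero_iff n).1 hne
  rcases h.orderOf_cases g with e | e
  · exact hn (hg ▸ e)
  · rw [hg] at e
    have := hd.trans e
    rcases hp with rfl | rfl | rfl | rfl <;> norm_num at this

theorem centralizer_two_dvd {t : G} (ht : orderOf t = 2) :
    Nat.card (centralizer ({t} : Set G)) ∣ 8064 := by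
  have h5 := h.not_big_dvd_centralizer (x := t) (by norm_num : Nat.Prime 5) ht (by norm_num) h.cnt_ten
  have h11 := h.not_big_dvd_centralizer (x := t) (by norm_num : Nat.Prime 11) ht (by norm_num)
    (h.cnt_eq_zero_of_big (p := 11) (by simp) (by norm_num) (by decide))
  have h23 := h.not_big_dvd_centralizer (x := t) (by norm_num : Nat.Prime 23) ht (by norm_num)
    (h.cnt_eq_zero_of_big (p := 23) (by simp) (by norm_num) (by decide))
  have hd : Nat.card (centralizer ({t} : Set G)) ∣ 8064 * (5 * 11 * 23) := by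
    rw [show (8064 : ℕ) * (5 * 11 * 23) = Nat.card G by rw [h.card]]
    exact card_subgroup_dvd_card _
  refine Nat.Coprime.dvd_of_dvd_mul_right ?_ hd
  exact ((((Nat.Prime.coprime_iff_not_dvd (by norm_num)).2 h5).symm.mul_right
    ((Nat.Prime.coprime_iff_not_dvd (by norm_num)).2 h11).symm)).mul_right
    ((Nat.Prime.coprime_iff_not_dvd (by norm_num)).2 h23).symm

theorem normalizer_seven_le {t y : G} (ht : orderOf t = 2) (hy : orderOf y = 7)
    (hyt : y ∈ centralizer ({t} : Set G)) :
    normalizer (zpowers y : Set G) ≤ centralizer ({t} : Set G) := by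
  intro n hn
  have hcom : Commute t y := (show Commute y t from mem_centralizer_singleton_iff.1 hyt).symm
  have hC := h.centralizer_seven hy
  have htop : centralizer ({y} : Set G) = zpowers (t * y) := by
    refine (Subgroup.eq_of_le_of_card_ge ?_ ?_).symm
    · rw [zpowers_le, mem_centralizer_singleton_iff]
      exact (hcom.mul_left (Commute.refl y)).eq
    · rw [hC, Nat.card_zpowers, hcom.orderOf_mul_eq_mul_orderOf_of_coprime (by rw [ht, hy]; norm_num), ht, hy]
  have hnty : n * t * n⁻¹ ∈ centralizer ({y} : Set G) := by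
    obtain ⟨k, hk⟩ := mem_zpowers_iff.1 ((mem_normalizer_iff''.1 hn y).1 (mem_zpowers y))
    rw [mem_centralizer_singleton_iff]
    calc n * t * n⁻¹ * y = n * (t * (n⁻¹ * y * n)) * n⁻¹ := by group
      _ = n * ((n⁻¹ * y * n) * t) * n⁻¹ := by rw [← hk, (hcom.zpow_right k).eq]
      _ = y * (n * t * n⁻¹) := by group
  set Y := centralizer ({y} : Set G)
  have : IsCyclic Y := by rw [htop]; infer_instance
  have := Fintype.ofFinite Y
  have hone : Nat.card {a : Y // orderOf a = 2} = 1 := by
    rw [Nat.card_eq_fintype_card, Fintype.card_subtype, IsCyclic.card_orderOf_eq_totient]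
    · rfl
    · rw [← Nat.card_eq_fintype_card, hC]; norm_num
  have := (Nat.card_eq_one_iff_unique.1 hone).1
  have e := Subsingleton.elim (α := {a : Y // orderOf a = 2})
    ⟨⟨n * t * n⁻¹, hnty⟩, by rw [Subgroup.orderOf_mk, orderOf_conj, ht]⟩
    ⟨⟨t, mem_centralizer_singleton_iff.2 hcom.eq⟩, by rw [Subgroup.orderOf_mk, ht]⟩
  simp only [Subtype.mk.injEq] at e
  exact mem_centralizer_singleton_iff.2 (mul_inv_eq_iff_eq_mul.1 e)

theorem centralizer_two {t : G} (ht : orderOf t = 2) :
    Nat.card (centralizer ({t} : Set G)) = 2688 := by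
  have hd := h.centralizer_two_dvd ht
  have hle := (index_le_cntOrd ht).1
  rw [h.cnt_two] at hle
  have hmul := Subgroup.card_mul_index (centralizer ({t} : Set G))
  rw [h.card] at hmul
  have hge : 2688 ≤ Nat.card (centralizer ({t} : Set G)) := by
    by_contra hlt
    have := Nat.mul_le_mul (show Nat.card (centralizer ({t} : Set G)) ≤ 2687 by omega) hle
    omega
  obtain ⟨k, hk⟩ := hd
  have hk3 : k ≤ 3 := by
    by_contra hlt
    have := Nat.mul_le_mul hge (show 4 ≤ k by omega)
    omega
  set C := centralizer ({t} : Set G) with hCdef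
  rcases (show Nat.card C = 2688 ∨ Nat.card C = 4032 ∨ Nat.card C = 8064 by interval_cases k <;> omega) with e | e | e
  · exact e
  all_goals
    exfalso
    have : Fact (Nat.Prime 7) := ⟨by norm_num⟩
    obtain ⟨y, hy⟩ := exists_prime_orderOf_dvd_card' (G := C) 7 (by rw [e]; norm_num)
    have hy' : orderOf (y : G) = 7 := (Subgroup.orderOf_coe y).trans hy
    have hN : Nat.card (normalizer (zpowers y : Set C)) = 42 := by
      rw [← Subgroup.card_map_of_injective C.subtype_injective, map_subtype_normalizer,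
        inf_eq_left.2 (h.normalizer_seven_le ht hy' y.2), h.normalizer_seven hy']
    have hm := card_normalizer_zpowers (G := C) (by norm_num : Nat.Prime 7) (by rw [e]; norm_num) hy
    rw [hN, e] at hm
    have h1 := card_sylow_modEq_one 7 C
    rw [Nat.ModEq] at h1
    omega

theorem isConj_two {s t : G} (hs : orderOf s = 2) (ht : orderOf t = 2) : IsConj s t := by
  refine (index_le_cntOrd hs).2 ?_ t ht
  have hmul := Subgroup.card_mul_index (centralizer ({s} : Set G))
  rw [h.card, h.centralizer_two hs] at hmul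
  rw [h.cnt_two]
  omega

/-- An element of order six is the same as an involution with a commuting element of order three. -/
theorem card_pairs : Nat.card (Σ t : {t : G // orderOf t = 2},
    {x : centralizer ({t.1} : Set G) // orderOf x = 3}) = 850080 := by
  rw [← h.cnt_six.1, cntOrd]
  have hcomm : ∀ p : (Σ t : {t : G // orderOf t = 2}, {x : centralizer ({t.1} : Set G) // orderOf x = 3}),
      Commute (p.2.1 : G) p.1.1 := fun p => mem_centralizer_singleton_iff.1 p.2.1.2
  have hox : ∀ p : (Σ t : {t : G // orderOf t = 2}, {x : centralizer ({t.1} : Set G) // orderOf x = 3}),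
      orderOf (p.2.1 : G) = 3 := fun p => (Subgroup.orderOf_coe _).trans p.2.2
  have key : ∀ (s₁ s₂ : {t : G // orderOf t = 2}) (a : {x : centralizer ({s₁.1} : Set G) // orderOf x = 3})
      (b : {x : centralizer ({s₂.1} : Set G) // orderOf x = 3}), s₁ = s₂ → (a.1 : G) = b.1 →
      (⟨s₁, a⟩ : Σ t : {t : G // orderOf t = 2}, {x : centralizer ({t.1} : Set G) // orderOf x = 3}) =
        ⟨s₂, b⟩ := by
    rintro s₁ _ a b rfl e
    rw [Subtype.ext (Subtype.ext e)]
  refine Nat.card_congr
    { toFun := fun p => ⟨(p.2.1 : G) * p.1.1, by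
        rw [(hcomm p).orderOf_mul_eq_mul_orderOf_of_coprime (by rw [hox p, p.1.2]; norm_num), hox p, p.1.2]⟩
      invFun := fun g => ⟨⟨g.1 ^ 3, by rw [orderOf_pow, g.2]; rfl⟩,
        ⟨⟨g.1 ^ 4, mem_centralizer_singleton_iff.2 (((Commute.refl g.1).pow_left 4).pow_right 3).eq⟩,
          by rw [Subgroup.orderOf_mk, orderOf_pow, g.2]; rfl⟩⟩
      left_inv := ?_
      right_inv := ?_ }
  · rintro ⟨⟨t, ht⟩, ⟨⟨x, hxC⟩, hx⟩⟩
    rw [Subgroup.orderOf_mk] at hx
    have hc : Commute x t := mem_centralizer_singleton_iff.1 hxC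
    have x3 : x ^ 3 = 1 := hx ▸ pow_orderOf_eq_one x
    have t2 : t ^ 2 = 1 := ht ▸ pow_orderOf_eq_one t
    have e1 : (x * t) ^ 4 = x := by
      rw [hc.mul_pow, show (4 : ℕ) = 3 + 1 by rfl, pow_succ, x3, one_mul,
        show (3 + 1 : ℕ) = 2 * 2 by rfl, pow_mul, t2, one_pow, mul_one]
    have e2 : (x * t) ^ 3 = t := by
      rw [hc.mul_pow, x3, one_mul, show (3 : ℕ) = 2 + 1 by rfl, pow_succ, t2, one_mul]
    exact key _ _ _ _ (Subtype.ext e2) e1
  · rintro ⟨g, hg⟩
    refine Subtype.ext ?_
    show g ^ 4 * g ^ 3 = g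
    rw [← pow_add, show 4 + 3 = orderOf g + 1 by rw [hg], pow_succ, pow_orderOf_eq_one, one_mul]

theorem cnt_three_two {t : G} (ht : orderOf t = 2) : cntOrd (centralizer ({t} : Set G)) 3 = 224 := by
  classical
  have := Fintype.ofFinite G
  have hall : ∀ s : {s : G // orderOf s = 2}, Nat.card {x : centralizer ({s.1} : Set G) // orderOf x = 3} =
      cntOrd (centralizer ({t} : Set G)) 3 := by
    rintro ⟨s, hs⟩
    obtain ⟨g, rfl⟩ := isConj_iff.1 (h.isConj_two ht hs)
    refine (Nat.card_congr ?_).symm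
    refine Equiv.subtypeEquiv
      ((MulAut.conj g).toEquiv.subtypeEquiv fun c => ⟨fun hc => mem_centralizer_conj hc, fun hc => ?_⟩) fun x => ?_
    · have := mem_centralizer_conj (g := g⁻¹) hc
      simpa [mul_assoc] using this
    · rw [← Subgroup.orderOf_coe x]
      conv_rhs => rw [← Subgroup.orderOf_coe]
      exact Eq.congr_left (MulEquiv.orderOf_eq (MulAut.conj g) (x : G)).symm
  have e := h.card_pairs
  rw [Nat.card_sigma, Finset.sum_congr rfl (fun s _ => hall s), Finset.sum_const, Finset.card_univ,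
    ← Nat.card_eq_fintype_card, show Nat.card {s : G // orderOf s = 2} = 3795 from h.cnt_two,
    smul_eq_mul] at e
  omega

theorem inf_centralizer_dvd {t x : G} (ht : orderOf t = 2) (hx : orderOf x = 3)
    (hxt : x ∈ centralizer ({t} : Set G)) :
    Nat.card (centralizer ({x} : Set G) ⊓ centralizer ({t} : Set G) : Subgroup G) ∣ 24 := by
  set C := centralizer ({t} : Set G) with hCdef
  have : Fact (Nat.Prime 3) := ⟨Nat.prime_three⟩
  have hC : Nat.card C = 2688 := h.centralizer_two ht
  have hd : ¬ 3 * 3 ∣ Nat.card C := by rw [hC]; norm_num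
  have hQ := card_sylow_eq_prime (G := C) (p := 3) (by rw [hC]; norm_num) hd
  have hn3 := cntOrd_prime_eq hQ
  rw [h.cnt_three_two ht] at hn3
  have hy : orderOf (⟨x, hxt⟩ : C) = 3 := by rw [Subgroup.orderOf_mk, hx]
  have hm := card_normalizer_zpowers (G := C) Nat.prime_three hd hy
  rw [hC] at hm
  have hN : Nat.card (normalizer (zpowers (⟨x, hxt⟩ : C) : Set C)) = 24 := by
    rw [show Nat.card (Sylow 3 C) = 112 by omega] at hm
    omega
  have := Subgroup.card_dvd_of_le (centralizer_le_normalizer_zpowers (⟨x, hxt⟩ : C))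
  rw [hN, ← Subgroup.card_map_of_injective C.subtype_injective, map_subtype_centralizer] at this
  exact this

/-- An element of order three commuting with an element of order five. -/
theorem exists_three_five : ∃ x y : G, orderOf x = 3 ∧ orderOf y = 5 ∧ Commute x y := by
  obtain ⟨g, hg⟩ := (cntOrd_ne_zero_iff (G := G) 15).1 (by rw [h.cnt_fifteen]; norm_num)
  exact ⟨g ^ 5, g ^ 3, by rw [orderOf_pow, hg]; rfl, by rw [orderOf_pow, hg]; rfl,
    ((Commute.refl g).pow_left 5).pow_right 3⟩

theorem thirty_dvd {x y : G} (hx : orderOf x = 3) (hy : orderOf y = 5) (hxy : Commute x y) :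
    Nat.card (normalizer (zpowers y : Set G) ⊓ centralizer ({x} : Set G) : Subgroup G) = 30 := by
  classical
  set N := normalizer (zpowers y : Set G) with hN
  have hN60 : Nat.card N = 60 := h.normalizer_five hy
  have hY15 := h.centralizer_five hy
  have htop : centralizer ({y} : Set G) = zpowers (x * y) := by
    refine (Subgroup.eq_of_le_of_card_ge ?_ ?_).symm
    · rw [zpowers_le, mem_centralizer_singleton_iff]
      exact (hxy.mul_left (Commute.refl y)).eq
    · rw [hY15, Nat.card_zpowers, hxy.orderOf_mul_eq_mul_orderOf_of_coprime (by rw [hx, hy]; norm_num), hx, hy]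
  have hxN : x ∈ N := centralizer_le_normalizer_zpowers y (mem_centralizer_singleton_iff.2 hxy.eq)
  set Y := centralizer ({y} : Set G) with hY
  have : IsCyclic Y := by rw [htop]; infer_instance
  have := Fintype.ofFinite Y
  have hthree : Nat.card {a : Y // orderOf a = 3} = 2 := by
    rw [Nat.card_eq_fintype_card, Fintype.card_subtype, IsCyclic.card_orderOf_eq_totient]
    · rfl
    · rw [← Nat.card_eq_fintype_card, hY15]; norm_num
  have hconj : ∀ n ∈ N, n * x * n⁻¹ ∈ Y := by
    intro n hn
    obtain ⟨k, hk⟩ := mem_zpowers_iff.1 ((mem_normalizer_iff''.1 hn y).1 (mem_zpowers y))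
    rw [hY, mem_centralizer_singleton_iff]
    calc n * x * n⁻¹ * y = n * (x * (n⁻¹ * y * n)) * n⁻¹ := by group
      _ = n * ((n⁻¹ * y * n) * x) * n⁻¹ := by rw [← hk, (hxy.zpow_right k).eq]
      _ = y * (n * x * n⁻¹) := by group
  have hidx : (centralizer ({(⟨x, hxN⟩ : N)} : Set N)).index ≤ 2 := by
    rw [← CfsgLib.Characters.card_isConj_eq_index, ← hthree]
    have hmem : ∀ z : N, IsConj ⟨x, hxN⟩ z → (z : G) ∈ Y ∧ orderOf (z : G) = 3 := by
      intro z hz
      obtain ⟨n, hn⟩ := isConj_iff.1 hz
      have e : (z : G) = (n : G) * x * (n : G)⁻¹ := by rw [← hn]; rfl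
      exact ⟨e ▸ hconj n n.2, by rw [e, orderOf_conj, hx]⟩
    refine Nat.card_le_card_of_injective
      (fun z => ⟨⟨(z.1 : G), (hmem z.1 z.2).1⟩, by rw [Subgroup.orderOf_mk]; exact (hmem z.1 z.2).2⟩)
      fun a b e => ?_
    simp only [Subtype.mk.injEq] at e
    exact Subtype.ext (Subtype.ext e)
  have hmul := Subgroup.card_mul_index (centralizer ({(⟨x, hxN⟩ : N)} : Set N))
  rw [hN60, ← Subgroup.card_map_of_injective N.subtype_injective, map_subtype_centralizer] at hmul
  rw [inf_comm]
  have hpos : 0 < (centralizer ({(⟨x, hxN⟩ : N)} : Set N)).index := Nat.pos_of_ne_zero Subgroup.index_ne_zero_of_finite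
  rcases (show (centralizer ({(⟨x, hxN⟩ : N)} : Set N)).index = 1 ∨ (centralizer ({(⟨x, hxN⟩ : N)} : Set N)).index = 2
    by omega) with e | e
  · exfalso
    have hle : N ≤ centralizer ({x} : Set G) := by
      refine le_trans (le_of_eq ?_) (inf_le_left : centralizer ({x} : Set G) ⊓ N ≤ _)
      refine (Subgroup.eq_of_le_of_card_ge inf_le_right ?_).symm
      rw [e, mul_one] at hmul
      rw [hN60]
      exact le_of_eq hmul.symm
    have : Fact (Nat.Prime 2) := ⟨Nat.prime_two⟩
    obtain ⟨S, hS⟩ := Sylow.exists_subgroup_card_pow_prime (G := N) 2 (n := 2) (by rw [hN60]; norm_num)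
    have h12 := h.cnt_twelve
    have hsq : ∀ s : S, s ≠ 1 → orderOf ((s : N) : G) = 2 := by
      intro s hs
      have hd : orderOf ((s : N) : G) ∣ 2 ^ 2 := by
        rw [Subgroup.orderOf_coe, Subgroup.orderOf_coe, ← hS]; exact orderOf_dvd_natCard s
      obtain ⟨j, hj, e⟩ := (Nat.dvd_prime_pow Nat.prime_two).1 hd
      interval_cases j
      · exact absurd (Subtype.ext (Subtype.ext (orderOf_eq_one_iff.1 (by simpa using e)))) hs
      · simpa using e
      · exfalso
        have hc : Commute ((s : N) : G) x := mem_centralizer_singleton_iff.1 (hle (s : N).2)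
        refine (cntOrd_ne_zero_iff 12).2 ⟨((s : N) : G) * x, ?_⟩ h12
        rw [hc.orderOf_mul_eq_mul_orderOf_of_coprime (by rw [e, hx]; norm_num), e, hx]
        norm_num
    have hnc : ∀ v : G, orderOf v = 2 → ¬ Commute v y := fun v hv hc => (cntOrd_ne_zero_iff 10).2
      ⟨v * y, by rw [hc.orderOf_mul_eq_mul_orderOf_of_coprime (by rw [hv, hy]; norm_num), hv, hy]⟩ h.cnt_ten
    have hinv : ∀ v ∈ N, orderOf v = 2 → v * y * v⁻¹ = y⁻¹ := by
      intro v hv hv2
      obtain ⟨k, hk⟩ := mem_zpowers_iff.1 ((mem_normalizer_iff.1 hv y).1 (mem_zpowers y))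
      have hvv : v * v = 1 := by rw [← sq, ← hv2, pow_orderOf_eq_one]
      have hkk : y ^ (k * k) = y := by
        calc y ^ (k * k) = (y ^ k) ^ k := zpow_mul y k k
          _ = (v * y * v⁻¹) ^ k := by rw [hk]
          _ = v * (v * y * v⁻¹) * v⁻¹ := by rw [conj_zpow, hk]
          _ = (v * v) * y * (v * v)⁻¹ := by group
          _ = y := by rw [hvv]; group
      have hdiv : (5 : ℤ) ∣ k * k - 1 := by
        have : y ^ (k * k - 1) = 1 := by rw [zpow_sub, hkk, zpow_one, mul_inv_cancel]
        rw [← orderOf_dvd_iff_zpow_eq_one, hy] at this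
        exact_mod_cast this
      have hor : (5 : ℤ) ∣ k - 1 ∨ (5 : ℤ) ∣ k + 1 := by
        refine Int.Prime.dvd_mul' (by norm_num : Nat.Prime 5) ?_
        exact_mod_cast (show (5 : ℤ) ∣ (k - 1) * (k + 1) by rw [show (k - 1) * (k + 1) = k * k - 1 by ring]; exact hdiv)
      rcases hor with hor | hor
      · exfalso
        have : y ^ (k - 1) = 1 := by rw [← orderOf_dvd_iff_zpow_eq_one, hy]; exact_mod_cast hor
        rw [zpow_sub_one, mul_inv_eq_one] at this
        exact hnc v hv2 (mul_inv_eq_iff_eq_mul.1 (hk.symm.trans this))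
      · have : y ^ (k + 1) = 1 := by rw [← orderOf_dvd_iff_zpow_eq_one, hy]; exact_mod_cast hor
        rw [zpow_add_one, mul_eq_one_iff_eq_inv] at this
        rw [← this, hk]
    have hS4 : 1 < Nat.card {s : S // s ≠ 1} := by
      have := Fintype.ofFinite S
      simp only [Nat.card_eq_fintype_card, Fintype.card_subtype_compl, Fintype.card_subtype_eq] at hS ⊢
      rw [hS]; norm_num
    obtain ⟨⟨a, ha⟩, ⟨b, hb⟩, hab⟩ := Finite.one_lt_card_iff_nontrivial.1 hS4 |>.exists_pair_ne
    have hab' : (a : S) * b⁻¹ ≠ 1 := fun e => hab (Subtype.ext (mul_inv_eq_one.1 e))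
    have h1 := hinv _ (a : N).2 (hsq a ha)
    have h2 := hinv _ (b : N).2 (hsq b hb)
    refine hnc _ (hsq _ hab') ?_
    show (((a * b⁻¹ : S) : N) : G) * y = y * _
    simp only [Subgroup.coe_mul, Subgroup.coe_inv]
    have h2' : ((b : N) : G)⁻¹ * y * ((b : N) : G) = y⁻¹ := by
      have := congrArg (fun z => (((b : N) : G)⁻¹ * z * ((b : N) : G))⁻¹) h2
      simpa [mul_assoc] using this.symm
    calc ((a : N) : G) * ((b : N) : G)⁻¹ * y
        = ((a : N) : G) * (((b : N) : G)⁻¹ * y * ((b : N) : G)) * ((a : N) : G)⁻¹ * ((a : N) : G) * ((b : N) : G)⁻¹ := by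
          group
      _ = (((a : N) : G) * y * ((a : N) : G)⁻¹)⁻¹ * ((a : N) : G) * ((b : N) : G)⁻¹ := by rw [h2']; group
      _ = y * (((a : N) : G) * ((b : N) : G)⁻¹) := by rw [h1]; group
  · rw [e] at hmul
    simp only [hN] at hmul ⊢
    omega

theorem nine_dvd {x : G} (hx : orderOf x = 3) : 9 ∣ Nat.card (centralizer ({x} : Set G)) := by
  have : Fact (Nat.Prime 3) := ⟨Nat.prime_three⟩
  obtain ⟨P, hP⟩ := (IsPGroup.of_card (n := 1)
    (by rw [Nat.card_zpowers, hx, pow_one] : Nat.card (zpowers x) = 3 ^ 1)).exists_le_sylow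
  have hP9 : Nat.card (P : Subgroup G) = 9 := by
    rw [P.card_eq_multiplicity, h.card,
      show (10200960 : ℕ) = 3 ^ 2 * 1133440 by norm_num,
      Nat.factorization_mul_apply_of_coprime (by norm_num), Nat.Prime.factorization_pow Nat.prime_three,
      Finsupp.single_eq_same, Nat.factorization_eq_zero_of_not_dvd (by norm_num)]
    norm_num
  have hcomm := IsPGroup.commutative_of_card_eq_prime_sq (p := 3) (G := (P : Subgroup G))
    (by rw [hP9]; norm_num)
  rw [← hP9]
  exact Subgroup.card_dvd_of_le fun a ha => mem_centralizer_singleton_iff.2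
    (congrArg Subtype.val (hcomm ⟨a, ha⟩ ⟨x, hP (mem_zpowers x)⟩))

theorem centralizer_three_of_five {x y : G} (hx : orderOf x = 3) (hy : orderOf y = 5) (hxy : Commute x y) :
    Nat.card (centralizer ({x} : Set G)) = 180 := by
  set C := centralizer ({x} : Set G) with hC
  have hle := (index_le_cntOrd hx).1
  rw [h.cnt_three, ← hC] at hle
  have hmul := Subgroup.card_mul_index C
  rw [h.card] at hmul
  have hge : 180 ≤ Nat.card C := by
    by_contra hlt
    have := Nat.mul_le_mul (show Nat.card C ≤ 179 by omega) hle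
    omega
  have h30 := h.thirty_dvd hx hy hxy
  have hyC : y ∈ C := mem_centralizer_singleton_iff.2 hxy.symm.eq
  have hd30 : 30 ∣ Nat.card C := h30 ▸ Subgroup.card_dvd_of_le inf_le_right
  have hd9 : 9 ∣ Nat.card C := h.nine_dvd hx
  have hd : Nat.card C ∣ 5760 := by
    have h7 := h.not_big_dvd_centralizer (x := x) (by norm_num : Nat.Prime 7) hx (by norm_num) h.cnt_twentyOne
    have h11 := h.not_big_dvd_centralizer (x := x) (by norm_num : Nat.Prime 11) hx (by norm_num)
      (h.cnt_eq_zero_of_big (p := 11) (by simp) (by norm_num) (by decide))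
    have h23 := h.not_big_dvd_centralizer (x := x) (by norm_num : Nat.Prime 23) hx (by norm_num)
      (h.cnt_eq_zero_of_big (p := 23) (by simp) (by norm_num) (by decide))
    have hd : Nat.card C ∣ 5760 * (7 * 11 * 23) := by
      rw [show (5760 : ℕ) * (7 * 11 * 23) = Nat.card G by rw [h.card]]
      exact card_subgroup_dvd_card _
    refine Nat.Coprime.dvd_of_dvd_mul_right ?_ hd
    exact ((((Nat.Prime.coprime_iff_not_dvd (by norm_num)).2 h7).symm.mul_right
      ((Nat.Prime.coprime_iff_not_dvd (by norm_num)).2 h11).symm)).mul_right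
      ((Nat.Prime.coprime_iff_not_dvd (by norm_num)).2 h23).symm
  have : Fact (Nat.Prime 5) := ⟨by norm_num⟩
  have hy' : orderOf (⟨y, hyC⟩ : C) = 5 := by rw [Subgroup.orderOf_mk, hy]
  have hd25 : ¬ 5 * 5 ∣ Nat.card C := fun e => by
    have := e.trans hd; norm_num at this
  have hm := card_normalizer_zpowers (G := C) (by norm_num : Nat.Prime 5) hd25 hy'
  rw [← Subgroup.card_map_of_injective C.subtype_injective (K := normalizer _), map_subtype_normalizer, h30] at hm
  have h1 := card_sylow_modEq_one 5 C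
  rw [Nat.ModEq] at h1
  obtain ⟨k, hk⟩ := hd
  have hk32 : k ≤ 32 := by
    by_contra hlt
    have := Nat.mul_le_mul hge (show 33 ≤ k by omega)
    omega
  rcases (show Nat.card C = 180 ∨ Nat.card C = 2880 by interval_cases k <;> omega) with e | e
  · exact e
  exfalso
  have : Fact (Nat.Prime 2) := ⟨Nat.prime_two⟩
  obtain ⟨S, hS⟩ := Sylow.exists_subgroup_card_pow_prime (G := C) 2 (n := 6) (by rw [e]; norm_num)
  have hSp : IsPGroup 2 S := IsPGroup.of_card hS
  have : Nontrivial S := Finite.one_lt_card_iff_nontrivial.1 (by rw [hS]; norm_num)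
  have := hSp.center_nontrivial
  obtain ⟨z, hz⟩ := exists_prime_orderOf_dvd_card' (G := center S) 2 (by
    obtain ⟨n, hn⟩ := (hSp.to_subgroup (center S)).exists_card_eq
    have h1 : 1 < Nat.card (center S) := Finite.one_lt_card_iff_nontrivial.2 inferInstance
    rw [hn] at h1 ⊢
    refine dvd_pow_self 2 ?_
    rintro rfl
    norm_num at h1)
  set t : G := (((z : S) : C) : G) with htdef
  have ht : orderOf t = 2 := by rw [htdef, Subgroup.orderOf_coe, Subgroup.orderOf_coe, Subgroup.orderOf_coe, hz]
  have hxt : x ∈ centralizer ({t} : Set G) :=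
    mem_centralizer_singleton_iff.2 (mem_centralizer_singleton_iff.1 ((z : S) : C).2).symm
  have hS' : (S.map C.subtype) ≤ centralizer ({x} : Set G) ⊓ centralizer ({t} : Set G) := by
    rintro _ ⟨s, hs, rfl⟩
    refine ⟨s.2, mem_centralizer_singleton_iff.2 ?_⟩
    exact congrArg (fun w : S => ((w : C) : G)) (Subgroup.mem_center_iff.1 z.2 ⟨s, hs⟩)
  have := (Subgroup.card_dvd_of_le hS').trans (h.inf_centralizer_dvd ht hx hxt)
  rw [Subgroup.card_map_of_injective C.subtype_injective, hS] at this
  norm_num at this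

theorem centralizer_three {x : G} (hx : orderOf x = 3) : Nat.card (centralizer ({x} : Set G)) = 180 := by
  obtain ⟨x₀, y, hx₀, hy, hxy⟩ := h.exists_three_five
  have h0 := h.centralizer_three_of_five hx₀ hy hxy
  have hmul := Subgroup.card_mul_index (centralizer ({x₀} : Set G))
  rw [h.card, h0] at hmul
  obtain ⟨g, rfl⟩ := isConj_iff.1 ((index_le_cntOrd hx₀).2 (by rw [h.cnt_three]; omega) x hx)
  rw [card_centralizer_conj, h0]

theorem counts : Counts G where
  card := h.card
  involutions := h.cnt_two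
  centralizer_two := fun _ ht => h.centralizer_two ht
  centralizer_three := fun _ hx => h.centralizer_three hx
  centralizer_seven := fun _ hy => h.centralizer_seven hy
  normalizer_seven := fun _ hy => h.normalizer_seven hy

end Nse

end CfsgLib.MathieuTwentyThree
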