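import Cfsg.Agent.Lib.MathieuTwentyThree.ReduceCounts

/-!
The element orders of a group with the order counts of the Mathieu group of degree twenty-three.
-/

set_option autoImplicit false
set_option linter.unusedSimpArgs false

namespace CfsgLib.MathieuTwentyThree

open Subgroup CfsgLib.Recog.OrderCounts CfsgLib.MathieuTwentyTwo.NseRoute

universe u

variable {G : Type u} [Group G] [Finite G]

/-- Powers of two that may be element orders. -/
def twoPowers : Finset ℕ := {4, 8, 16, 32, 64, 128}

/-- Composite orders divisible by three that may be element orders. -/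
def threeMults : Finset ℕ := {6, 9, 12, 18, 24, 36, 48, 72, 96, 144, 192, 288, 384, 576, 1152}

/-- A sum of small values is a combination of them. -/
theorem exists_small_comb {f : ℕ → ℕ} (s : Finset ℕ)
    (hs : ∀ n ∈ s, f n = 0 ∨ f n = 318780 ∨ f n = 850080 ∨ f n = 1275120) :
    ∃ a b c : ℕ, ∑ n ∈ s, f n = 106260 * (3 * a + 8 * b + 12 * c) := by
  classical
  induction s using Finset.induction_on with
  | empty => exact ⟨0, 0, 0, by simp⟩
  | @insert x s hx ih =>
    obtain ⟨a, b, c, he⟩ := ih fun n hn => hs n (Finset.mem_insert_of_mem hn)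
    rw [Finset.sum_insert hx, he]
    rcases hs x (Finset.mem_insert_self x s) with e | e | e | e <;> rw [e]
    · exact ⟨a, b, c, by ring⟩
    · exact ⟨a + 1, b, c, by ring⟩
    · exact ⟨a, b + 1, c, by ring⟩
    · exact ⟨a, b, c + 1, by ring⟩

theorem two_part_arith {P Q : ℕ} (hsum : P + Q = 23) (h128 : (3796 + 106260 * P) % 128 = 0) :
    P = 15 ∧ Q = 8 := by omega

namespace Nse

variable (h : Nse G)
include h

theorem cnt_twentyOne : cntOrd G 21 = 0 := by
  have : Fact (Nat.Prime 7) := ⟨by norm_num⟩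
  by_contra hne
  have hd := card_sylow_mul_totient_dvd (h.sylow_eq (p := 7) (by simp)) (m := 21) (by norm_num)
  rw [h.card_sylow_seven, show Nat.totient 21 = 12 by decide] at hd
  rcases h.cnt_value hne with e | e | e | e | e | e | e | e | e | e | e <;> rw [e] at hd <;> norm_num at hd

theorem cnt_ten : cntOrd G 10 = 0 := by
  have : Fact (Nat.Prime 5) := ⟨by norm_num⟩
  by_contra hne
  have hd := card_sylow_mul_totient_dvd (h.sylow_eq (p := 5) (by simp)) (m := 10) (by norm_num)
  rw [h.card_sylow_five, show Nat.totient 10 = 4 by decide] at hd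
  have h10 := dvd_sum_cntOrd (G := G) (n := 10) (by rw [h.card]; norm_num)
  rw [show (10 : ℕ).divisors = {1, 2, 5, 10} by decide] at h10
  simp [Finset.sum_insert, Finset.mem_insert, Finset.mem_singleton, cntOrd_one, h.cnt_two, h.cnt_five] at h10
  rcases h.cnt_value hne with e | e | e | e | e | e | e | e | e | e | e <;> omega

theorem cnt_fifteen : cntOrd G 15 = 1360128 := by
  have : Fact (Nat.Prime 5) := ⟨by norm_num⟩
  have h15 := dvd_sum_cntOrd (G := G) (n := 15) (by rw [h.card]; norm_num)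
  rw [show (15 : ℕ).divisors = {1, 3, 5, 15} by decide] at h15
  simp [Finset.sum_insert, Finset.mem_insert, Finset.mem_singleton, cntOrd_one, h.cnt_three, h.cnt_five] at h15
  have hne : cntOrd G 15 ≠ 0 := by intro e; omega
  have hd := card_sylow_mul_totient_dvd (h.sylow_eq (p := 5) (by simp)) (m := 15) (by norm_num)
  rw [h.card_sylow_five, show Nat.totient 15 = 8 by decide] at hd
  rcases h.cnt_value hne with e | e | e | e | e | e | e | e | e | e | e <;> omega

theorem cnt_fourteen_cases : cntOrd G 14 = 0 ∨ cntOrd G 14 = 1457280 := by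
  have : Fact (Nat.Prime 7) := ⟨by norm_num⟩
  rcases eq_or_ne (cntOrd G 14) 0 with e | hne
  · exact Or.inl e
  right
  have hd := card_sylow_mul_totient_dvd (h.sylow_eq (p := 7) (by simp)) (m := 14) (by norm_num)
  rw [h.card_sylow_seven, show Nat.totient 14 = 6 by decide] at hd
  rcases h.cnt_value hne with e | e | e | e | e | e | e | e | e | e | e <;> omega

theorem centralizer_five {y : G} (hy : orderOf y = 5) : Nat.card (centralizer ({y} : Set G)) = 15 := by
  obtain ⟨g, hg⟩ := (cntOrd_ne_zero_iff (G := G) 15).1 (by rw [h.cnt_fifteen]; norm_num)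
  have hg3 : orderOf (g ^ 3) = 5 := by rw [orderOf_pow, hg]; decide
  have hC : 15 ∣ Nat.card (centralizer ({g ^ 3} : Set G)) :=
    hg ▸ orderOf_dvd_card_centralizer (mem_centralizer_singleton_iff.2 ((Commute.refl g).pow_right 3).eq)
  rw [← card_centralizer_eq_of_prime (by norm_num) (h.not_sq_dvd (by simp)) hy hg3] at hC
  rcases h.centralizer_five_cases hy with e | e | e
  · rw [e] at hC; norm_num at hC
  · exact e
  · exfalso
    have : Fact (Nat.Prime 2) := ⟨Nat.prime_two⟩
    obtain ⟨⟨s, hs⟩, hso⟩ := exists_prime_orderOf_dvd_card' 2 e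
    rw [Subgroup.orderOf_mk] at hso
    have hc : Commute s y := mem_centralizer_singleton_iff.1 hs
    exact (cntOrd_ne_zero_iff 10).2 ⟨s * y, by
      rw [hc.orderOf_mul_eq_mul_orderOf_of_coprime (by rw [hso, hy]; norm_num), hso, hy]⟩ h.cnt_ten

theorem centralizer_seven_dvd {y : G} (hy : orderOf y = 7) : Nat.card (centralizer ({y} : Set G)) ∣ 14 := by
  rcases h.centralizer_seven_cases hy with e | e | e
  · rw [e]; norm_num
  · rw [e]
  · exfalso
    have : Fact (Nat.Prime 3) := ⟨by norm_num⟩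
    obtain ⟨⟨s, hs⟩, hso⟩ := exists_prime_orderOf_dvd_card' 3
      (show 3 ∣ Nat.card (centralizer ({y} : Set G)) by rw [e]; norm_num)
    rw [Subgroup.orderOf_mk] at hso
    have hc : Commute s y := mem_centralizer_singleton_iff.1 hs
    exact (cntOrd_ne_zero_iff 21).2 ⟨s * y, by
      rw [hc.orderOf_mul_eq_mul_orderOf_of_coprime (by rw [hso, hy]; norm_num), hso, hy]⟩ h.cnt_twentyOne

/-- The centraliser of an element of order five, seven, eleven or twenty-three. -/
theorem big_centralizer {p : ℕ} (hp : p = 5 ∨ p = 7 ∨ p = 11 ∨ p = 23) {y : G} (hy : orderOf y = p) :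
    Nat.card (centralizer ({y} : Set G)) ∣ 15 ∨ Nat.card (centralizer ({y} : Set G)) ∣ 14 ∨
      Nat.card (centralizer ({y} : Set G)) ∣ 11 ∨ Nat.card (centralizer ({y} : Set G)) ∣ 23 := by
  rcases hp with rfl | rfl | rfl | rfl
  · exact Or.inl (by rw [h.centralizer_five hy])
  · exact Or.inr (Or.inl (h.centralizer_seven_dvd hy))
  · exact Or.inr (Or.inr (Or.inl (by rw [h.centralizer_eleven hy])))
  · exact Or.inr (Or.inr (Or.inr (by rw [h.centralizer_twentyThree hy])))

theorem orderOf_cases (g : G) :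
    orderOf g ∈ ({1, 2, 3, 5, 7, 11, 23, 14, 15} : Finset ℕ) ∨ orderOf g ∣ 1152 := by
  by_cases hb : ∃ p : ℕ, (p = 5 ∨ p = 7 ∨ p = 11 ∨ p = 23) ∧ p ∣ orderOf g
  · left
    obtain ⟨p, hp, hd⟩ := hb
    have hpp : p.Prime := by rcases hp with rfl | rfl | rfl | rfl <;> norm_num
    have hy := orderOf_pow_orderOf_div (orderOf_pos g).ne' hd
    have hmem : g ∈ centralizer ({g ^ (orderOf g / p)} : Set G) :=
      mem_centralizer_singleton_iff.2 ((Commute.refl g).pow_right _).eq
    have hgd := orderOf_dvd_card_centralizer hmem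
    have key : ∀ m ∈ ({15, 14, 11, 23} : Finset ℕ), ∀ o ∈ m.divisors,
        o ∈ ({1, 2, 3, 5, 7, 11, 23, 14, 15} : Finset ℕ) := by decide +kernel
    rcases h.big_centralizer hp hy with e | e | e | e
    · exact key 15 (by decide) _ (Nat.mem_divisors.2 ⟨hgd.trans e, by norm_num⟩)
    · exact key 14 (by decide) _ (Nat.mem_divisors.2 ⟨hgd.trans e, by norm_num⟩)
    · exact key 11 (by decide) _ (Nat.mem_divisors.2 ⟨hgd.trans e, by norm_num⟩)
    · exact key 23 (by decide) _ (Nat.mem_divisors.2 ⟨hgd.trans e, by norm_num⟩)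
  · right
    push Not at hb
    have hd : orderOf g ∣ 1152 * 8855 := by
      rw [show (1152 : ℕ) * 8855 = Nat.card G by rw [h.card]]; exact orderOf_dvd_natCard g
    refine Nat.Coprime.dvd_of_dvd_mul_right ?_ hd
    rw [show (8855 : ℕ) = 5 * 7 * 11 * 23 by norm_num]
    have hco : ∀ p : ℕ, (p = 5 ∨ p = 7 ∨ p = 11 ∨ p = 23) → (orderOf g).Coprime p := fun p hp =>
      ((Nat.Prime.coprime_iff_not_dvd (by rcases hp with rfl | rfl | rfl | rfl <;> norm_num)).2 (hb p hp)).symm
    exact (((hco 5 (by simp)).mul_right (hco 7 (by simp))).mul_right (hco 11 (by simp))).mul_right (hco 23 (by simp))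

theorem cnt_small {n : ℕ} (hn : n ∣ 1152) (hn4 : 4 ≤ n) :
    cntOrd G n = 0 ∨ cntOrd G n = 318780 ∨ cntOrd G n = 850080 ∨ cntOrd G n = 1275120 := by
  have hdvd : 8855 ∣ cntOrd G n := by
    refine CfsgLib.Recog.NSEEleven.dvd_card_orderOf fun x hx => ?_
    have hmul : 8855 ∣ Nat.card (centralizer ({x} : Set G)) * (centralizer ({x} : Set G)).index := by
      rw [Subgroup.card_mul_index, h.card]; norm_num
    have hno : ∀ p, (p = 5 ∨ p = 7 ∨ p = 11 ∨ p = 23) → ¬ p ∣ Nat.card (centralizer ({x} : Set G)) := by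
      intro p hp hd
      have hpp : p.Prime := by rcases hp with rfl | rfl | rfl | rfl <;> norm_num
      have := Fact.mk hpp
      obtain ⟨⟨y, hy⟩, hyo⟩ := exists_prime_orderOf_dvd_card' p hd
      rw [Subgroup.orderOf_mk] at hyo
      have hxy : x ∈ centralizer ({y} : Set G) :=
        mem_centralizer_singleton_iff.2 (mem_centralizer_singleton_iff.1 hy).symm
      have hd' := orderOf_dvd_card_centralizer hxy
      rw [hx] at hd'
      rcases h.big_centralizer hp hyo with e | e | e | e
      all_goals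
        have h1 := Nat.le_of_dvd (by norm_num) ((Nat.dvd_gcd (hd'.trans e) hn).trans (dvd_refl _))
        norm_num at h1
        omega
    refine Nat.Coprime.dvd_of_dvd_mul_left ?_ hmul
    rw [show (8855 : ℕ) = 5 * 7 * 11 * 23 by norm_num]
    have hco : ∀ p : ℕ, (p = 5 ∨ p = 7 ∨ p = 11 ∨ p = 23) →
        p.Coprime (Nat.card (centralizer ({x} : Set G))) := fun p hp =>
      (Nat.Prime.coprime_iff_not_dvd (by rcases hp with rfl | rfl | rfl | rfl <;> norm_num)).2 (hno p hp)
    exact (((hco 5 (by simp)).mul_left (hco 7 (by simp))).mul_left (hco 11 (by simp))).mul_left (hco 23 (by simp))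
  rcases eq_or_ne (cntOrd G n) 0 with e | e
  · exact Or.inl e
  rcases h.cnt_value e with e' | e' | e' | e' | e' | e' | e' | e' | e' | e' | e'
  all_goals (first | omega | (rw [e'] at hdvd; norm_num at hdvd))

theorem cnt_twoPowers {n : ℕ} (hn : n ∈ twoPowers) :
    cntOrd G n = 0 ∨ cntOrd G n = 318780 ∨ cntOrd G n = 850080 ∨ cntOrd G n = 1275120 := by
  have key : ∀ m ∈ twoPowers, m ∣ 1152 ∧ 4 ≤ m := by decide +kernel
  exact h.cnt_small (key n hn).1 (key n hn).2

theorem cnt_threeMults {n : ℕ} (hn : n ∈ threeMults) :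
    cntOrd G n = 0 ∨ cntOrd G n = 318780 ∨ cntOrd G n = 850080 ∨ cntOrd G n = 1275120 := by
  have key : ∀ m ∈ threeMults, m ∣ 1152 ∧ 4 ≤ m := by decide +kernel
  exact h.cnt_small (key n hn).1 (key n hn).2

theorem total : 1 + 3795 + 56672 + 680064 + 1457280 + 1854720 + 887040 + cntOrd G 14 + 1360128 +
    ∑ n ∈ twoPowers, cntOrd G n + ∑ n ∈ threeMults, cntOrd G n = 10200960 := by
  classical
  have hD : ∀ g : G, orderOf g ∈
      ({1, 2, 3, 5, 7, 11, 23, 14, 15} : Finset ℕ) ∪ (twoPowers ∪ threeMults) := by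
    intro g
    rcases h.orderOf_cases g with e | e
    · exact Finset.mem_union_left _ e
    · have key : ∀ o ∈ Nat.divisors 1152, o ∈
          ({1, 2, 3, 5, 7, 11, 23, 14, 15} : Finset ℕ) ∪ (twoPowers ∪ threeMults) := by decide +kernel
      exact key _ (Nat.mem_divisors.2 ⟨e, by norm_num⟩)
  have e := card_eq_sum (G := G) hD
  rw [Finset.sum_union (by decide), Finset.sum_union (by decide), h.card] at e
  simp [Finset.sum_insert, Finset.mem_insert, Finset.mem_singleton, Finset.sum_singleton,
    OfNat.one_ne_ofNat, or_self, not_false_eq_true, cntOrd_one, h.cnt_two, h.cnt_three, h.cnt_five,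
    h.cnt_seven, h.cnt_eleven, h.cnt_twentyThree, h.cnt_fifteen] at e
  omega

theorem cnt_fourteen : cntOrd G 14 = 1457280 := by
  obtain ⟨a, b, c, e2⟩ := exists_small_comb (f := cntOrd G) twoPowers fun n hn => h.cnt_twoPowers hn
  obtain ⟨a', b', c', e3⟩ := exists_small_comb (f := cntOrd G) threeMults fun n hn => h.cnt_threeMults hn
  have ht := h.total
  rcases h.cnt_fourteen_cases with e | e <;> omega

theorem centralizer_seven {y : G} (hy : orderOf y = 7) : Nat.card (centralizer ({y} : Set G)) = 14 := by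
  obtain ⟨g, hg⟩ := (cntOrd_ne_zero_iff (G := G) 14).1 (by rw [h.cnt_fourteen]; norm_num)
  have hg2 : orderOf (g ^ 2) = 7 := by rw [orderOf_pow, hg]; decide
  have hC : 14 ∣ Nat.card (centralizer ({g ^ 2} : Set G)) :=
    hg ▸ orderOf_dvd_card_centralizer (mem_centralizer_singleton_iff.2 ((Commute.refl g).pow_right 2).eq)
  rw [← card_centralizer_eq_of_prime (by norm_num) (h.not_sq_dvd (by simp)) hy hg2] at hC
  exact Nat.dvd_antisymm (h.centralizer_seven_dvd hy) hC

theorem cnt_six : cntOrd G 6 = 850080 ∧ ∀ n ∈ threeMults, n ≠ 6 → cntOrd G n = 0 := by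
  classical
  obtain ⟨a, b, c, e2⟩ := exists_small_comb (f := cntOrd G) twoPowers fun n hn => h.cnt_twoPowers hn
  obtain ⟨a', b', c', e3⟩ := exists_small_comb (f := cntOrd G) threeMults fun n hn => h.cnt_threeMults hn
  have ht := h.total
  have h128 := dvd_sum_cntOrd (G := G) (n := 128) (by rw [h.card]; norm_num)
  rw [show (128 : ℕ).divisors = {1, 2} ∪ twoPowers by decide +kernel,
    Finset.sum_union (by decide)] at h128
  simp [Finset.sum_insert, cntOrd_one, h.cnt_two] at h128
  rw [h.cnt_fourteen, e2, e3] at ht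
  rw [e2] at h128
  generalize hP : 3 * a + 8 * b + 12 * c = P at ht h128
  generalize hQ : 3 * a' + 8 * b' + 12 * c' = Q at ht e3
  obtain ⟨-, hQ8⟩ := two_part_arith (P := P) (Q := Q) (by omega) (by omega)
  rw [hQ8] at e3
  have hsplit : cntOrd G 6 + ∑ n ∈ threeMults.erase 6, cntOrd G n = 106260 * 8 :=
    (Finset.add_sum_erase _ _ (by decide)).trans e3
  have h9 : cntOrd G 9 = 0 := by
    have h9' := dvd_sum_cntOrd (G := G) (n := 9) (by rw [h.card]; norm_num)
    rw [show (9 : ℕ).divisors = {1, 3, 9} by decide] at h9'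
    simp [Finset.sum_insert, Finset.mem_insert, Finset.mem_singleton, cntOrd_one, h.cnt_three] at h9'
    have hle : cntOrd G 9 ≤ 106260 * 8 := e3 ▸ Finset.single_le_sum (f := cntOrd G)
      (fun _ _ => Nat.zero_le _) (by decide : 9 ∈ threeMults)
    have hsplit9 : cntOrd G 9 + ∑ n ∈ threeMults.erase 9, cntOrd G n = 106260 * 8 :=
      (Finset.add_sum_erase _ _ (by decide)).trans e3
    obtain ⟨a9, b9, c9, e9⟩ := exists_small_comb (f := cntOrd G) (threeMults.erase 9)
      fun n hn => h.cnt_threeMults (Finset.mem_of_mem_erase hn)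
    rw [e9] at hsplit9
    rcases h.cnt_threeMults (n := 9) (by decide) with e | e | e | e
    · exact e
    · exfalso; omega
    · exfalso; omega
    · exfalso; omega
  have hz : ∀ n ∈ threeMults, cntOrd G n ≠ 0 → cntOrd G 6 ≠ 0 := by
    intro n hn hne
    have key : ∀ m ∈ threeMults, 6 ∣ m ∨ 9 ∣ m := by decide +kernel
    exact (key n hn).elim (fun e => cntOrd_ne_zero_of_dvd e hne)
      (fun e => absurd h9 (cntOrd_ne_zero_of_dvd e hne))
  have h6ne : cntOrd G 6 ≠ 0 := by
    intro e0
    have : ∑ n ∈ threeMults, cntOrd G n = 0 := Finset.sum_eq_zero fun n hn => by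
      by_contra hne
      exact hz n hn hne e0
    omega
  obtain ⟨a'', b'', c'', e4⟩ := exists_small_comb (f := cntOrd G) (threeMults.erase 6)
    fun n hn => h.cnt_threeMults (Finset.mem_of_mem_erase hn)
  rw [e4] at hsplit
  have h6v : cntOrd G 6 = 850080 := by
    rcases h.cnt_threeMults (n := 6) (by decide) with e | e | e | e <;> omega
  refine ⟨h6v, fun n hn hn6 => ?_⟩
  have h0 : ∑ m ∈ threeMults.erase 6, cntOrd G m = 0 := by omega
  exact Finset.sum_eq_zero_iff.1 h0 n (Finset.mem_erase.2 ⟨hn6, hn⟩)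

theorem cnt_twelve : cntOrd G 12 = 0 := h.cnt_six.2 12 (by decide) (by norm_num)

end Nse

end CfsgLib.MathieuTwentyThree
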